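import Mathlib
import Cfsg.Agent.Lib.Orth.Omega

/-!
Counting the vectors on which a quadratic form over a finite field of odd order takes a value.
-/

set_option autoImplicit false

namespace CfsgLib.OmOre

open QuadraticMap Module CfsgLib.Orth

universe u

variable {F : Type*} [Field F]

/-- the number of solutions of `f x = e` -/
noncomputable def cnt {X : Type*} (f : X → F) (e : F) : ℤ := Nat.card {x // f x = e}

theorem cnt_eq_sum {X : Type*} [Fintype X] [DecidableEq F] (f : X → F) (e : F) :
    cnt f e = ∑ x, if f x = e then 1 else 0 := by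
  rw [cnt, Nat.card_eq_fintype_card, Fintype.card_subtype, Finset.card_filter]
  push_cast
  rfl

theorem cnt_congr {X Y : Type*} (E : X ≃ Y) {f : X → F} {g : Y → F} (h : ∀ x, g (E x) = f x)
    (e : F) : cnt g e = cnt f e := by
  rw [cnt, cnt, Nat.card_congr (E.subtypeEquiv (p := fun x => f x = e) (q := fun y => g y = e)
    fun x => by rw [h])]

theorem cnt_nonneg {X : Type*} (f : X → F) (e : F) : 0 ≤ cnt f e := Int.natCast_nonneg _

theorem cnt_le {X : Type*} [Finite X] (f : X → F) (e : F) : cnt f e ≤ Nat.card X := by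
  rw [cnt]
  exact_mod_cast Finite.card_subtype_le _

theorem cnt_prod {X Y : Type*} [Finite X] [Fintype Y] (f : X → F) (g : Y → F) (e : F) :
    cnt (fun p : X × Y => f p.1 + g p.2) e = ∑ y, cnt f (e - g y) := by
  classical
  have := Fintype.ofFinite X
  simp only [cnt_eq_sum, Fintype.sum_prod_type_right, eq_sub_iff_add_eq]

variable [Fintype F] [DecidableEq F]

theorem sum_fiber {X : Type*} [Fintype X] (f : X → F) (h : F → ℤ) :
    ∑ x, h (f x) = ∑ s, cnt f s * h s := by
  simp only [cnt_eq_sum, Finset.sum_mul]
  rw [Finset.sum_comm]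
  refine Finset.sum_congr rfl fun x _ => ?_
  simp

theorem ringChar_ne (h2 : (2 : F) ≠ 0) : ringChar F ≠ 2 := fun h =>
  h2 (by have := ringChar.Nat.cast_ringChar (R := F); rw [h] at this; exact_mod_cast this)

theorem cnt_sq (h2 : (2 : F) ≠ 0) {a : F} (ha : a ≠ 0) (s : F) :
    cnt (fun t : F => t * t * a) s = quadraticChar F (a * s) + 1 := by
  have h1 := quadraticChar_card_sqrts (ringChar_ne h2) (s / a)
  have h3 : quadraticChar F (a * s) = quadraticChar F (s / a) := by
    rw [show a * s = a ^ 2 * (s / a) by field_simp, map_mul, quadraticChar_sq_one' ha, one_mul]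
  rw [h3, ← h1, cnt, Set.toFinset_card, ← Nat.card_eq_fintype_card]
  congr 1
  exact Nat.card_congr (Equiv.subtypeEquivRight fun t => by
    rw [Set.mem_setOf_eq, eq_div_iff ha, pow_two])

theorem cnt_bin (h2 : (2 : F) ≠ 0) {a b : F} (ha : a ≠ 0) (hb : b ≠ 0) :
    ∃ η : ℤ, |η| = 1 ∧ ∀ u, cnt (fun p : F × F => p.1 * p.1 * a + p.2 * p.2 * b) u =
      Fintype.card F - η + if u = 0 then Fintype.card F * η else 0 := by
  set χ := quadraticChar F with hχ
  have hr := ringChar_ne h2
  refine ⟨χ (-(a * b)), ?_, fun u => ?_⟩
  · rcases quadraticChar_dichotomy (neg_ne_zero.2 (mul_ne_zero ha hb)) with h | h <;>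
      rw [hχ, h] <;> simp
  rw [cnt_prod (fun t : F => t * t * a) (fun t : F => t * t * b),
    sum_fiber (fun t : F => t * t * b) (fun s => cnt (fun t : F => t * t * a) (u - s))]
  simp only [cnt_sq h2 ha, cnt_sq h2 hb, ← hχ]
  have e1 : ∑ s : F, χ s = 0 := quadraticChar_sum_zero hr
  have e2 : ∑ s : F, χ (u - s) = 0 := by
    rw [← e1]; exact Fintype.sum_equiv (Equiv.subLeft u) _ _ fun _ => rfl
  have e3 : ∑ s : F, χ s * χ (u - s) = if u = 0 then χ (-1) * (Fintype.card F - 1) else -χ (-1) := by
    split_ifs with hu
    · subst hu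
      have : ∀ s : F, χ s * χ (0 - s) = χ (-1) * (1 - if s = 0 then 1 else 0) := fun s => by
        split_ifs with hs
        · rw [hs, MulChar.map_zero]; simp
        · rw [zero_sub, ← neg_one_mul s, map_mul, mul_left_comm, ← pow_two,
            quadraticChar_sq_one hs, sub_zero]
      simp only [this, ← Finset.mul_sum, Finset.sum_sub_distrib]
      simp
    · rw [← jacobiSum_nontrivial_inv (quadraticChar_ne_one hr), (quadraticChar_isQuadratic F).inv,
        jacobiSum]
      symm
      refine Fintype.sum_equiv (Equiv.mulLeft₀ u hu) _ _ fun t => ?_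
      rw [Equiv.mulLeft₀_apply, show u - u * t = u * (1 - t) by ring, map_mul, map_mul]
      have := quadraticChar_sq_one hu
      linear_combination (-(χ t * χ (1 - t))) * this
  have e4 : ∀ s : F, (χ (b * s) + 1) * (χ (a * (u - s)) + 1) =
      χ a * χ b * (χ s * χ (u - s)) + χ b * χ s + χ a * χ (u - s) + 1 := fun s => by
    rw [map_mul, map_mul]; ring
  have e5 : χ (-(a * b)) = χ (-1) * (χ a * χ b) := by rw [← map_mul, ← map_mul, neg_one_mul]
  simp only [e4, Finset.sum_add_distrib, ← Finset.mul_sum, e1, e2, e3, e5]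
  split_ifs <;> simp <;> ring

omit [Fintype F] [DecidableEq F] in
/-- splitting off a non-singular vector -/
theorem strip {V : Type*} [AddCommGroup V] [Module F V] [FiniteDimensional F V] (h2 : (2 : F) ≠ 0)
    (R : QuadraticForm F V) {u : V} (hu : R u ≠ 0) :
    ∃ (W : Submodule F V) (E : (F × W) ≃ V), finrank F W + 1 = finrank F V ∧
      finrank F (LinearMap.ker (polarBilin (R.comp W.subtype))) ≤
        finrank F (LinearMap.ker (polarBilin R)) ∧ ∀ p, R (E p) = p.1 * p.1 * R u + R p.2 := by
  let W := LinearMap.ker (polarBilin R u)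
  have hW : ∀ w : W, polar R u w = 0 := fun w => w.2
  have h0 : 2 * R u ≠ 0 := mul_ne_zero h2 hu
  let E : (F × W) ≃ₗ[F] V :=
    { toFun := fun p => p.1 • u + p.2
      map_add' := fun p q => by simp [add_smul]; abel
      map_smul' := fun c p => by simp [mul_smul]
      invFun := fun v => ((2 * R u)⁻¹ * polar R u v, ⟨v - ((2 * R u)⁻¹ * polar R u v) • u, by
        change polar R u _ = 0
        rw [polar_sub_right, polar_smul_right, polar_self', smul_eq_mul]
        field_simp
        ring⟩)
      left_inv := fun p => by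
        have : (2 * R u)⁻¹ * polar R u (p.1 • u + p.2) = p.1 := by
          rw [polar_add_right, polar_smul_right, polar_self', hW, smul_eq_mul]
          field_simp
          ring
        ext
        · exact this
        · change p.1 • u + p.2 - ((2 * R u)⁻¹ * polar R u (p.1 • u + p.2)) • u = p.2
          rw [this, add_sub_cancel_left]
      right_inv := fun v => by simp }
  have hE : ∀ p, E p = p.1 • u + p.2 := fun _ => rfl
  refine ⟨W, E.toEquiv, ?_, ?_, fun p => ?_⟩
  · rw [← E.finrank_eq, finrank_prod, finrank_self, add_comm]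
  · rw [← Submodule.finrank_map_subtype_eq]
    refine Submodule.finrank_mono ?_
    rintro _ ⟨w, hw, rfl⟩
    ext v
    obtain ⟨p, rfl⟩ := E.surjective v
    have := LinearMap.congr_fun hw p.2
    change polar R w (E p) = 0
    rw [hE, polar_add_right, polar_smul_right, polar_comm, hW, smul_zero, zero_add]
    simpa [polar] using this
  · change R (p.1 • u + p.2) = _
    rw [Q_add, Q_smul, polar_smul_left, hW, smul_zero, add_zero]

omit [Fintype F] [DecidableEq F] in
theorem exists_ne_zero {V : Type*} [AddCommGroup V] [Module F V] [FiniteDimensional F V]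
    (R : QuadraticForm F V) (h : finrank F (LinearMap.ker (polarBilin R)) < finrank F V) :
    ∃ u, R u ≠ 0 := by
  by_contra hcon
  push Not at hcon
  have : LinearMap.ker (polarBilin R) = ⊤ := by
    rw [LinearMap.ker_eq_top]
    ext x y
    simp [polar, hcon]
  rw [this, finrank_top] at h
  exact lt_irrefl _ h

theorem dev_le (h2 : (2 : F) ≠ 0) (k : ℕ) : ∀ (V : Type u) [AddCommGroup V] [Module F V] [Finite V]
    (R : QuadraticForm F V), finrank F (LinearMap.ker (polarBilin R)) + 2 * k ≤ finrank F V →
    ∀ e, (Fintype.card F : ℤ) ^ k * |Fintype.card F * cnt R e - Nat.card V| ≤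
      (if e = 0 then (Fintype.card F : ℤ) - 1 else 1) * Nat.card V := by
  classical
  have hq : (2 : ℤ) ≤ Fintype.card F := by exact_mod_cast Fintype.one_lt_card
  induction k with
  | zero =>
    intro V _ _ _ R _ e
    have h0 := cnt_nonneg R e
    have h1 := cnt_le R e
    rw [pow_zero, one_mul, abs_le]
    split_ifs with he
    · constructor <;> nlinarith
    · refine ⟨by nlinarith, ?_⟩
      by_cases hR : ∃ u, R u ≠ 0
      · obtain ⟨u, hu⟩ := hR
        obtain ⟨W, E, -, -, hE⟩ := strip h2 R hu
        have := Fintype.ofFinite W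
        rw [cnt_congr E hE, ← Nat.card_congr E, Nat.card_prod,
          cnt_prod (fun t : F => t * t * R u) (fun w : W => R w), Nat.card_eq_fintype_card,
          Nat.card_eq_fintype_card]
        have : ∑ w : W, cnt (fun t : F => t * t * R u) (e - R w) ≤ ∑ w : W, (2 : ℤ) :=
          Finset.sum_le_sum fun w _ => by
            rw [cnt_sq h2 hu]
            rcases quadraticChar_isQuadratic F (R u * (e - R w)) with h | h | h <;> rw [h] <;>
              norm_num
        rw [Finset.sum_const, Finset.card_univ, nsmul_eq_mul] at this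
        push_cast
        nlinarith
      · push Not at hR
        have : cnt R e = 0 := by
          have := Fintype.ofFinite V
          simp [cnt_eq_sum, hR, Ne.symm he]
        rw [this]
        omega
  | succ k ih =>
    intro V _ _ _ R hk e
    obtain ⟨u, hu⟩ := exists_ne_zero R (by omega)
    obtain ⟨W, E, a1, a2, hE⟩ := strip h2 R hu
    obtain ⟨v, hv⟩ := exists_ne_zero (R.comp W.subtype) (by omega)
    obtain ⟨W', E', b1, b2, hE'⟩ := strip h2 _ hv
    have := Fintype.ofFinite W'
    obtain ⟨η, hη, hc⟩ := cnt_bin h2 hu hv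
    have h3 := ih W' ((R.comp W.subtype).comp W'.subtype) (by omega) e
    set R' := (R.comp W.subtype).comp W'.subtype with hR'
    let E'' : ((F × F) × W') ≃ V :=
      (Equiv.prodAssoc _ _ _).trans ((Equiv.prodCongr (Equiv.refl F) E').trans E)
    have h4 : cnt R e = (Fintype.card F - η) * Nat.card W' + Fintype.card F * η * cnt R' e := by
      rw [cnt_congr E'' (f := fun p => (p.1.1 * p.1.1 * R u + p.1.2 * p.1.2 * R.comp W.subtype v)
        + R' p.2) (fun p => by
          have := hE' (p.1.2, p.2)
          change R (E (p.1.1, E' (p.1.2, p.2))) = _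
          rw [hE, add_assoc]
          congr 1),
        cnt_prod (fun p : F × F => p.1 * p.1 * R u + p.2 * p.2 * R.comp W.subtype v)
          (fun w : W' => R' w)]
      simp only [hc, Finset.sum_add_distrib, cnt_eq_sum, Finset.mul_sum, sub_eq_zero, mul_ite,
        mul_one, mul_zero, eq_comm (a := e)]
      simp only [Finset.sum_const, Finset.card_univ, nsmul_eq_mul, Nat.card_eq_fintype_card]
      ring
    have h5 : (Nat.card V : ℤ) = Fintype.card F * Fintype.card F * Nat.card W' := by
      rw [← Nat.card_congr E'', Nat.card_prod, Nat.card_prod, Nat.card_eq_fintype_card]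
      push_cast
      rfl
    have h6 : Fintype.card F * cnt R e - Nat.card V =
        (Fintype.card F * η) * (Fintype.card F * cnt R' e - Nat.card W') := by
      rw [h4, h5]; ring
    rw [h6, abs_mul, abs_mul, hη, abs_of_nonneg (by omega : (0 : ℤ) ≤ Fintype.card F), h5]
    calc _ = (Fintype.card F * Fintype.card F : ℤ) * ((Fintype.card F : ℤ) ^ k *
          |Fintype.card F * cnt R' e - Nat.card W'|) := by ring
      _ ≤ _ := mul_le_mul_of_nonneg_left h3 (by positivity)
      _ = _ := by ring

end CfsgLib.OmOre
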