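import Mathlib
import Cfsg.Agent.Lib.SpOre.Main

/-!
Wonenburger's theorem in a balanced form: for an isometry `g` of a symmetric space there is an
orthogonal splitting `P ⊥ N` inverting `g` with `dim (P ∩ ker (g+1))` and `dim (N ∩ ker (g+1))`
differing by at most one.
-/

set_option autoImplicit false

namespace CfsgLib.OmOre

open Module Submodule Polynomial CfsgLib.SpOre

variable {F : Type*} [Field F] {V : Type*} [AddCommGroup V] [Module F V]

/-- symmetric and non-degenerate -/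
structure Sm (B : LinearMap.BilinForm F V) : Prop where
  symm : ∀ x y, B x y = B y x
  nd : B.Nondegenerate

variable {B : LinearMap.BilinForm F V} {g : V ≃ₗ[F] V}

theorem Sm.refl (hB : Sm B) : B.IsRefl := fun x y h => by rw [hB.symm, h]

theorem Sm.orth_symm (hB : Sm B) {M N : Submodule F V} (h : N ≤ B.orthogonal M) :
    M ≤ B.orthogonal N := fun x hx _ hy => hB.refl _ _ (h hy x hx)

theorem Sm.nd_sup (hB : Sm B) {M N : Submodule F V} (hM : Nd B M) (hN : Nd B N)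
    (hMN : N ≤ B.orthogonal M) : Nd B (M ⊔ N) := by
  rw [Nd, Submodule.disjoint_def]
  intro x hx h0
  obtain ⟨a, ha, b, hb, rfl⟩ := Submodule.mem_sup.1 hx
  have h1 : a = 0 := hM.eq_zero ha fun y hy => by
    have := h0 y (mem_sup_left hy)
    rwa [map_add, hMN hb y hy, add_zero] at this
  have h2 : b = 0 := hN.eq_zero hb fun y hy => by
    have := h0 y (mem_sup_right hy)
    rwa [map_add, hB.orth_symm hMN ha y hy, zero_add] at this
  rw [h1, h2, add_zero]

/-- `δ = g - g⁻¹` -/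
def del (g : V ≃ₗ[F] V) : End F V := g.toLinearMap - g.symm.toLinearMap

theorem del_apply (x : V) : del g x = g x - g.symm x := rfl

theorem del_aeval (p : F[X]) (x : V) : del g (aeval (tau g) p x) = aeval (tau g) p (del g x) :=
  aeval_comm (fun x => by simp [del_apply, tau_apply]; abel) p x

theorem del_del (x : V) : del g (del g x) = aeval (tau g) ((X - C 2) * (X + C 2) : F[X]) x := by
  simp only [map_mul, map_sub, map_add, aeval_X, aeval_C, End.mul_apply, LinearMap.sub_apply,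
    LinearMap.add_apply, Module.algebraMap_end_apply, map_smul, del_apply, tau_apply,
    LinearEquiv.apply_symm_apply, LinearEquiv.symm_apply_apply]
  module

theorem del_adj (hg : g ∈ isom B) (x y : V) : B (del g x) y = -B x (del g y) := by
  rw [del_apply, del_apply, map_sub, LinearMap.sub_apply, map_sub, adj hg, adj' hg, neg_sub]

theorem del_skew (hB : Sm B) (hg : g ∈ isom B) (h2 : (2 : F) ≠ 0) (p q : F[X]) (x : V) :
    B (aeval (tau g) p x) (aeval (tau g) q (del g x)) = 0 := by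
  rw [aeval_adj (tau_adj hg), ← aeval_mul_apply]
  have h := del_adj hg (aeval (tau g) (p * q) x) x
  rw [del_aeval, hB.symm, aeval_adj (tau_adj hg)] at h
  exact mul_left_cancel₀ h2 (by linear_combination h)

/-- an orthogonal splitting that inverts `g` -/
structure Pc (B : LinearMap.BilinForm F V) (g : V ≃ₗ[F] V) (P N : Submodule F V) : Prop where
  ndP : Nd B P
  ndN : Nd B N
  orth : N ≤ B.orthogonal P
  τP : ∀ x ∈ P, tau g x ∈ P
  τN : ∀ x ∈ N, tau g x ∈ N
  δP : ∀ x ∈ P, del g x ∈ N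
  δN : ∀ x ∈ N, del g x ∈ P

theorem Pc.symm (hB : Sm B) {P N : Submodule F V} (h : Pc B g P N) : Pc B g N P :=
  ⟨h.ndN, h.ndP, hB.orth_symm h.orth, h.τN, h.τP, h.δN, h.δP⟩

theorem g_eq (h2 : (2 : F) ≠ 0) (x : V) : g x = (2 : F)⁻¹ • (tau g x + del g x) := by
  rw [tau_apply, del_apply, add_add_sub_cancel, ← two_smul F, smul_smul, inv_mul_cancel₀ h2,
    one_smul]

theorem map_sup_mem {A : End F V} {P P' N : Submodule F V} (h : ∀ x ∈ P, A x ∈ N)
    (h' : ∀ x ∈ P', A x ∈ N) : ∀ x ∈ P ⊔ P', A x ∈ N := fun x hx => by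
  obtain ⟨a, ha, b, hb, rfl⟩ := Submodule.mem_sup.1 hx
  rw [map_add]
  exact add_mem (h a ha) (h' b hb)

theorem Pc.inv (hB : Sm B) (h2 : (2 : F) ≠ 0) {P N : Submodule F V} (h : Pc B g P N) :
    Inv B g (P ⊔ N) :=
  ⟨hB.nd_sup h.ndP h.ndN h.orth, map_sup_mem (A := g.toLinearMap)
    (fun x hx => by
      rw [LinearEquiv.coe_coe, g_eq h2]
      exact smul_mem _ _ (add_mem (mem_sup_left (h.τP x hx)) (mem_sup_right (h.δP x hx))))
    (fun x hx => by
      rw [LinearEquiv.coe_coe, g_eq h2]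
      exact smul_mem _ _ (add_mem (mem_sup_right (h.τN x hx)) (mem_sup_left (h.δN x hx))))⟩

theorem Pc.sup (hB : Sm B) {P N P' N' : Submodule F V} (h : Pc B g P N) (h' : Pc B g P' N')
    (ho : P' ⊔ N' ≤ B.orthogonal (P ⊔ N)) : Pc B g (P ⊔ P') (N ⊔ N') := by
  rw [orth_sup, le_inf_iff, sup_le_iff, sup_le_iff] at ho
  refine ⟨hB.nd_sup h.ndP h'.ndP ho.1.1, hB.nd_sup h.ndN h'.ndN ho.2.2, ?_,
    map_sup_mem (fun x hx => mem_sup_left (h.τP x hx)) fun x hx => mem_sup_right (h'.τP x hx),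
    map_sup_mem (fun x hx => mem_sup_left (h.τN x hx)) fun x hx => mem_sup_right (h'.τN x hx),
    map_sup_mem (fun x hx => mem_sup_left (h.δP x hx)) fun x hx => mem_sup_right (h'.δP x hx),
    map_sup_mem (fun x hx => mem_sup_left (h.δN x hx)) fun x hx => mem_sup_right (h'.δN x hx)⟩
  rw [orth_sup]
  exact le_inf (sup_le h.orth ho.1.2) (sup_le (hB.orth_symm ho.2.1) h'.orth)

/-- the `-1`-eigenspace -/
def negSp (g : V ≃ₗ[F] V) : Submodule F V := LinearMap.ker (g.toLinearMap + LinearMap.id)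

theorem mem_negSp {x : V} : x ∈ negSp g ↔ g x = -x := by
  simp [negSp, add_eq_zero_iff_eq_neg]

/-- the summand generated by `v` and `δ w` -/
noncomputable def pc (g : V ≃ₗ[F] V) (v w : V) : Submodule F V :=
  cyc (tau g) v ⊔ cyc (tau g) (del g w)

theorem pc_le {M : Submodule F V} [FiniteDimensional F V] (hM : ∀ x ∈ M, g x ∈ M) {v w : V}
    (hv : v ∈ M) (hw : w ∈ M) : pc g v w ≤ M :=
  sup_le (cyc_le (fun _ hx => tau_mem hM hx) hv)
    (cyc_le (fun _ hx => tau_mem hM hx) (sub_mem (hM w hw) (symm_mem hM hw)))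

theorem pc_tau (v w : V) : ∀ x ∈ pc g v w, tau g x ∈ pc g v w :=
  map_sup_mem (fun _ hx => mem_sup_left (cyc_inv hx)) fun _ hx => mem_sup_right (cyc_inv hx)

theorem pc_del (v w : V) : ∀ x ∈ pc g v w, del g x ∈ pc g w v := by
  refine map_sup_mem (fun x hx => ?_) fun x hx => ?_ <;> obtain ⟨p, rfl⟩ := mem_cyc.1 hx
  · exact mem_sup_right (mem_cyc.2 ⟨p, (del_aeval p v).symm⟩)
  · rw [del_aeval, del_del, ← aeval_mul_apply]
    exact mem_sup_left (mem_cyc.2 ⟨_, rfl⟩)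

theorem pc_pc (hB : Sm B) (hg : g ∈ isom B) (h2 : (2 : F) ≠ 0) {v w : V}
    (h : ∀ u ∈ cyc (tau g) v, B u w = 0) (h1 : Nd B (pc g v w)) (h1' : Nd B (pc g w v)) :
    Pc B g (pc g v w) (pc g w v) := by
  refine ⟨h1, h1', ?_, pc_tau _ _, pc_tau _ _, pc_del _ _, pc_del _ _⟩
  rw [pc, pc, orth_sup]
  refine le_inf (sup_le ?_ ?_) (sup_le ?_ ?_) <;> intro x hx y hy <;>
    obtain ⟨p, rfl⟩ := mem_cyc.1 hx <;> obtain ⟨q, rfl⟩ := mem_cyc.1 hy <;>
    change B _ _ = 0
  · rw [← aeval_adj (tau_adj hg), ← aeval_mul_apply]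
    exact h _ (mem_cyc.2 ⟨_, rfl⟩)
  · exact del_skew hB hg h2 _ _ _
  · rw [hB.symm]
    exact del_skew hB hg h2 _ _ _
  · rw [hB.symm, ← aeval_adj (tau_adj hg), ← aeval_mul_apply, ← neg_eq_zero, ← del_adj hg,
      del_aeval, del_del, ← aeval_mul_apply]
    exact h _ (mem_cyc.2 ⟨_, rfl⟩)

theorem pc_neg (hg : g ∈ isom B) {v w : V} (h : Nd B (pc g v w)) :
    finrank F ↥(pc g v w ⊓ negSp g) ≤ 1 := by
  have := LinearMap.finrank_le_finrank_of_injective
    (f := (B v).comp (pc g v w ⊓ negSp g).subtype) (by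
      rw [← LinearMap.ker_eq_bot, LinearMap.ker_eq_bot']
      rintro ⟨x, hx, hx'⟩ h0
      have h0' : B v x = 0 := h0
      have e1 : g x = -x := mem_negSp.1 hx'
      have e2 : g.symm x = -x := by rw [LinearEquiv.symm_apply_eq, map_neg, e1, neg_neg]
      have e3 : tau g x = (-2 : F) • x := by rw [tau_apply, e1, e2]; module
      have e4 : del g x = 0 := by rw [del_apply, e1, e2, sub_self]
      refine Subtype.ext (h.eq_zero hx fun y hy => ?_)
      obtain ⟨_, ha, _, hb, rfl⟩ := Submodule.mem_sup.1 hy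
      obtain ⟨p, rfl⟩ := mem_cyc.1 ha
      obtain ⟨q, rfl⟩ := mem_cyc.1 hb
      rw [map_add, LinearMap.add_apply, aeval_adj (tau_adj hg), aeval_adj (tau_adj hg),
        End.aeval_apply_of_mem_apply_eq_smul e3, End.aeval_apply_of_mem_apply_eq_smul e3,
        map_smul, map_smul, h0', del_adj hg, e4]
      simp)
  rwa [finrank_self] at this

theorem dvd_of_aeval {A : End F V} {ν : F[X]} (hν : Irreducible ν) {j : ℕ} {v : V}
    (φ : V →ₗ[F] V →ₗ[F] F) (y : V) (h0 : aeval A (ν ^ (j + 1)) v = 0)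
    (h1 : φ (aeval A (ν ^ j) v) y ≠ 0) {s : F[X]} (hs : ∀ t, φ (aeval A (t * s) v) y = 0) :
    ν ^ (j + 1) ∣ s := by
  by_contra hd
  obtain ⟨a, b, hab⟩ := ideal_lemma hν.prime hd
  apply h1
  rw [hab, map_add, LinearMap.add_apply, map_add, LinearMap.add_apply, hs, aeval_mul_apply, h0]
  simp

theorem aeval_of_dvd {A : End F V} {μ s : F[X]} {v : V} (h0 : aeval A μ v = 0) (h : μ ∣ s) :
    aeval A s v = 0 := by
  obtain ⟨c, rfl⟩ := h
  rw [mul_comm, aeval_mul_apply, h0, map_zero]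

theorem nd_pair' (hB : Sm B) {A : End F V} (hA : ∀ x y, B (A x) y = B x (A y)) {ν : F[X]}
    (hν : Irreducible ν) {j : ℕ} {v w : V} (hv : aeval A (ν ^ (j + 1)) v = 0)
    (hw : aeval A (ν ^ (j + 1)) w = 0) (hww : ∀ r, B (aeval A (ν ^ j * r) w) w = 0)
    (hvw : B (aeval A (ν ^ j) w) v ≠ 0) : Nd B (cyc A v ⊔ cyc A w) := by
  rw [Nd, Submodule.disjoint_def]
  intro z hz hz0
  obtain ⟨_, ha, _, hb, rfl⟩ := Submodule.mem_sup.1 hz
  obtain ⟨p, rfl⟩ := mem_cyc.1 ha
  obtain ⟨q, rfl⟩ := mem_cyc.1 hb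
  have key : ∀ i, i ≤ j + 1 → ν ^ i ∣ p ∧ ν ^ i ∣ q := by
    intro i
    induction i with
    | zero => simp
    | succ i ih =>
      intro hi
      obtain ⟨⟨p, rfl⟩, ⟨q, rfl⟩⟩ := ih (by omega)
      obtain ⟨d, rfl⟩ : ∃ d, j = d + i := ⟨j - i, by omega⟩
      have hne : ν ^ (d + i) ≠ 0 := pow_ne_zero _ hν.ne_zero
      have h1 : ν ^ (d + i + 1) ∣ ν ^ (d + i) * p := dvd_of_aeval hν B v hw hvw fun t => by
        have := hz0 (aeval A (t * ν ^ d) w) (mem_sup_right (mem_cyc.2 ⟨_, rfl⟩))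
        change B _ _ = 0 at this
        rw [map_add, ← aeval_adj hA, ← aeval_adj hA, ← aeval_mul_apply, ← aeval_mul_apply,
          show ν ^ i * q * (t * ν ^ d) = ν ^ (d + i) * (q * t) by ring, hww, add_zero] at this
        rw [← this]; congr 3; ring_nf
      have h2 : ν ^ (d + i + 1) ∣ ν ^ (d + i) * q := dvd_of_aeval hν B v hw hvw fun t => by
        have := hz0 (aeval A (t * ν ^ d) v) (mem_sup_left (mem_cyc.2 ⟨_, rfl⟩))
        change B _ _ = 0 at this
        rw [map_add, ← aeval_adj hA, ← aeval_mul_apply,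
          show ν ^ i * p * (t * ν ^ d) = ν ^ (d + i) * p * t by ring,
          aeval_of_dvd hv (h1.mul_right t), hB.symm (aeval A _ v), ← aeval_adj hA,
          ← aeval_mul_apply] at this
        rw [map_zero, LinearMap.zero_apply, zero_add] at this
        rw [← this]; congr 3; ring_nf
      rw [pow_succ, mul_dvd_mul_iff_left hne] at h1 h2
      rw [pow_succ]
      exact ⟨mul_dvd_mul_left _ h1, mul_dvd_mul_left _ h2⟩
  rw [aeval_of_dvd hv (key _ le_rfl).1, aeval_of_dvd hw (key _ le_rfl).2, add_zero]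

theorem cyc_zero (A : End F V) : cyc A 0 = ⊥ := by
  rw [eq_bot_iff]
  intro x hx
  obtain ⟨p, rfl⟩ := mem_cyc.1 hx
  simp

variable [FiniteDimensional F V]

theorem Sm.decomp (hB : Sm B) {M : Submodule F V} (h : Nd B M) (x : V) :
    ∃ a ∈ M, ∃ b ∈ B.orthogonal M, a + b = x :=
  Submodule.mem_sup.1 (by
    rw [((LinearMap.BilinForm.isCompl_orthogonal_iff_disjoint hB.refl).2 h).sup_eq_top]; trivial)

theorem Sm.finrank_orth_inf (hB : Sm B) {M W : Submodule F V} (hM : Nd B M) (hW : W ≤ M) :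
    finrank F ↥(B.orthogonal W ⊓ M) + finrank F W = finrank F M := by
  have h1 : B.orthogonal (W ⊔ B.orthogonal M) = B.orthogonal W ⊓ M := by
    rw [orth_sup, LinearMap.BilinForm.orthogonal_orthogonal hB.nd hB.refl]
  have h2 := LinearMap.BilinForm.finrank_orthogonal hB.nd (W ⊔ B.orthogonal M)
  have h3 := finrank_sup_add_finrank_inf_eq W (B.orthogonal M)
  rw [(hM.mono_left hW).eq_bot, finrank_bot] at h3
  have h4 := LinearMap.BilinForm.finrank_orthogonal hB.nd M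
  have h5 := finrank_le M
  have h6 := finrank_le (W ⊔ B.orthogonal M)
  rw [h1] at h2
  omega

theorem Sm.exists_dual_vec (hB : Sm B) {M U : Submodule F V} (hM : Nd B M) (hU : U ≤ M) {y : V}
    (hy : y ∈ M) (hyU : y ∉ U) : ∃ w ∈ M, (∀ u ∈ U, B u w = 0) ∧ B y w ≠ 0 := by
  rw [← LinearMap.BilinForm.orthogonal_orthogonal hB.nd hB.refl U] at hyU
  by_contra hcon
  push Not at hcon
  apply hyU
  intro w hw
  obtain ⟨a, ha, b, hb, rfl⟩ := hB.decomp hM w
  apply hB.refl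
  rw [map_add, hb y hy, add_zero]
  refine hcon a ha fun u hu => ?_
  have := hw u hu
  rwa [map_add, hb u (hU hu), add_zero] at this

theorem Sm.split (hB : Sm B) (hg : g ∈ isom B) {M₀ M : Submodule F V} (h₀ : Inv B g M₀)
    (h : Inv B g M) (hle : M ≤ M₀) : ∃ M', Inv B g M' ∧ M' ≤ B.orthogonal M ∧ M ⊔ M' = M₀ ∧
      finrank F M' + finrank F M = finrank F M₀ := by
  have hsup : M ⊔ B.orthogonal M ⊓ M₀ = M₀ := by
    refine le_antisymm (sup_le hle inf_le_right) fun x hx => ?_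
    obtain ⟨a, ha, b, hb, rfl⟩ := hB.decomp h.nd x
    exact add_mem (mem_sup_left ha) (mem_sup_right ⟨hb, by simpa using sub_mem hx (hle ha)⟩)
  refine ⟨B.orthogonal M ⊓ M₀, ⟨?_, fun x hx => ⟨fun y hy => ?_, h₀.inv x hx.2⟩⟩, inf_le_left, hsup,
    hB.finrank_orth_inf h₀.nd hle⟩
  · rw [Nd, Submodule.disjoint_def]
    intro x hx h0
    refine h₀.nd.eq_zero hx.2 fun y hy => ?_
    rw [← hsup] at hy
    obtain ⟨a, ha, b, hb, rfl⟩ := Submodule.mem_sup.1 hy
    rw [map_add, LinearMap.add_apply, hx.1 a ha, h0 b hb, add_zero]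
  · rw [← adj hg]
    exact hx.1 _ (symm_mem h.inv hy)

theorem exists_pc (hB : Sm B) (hg : g ∈ isom B) (h2 : (2 : F) ≠ 0) {M₀ : Submodule F V}
    (hM : Inv B g M₀) (hne : M₀ ≠ ⊥) : ∃ v ∈ M₀, ∃ w ∈ M₀, v ≠ 0 ∧ Pc B g (pc g v w) (pc g w v) := by
  obtain ⟨M, hle, hM₁, ν, j, hν, h0, x₀, hx₀, hx₀'⟩ := exists_primary hg hM hne
  have hτ : ∀ x ∈ M, tau g x ∈ M := fun x hx => tau_mem hM₁.inv hx
  have hδ : ∀ x ∈ M, del g x ∈ M := fun x hx => sub_mem (hM₁.inv x hx) (symm_mem hM₁.inv hx)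
  have hA := tau_adj hg
  by_cases hc : ν ∣ (X - C 2) * (X + C 2) ∧ ∃ v ∈ M, aeval (tau g) (ν ^ j) (del g v) ≠ 0
  · obtain ⟨hd, v, hv, hv'⟩ := hc
    have hdd : ∀ x ∈ M, ∀ r, B (aeval (tau g) (ν ^ j * r) (del g x)) (del g x) = 0 := fun x hx r => by
      rw [← neg_eq_zero, ← del_adj hg, del_aeval, del_del, ← aeval_mul_apply,
        aeval_of_dvd (h0 x hx) (by rw [pow_succ, mul_assoc]; exact mul_dvd_mul_left _ (hd.mul_left r))]
      simp
    have hnot : aeval (tau g) (ν ^ j) (del g v) ∉ cyc (tau g) v := by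
      intro h
      obtain ⟨p, hp⟩ := mem_cyc.1 h
      have hy : aeval (tau g) (ν ^ j) v ≠ 0 := fun h => hv' (by rw [← del_aeval, h, map_zero])
      obtain ⟨y, hy'⟩ : ∃ y, B (aeval (tau g) (ν ^ j) v) y ≠ 0 := by
        by_contra hcon
        push Not at hcon
        exact hy (hB.nd.1 _ hcon)
      have ann : ∀ s, aeval (tau g) s v = 0 → ν ^ (j + 1) ∣ s := fun s hs =>
        dvd_of_aeval hν B y (h0 v hv) hy' fun t => by rw [aeval_mul_apply, hs]; simp
      have h1 := ann (ν * p) (by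
        rw [aeval_mul_apply, hp, ← aeval_mul_apply, ← pow_succ', h0 _ (hδ v hv)])
      rw [pow_succ', mul_dvd_mul_iff_left hν.ne_zero] at h1
      obtain ⟨r, rfl⟩ := h1
      have h3 := ann (ν ^ j * (r * r)) (by
        rw [show ν ^ j * (r * r) = r * (ν ^ j * r) by ring, aeval_mul_apply, hp, ← aeval_mul_apply,
          mul_comm r, ← del_aeval, hp, del_aeval, del_del, ← aeval_mul_apply]
        exact aeval_of_dvd (h0 v hv) (by rw [pow_succ]; exact mul_dvd_mul_left _ hd))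
      rw [pow_succ, mul_dvd_mul_iff_left (pow_ne_zero _ hν.ne_zero)] at h3
      refine hv' (hp ▸ aeval_of_dvd (h0 v hv) ?_)
      rw [pow_succ]
      exact mul_dvd_mul_left _ ((hν.prime.dvd_or_dvd h3).elim id id)
    obtain ⟨w, hw, hw1, hw2⟩ := hB.exists_dual_vec hM₁.nd (cyc_le hτ hv)
      (aeval_mem hτ _ (hδ v hv)) hnot
    refine ⟨v, hle hv, w, hle hw, by rintro rfl; simp at hv', pc_pc hB hg h2 hw1
      (nd_pair' hB hA hν (h0 v hv) (h0 _ (hδ w hw)) (hdd w hw) fun h => hw2 ?_)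
      (nd_pair' hB hA hν (h0 w hw) (h0 _ (hδ v hv)) (hdd v hv) hw2)⟩
    rw [hB.symm, ← aeval_adj hA, ← neg_eq_zero, ← del_adj hg, del_aeval] at h
    exact h
  · obtain ⟨v, hv, hv'⟩ : ∃ v ∈ M, B (aeval (tau g) (ν ^ j) v) v ≠ 0 := by
      by_contra hcon
      push Not at hcon
      refine hx₀' (hM₁.nd.eq_zero (aeval_mem hτ _ hx₀) fun y hy => ?_)
      have := hcon (x₀ + y) (add_mem hx₀ hy)
      simp only [map_add, LinearMap.add_apply, hcon x₀ hx₀, hcon y hy] at this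
      rw [hB.symm _ y, aeval_adj hA] at this
      exact mul_left_cancel₀ h2 (by linear_combination this)
    have key : ∀ s, (∀ t, B (aeval (tau g) (t * s) v) v = 0) → ν ^ (j + 1) ∣ s := fun s hs =>
      dvd_of_aeval hν B v (h0 v hv) hv' hs
    refine ⟨v, hle hv, 0, zero_mem _, by rintro rfl; simp at hv', pc_pc hB hg h2 (by simp) ?_ ?_⟩
    · rw [pc, map_zero, cyc_zero, sup_bot_eq, Nd, Submodule.disjoint_def]
      intro x hx hx0
      obtain ⟨p, rfl⟩ := mem_cyc.1 hx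
      refine aeval_of_dvd (h0 v hv) (key p fun t => ?_)
      rw [mul_comm, aeval_mul_apply, aeval_adj hA]
      exact hx0 _ (mem_cyc.2 ⟨t, rfl⟩)
    · rw [pc, cyc_zero, bot_sup_eq, Nd, Submodule.disjoint_def]
      intro x hx hx0
      obtain ⟨p, rfl⟩ := mem_cyc.1 hx
      have h1 := key ((X - C 2) * (X + C 2) * p) fun t => by
        have := hx0 _ (mem_cyc.2 ⟨t, rfl⟩)
        change B _ _ = 0 at this
        rw [← aeval_adj hA, ← aeval_mul_apply, hB.symm, del_adj hg, del_aeval, del_del,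
          ← aeval_mul_apply, neg_eq_zero, hB.symm] at this
        rw [← this]; congr 3; ring_nf
      by_cases hd : ν ∣ (X - C 2) * (X + C 2)
      · have h3 : aeval (tau g) (ν ^ j) (del g v) = 0 := by
          by_contra h
          exact hc ⟨hd, v, hv, h⟩
        obtain ⟨ρ, hρ⟩ := hd
        have hsq : Squarefree ((X - C 2) * (X + C 2) : F[X]) := by
          refine (Separable.mul separable_X_sub_C (separable_X_add_C _) ?_).squarefree
          refine ⟨-C (2 * 2)⁻¹, C (2 * 2)⁻¹, ?_⟩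
          have : (C (2 * 2 : F)⁻¹ : F[X]) * (C 2 + C 2) = 1 := by
            rw [← C_add, ← C_mul, ← C_1]; congr 1; field_simp; ring
          linear_combination this
        have hρ' : ¬ ν ∣ ρ := fun h => hν.not_isUnit (hsq ν (by
          rw [hρ]; exact mul_dvd_mul_left _ h))
        rw [hρ, pow_succ', mul_assoc, mul_dvd_mul_iff_left hν.ne_zero] at h1
        exact aeval_of_dvd h3 (hν.prime.pow_dvd_of_dvd_mul_left j hρ' h1)
      · exact aeval_of_dvd (h0 _ (hδ v hv)) (hν.prime.pow_dvd_of_dvd_mul_left _ hd h1)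

theorem finrank_negSp_sup {P P' M M' : Submodule F V} (h : P ≤ M) (h' : P' ≤ M')
    (hM : ∀ x ∈ M, g x ∈ M) (hM' : ∀ x ∈ M', g x ∈ M') (hd : Disjoint M M') :
    finrank F ↥((P ⊔ P') ⊓ negSp g) = finrank F ↥(P ⊓ negSp g) + finrank F ↥(P' ⊓ negSp g) := by
  have e : (P ⊔ P') ⊓ negSp g = (P ⊓ negSp g) ⊔ (P' ⊓ negSp g) := by
    refine le_antisymm ?_ (sup_le (inf_le_inf_right _ le_sup_left) (inf_le_inf_right _ le_sup_right))
    rintro x ⟨hx, hx'⟩
    obtain ⟨a, ha, b, hb, rfl⟩ := Submodule.mem_sup.1 hx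
    have e1 : g a + a = -(g b + b) := by
      have := mem_negSp.1 hx'
      rw [map_add] at this
      rw [eq_neg_iff_add_eq_zero, add_add_add_comm, this, neg_add_cancel]
    have e2 : g a + a = 0 := Submodule.disjoint_def.1 hd _ (add_mem (hM a (h ha)) (h ha))
      (by rw [e1]; exact neg_mem (add_mem (hM' b (h' hb)) (h' hb)))
    rw [e2, eq_comm, neg_eq_zero] at e1
    exact add_mem (mem_sup_left ⟨ha, mem_negSp.2 (eq_neg_of_add_eq_zero_left e2)⟩)
      (mem_sup_right ⟨hb, mem_negSp.2 (eq_neg_of_add_eq_zero_left e1)⟩)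
  have := finrank_sup_add_finrank_inf_eq (P ⊓ negSp g) (P' ⊓ negSp g)
  rwa [(hd.mono (inf_le_left.trans h) (inf_le_left.trans h')).eq_bot, finrank_bot, add_zero,
    ← e] at this

theorem exists_split (hB : Sm B) (hg : g ∈ isom B) (h2 : (2 : F) ≠ 0) (n : ℕ) :
    ∀ M₀ : Submodule F V, finrank F M₀ = n → Inv B g M₀ → ∃ P N, P ⊔ N = M₀ ∧ Pc B g P N ∧
      finrank F ↥(P ⊓ negSp g) ≤ finrank F ↥(N ⊓ negSp g) ∧
      finrank F ↥(N ⊓ negSp g) ≤ finrank F ↥(P ⊓ negSp g) + 1 := by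
  induction n using Nat.strong_induction_on with
  | _ n ih =>
    intro M₀ hn h₀
    by_cases hne : M₀ = ⊥
    · subst hne
      exact ⟨⊥, ⊥, by simp, ⟨disjoint_bot_left, disjoint_bot_left, bot_le, by simp, by simp,
        by simp, by simp⟩, le_rfl, by omega⟩
    obtain ⟨P, N, a0, a1, a2, a3, a4⟩ : ∃ P N, P ⊔ N ≠ ⊥ ∧ P ⊔ N ≤ M₀ ∧ Pc B g P N ∧
        finrank F ↥(N ⊓ negSp g) ≤ finrank F ↥(P ⊓ negSp g) ∧ finrank F ↥(P ⊓ negSp g) ≤ 1 := by
      obtain ⟨v, hv, w, hw, hv0, h⟩ := exists_pc hB hg h2 h₀ hne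
      have hn : pc g v w ⊔ pc g w v ≠ ⊥ := fun h => hv0 (by
        have : v ∈ pc g v w ⊔ pc g w v := mem_sup_left (mem_sup_left (self_mem_cyc _ _))
        rwa [h] at this)
      have hl := sup_le (pc_le h₀.inv hv hw) (pc_le h₀.inv hw hv)
      rcases le_total (finrank F ↥(pc g w v ⊓ negSp g)) (finrank F ↥(pc g v w ⊓ negSp g)) with h' | h'
      · exact ⟨_, _, hn, hl, h, h', pc_neg hg h.ndP⟩
      · exact ⟨_, _, by rwa [sup_comm], by rwa [sup_comm], h.symm hB, h', pc_neg hg h.ndN⟩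
    have a5 := a2.inv hB h2
    obtain ⟨M', b1, b2, b3, b4⟩ := hB.split hg h₀ a5 a1
    have := Submodule.one_le_finrank_iff.2 a0
    obtain ⟨P', N', rfl, c2, c3, c4⟩ := ih (finrank F M') (by omega) M' rfl b1
    have d1 := finrank_negSp_sup le_sup_left le_sup_left a5.inv b1.inv (a5.nd.disjoint b2)
    have d2 := finrank_negSp_sup le_sup_right le_sup_right a5.inv b1.inv (a5.nd.disjoint b2)
    have d3 : P ⊔ P' ⊔ (N ⊔ N') = M₀ := by rw [← b3, sup_sup_sup_comm]
    rcases le_total (finrank F ↥((P ⊔ P') ⊓ negSp g)) (finrank F ↥((N ⊔ N') ⊓ negSp g)) with h | h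
    · exact ⟨_, _, d3, a2.sup hB c2 b2, h, by omega⟩
    · exact ⟨_, _, by rw [sup_comm, d3], (a2.sup hB c2 b2).symm hB, h, by omega⟩

end CfsgLib.OmOre
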