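import Mathlib
import Cfsg.Agent.Lib.OmOre.Won
import Cfsg.Agent.Lib.OmOre.Count
import Cfsg.Agent.Lib.Orth.Disc
import Cfsg.Agent.Lib.Forms.Witt

/-!
Involutions of an orthogonal group in odd characteristic: factorization of an element of `SO` into
two involutions of the same rank, conjugacy, and the resulting commutator.
-/

set_option autoImplicit false

namespace CfsgLib.OmOre

open Module Submodule QuadraticMap CfsgLib.SpOre CfsgLib.Orth CfsgLib.Forms

variable {F : Type*} [Field F] {V : Type*} [AddCommGroup V] [Module F V] {Q : QuadraticForm F V}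

theorem sm (hQ : (polarBilin Q).Nondegenerate) : Sm (polarBilin Q) :=
  ⟨fun x y => polar_comm Q x y, hQ⟩

theorem inv_inv_apply {s : OG Q} (hs : s * s = 1) (x : V) : s.1 (s.1 x) = x := by
  rw [← OG.mul_apply, hs, OG.one_apply]

theorem eq_zero_of_eq_neg (h2 : (2 : F) ≠ 0) {x : V} (h : x = -x) : x = 0 := by
  have : (2 : F) • x = 0 := by rw [two_smul]; exact add_eq_zero_iff_eq_neg.2 h
  exact (smul_eq_zero.1 this).resolve_left h2

theorem mem_mov (h2 : (2 : F) ≠ 0) {s : OG Q} (hs : s * s = 1) {x : V} :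
    x ∈ movSpace s ↔ s.1 x = -x := by
  rw [mem_movSpace]
  constructor
  · rintro ⟨y, rfl⟩
    rw [map_sub, inv_inv_apply hs, neg_sub]
  · intro h
    refine ⟨-(2 : F)⁻¹ • x, ?_⟩
    rw [map_smul, h, ← smul_sub, ← neg_add', ← two_smul F, smul_neg, smul_smul, neg_mul,
      inv_mul_cancel₀ h2]
    simp

theorem neg_comm (s : OG Q) : negOG Q * s = s * negOG Q :=
  OG.ext fun v => by simp [OG.mul_apply, negOG_apply]

theorem neg_mul_neg' (s t : OG Q) : negOG Q * s * (negOG Q * t) = s * t :=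
  OG.ext fun v => by simp [OG.mul_apply, negOG_apply]

theorem mov_neg (h2 : (2 : F) ≠ 0) {s : OG Q} (hs : s * s = 1) :
    movSpace (negOG Q * s) = fixSpace s := by
  ext x
  rw [mem_mov h2 (by rw [neg_mul_neg', hs]), mem_fixSpace, OG.mul_apply, negOG_apply, neg_inj]

theorem fix_neg (h2 : (2 : F) ≠ 0) {s : OG Q} (hs : s * s = 1) :
    fixSpace (negOG Q * s) = movSpace s := by
  ext x
  rw [mem_mov h2 hs, mem_fixSpace, OG.mul_apply, negOG_apply, neg_eq_iff_eq_neg]

theorem inv_decomp (h2 : (2 : F) ≠ 0) {s : OG Q} (hs : s * s = 1) (x : V) :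
    ∃ a b, s.1 a = -a ∧ s.1 b = b ∧ x = a + b := by
  refine ⟨(2 : F)⁻¹ • (x - s.1 x), (2 : F)⁻¹ • (x + s.1 x), ?_, ?_, ?_⟩
  · rw [map_smul, map_sub, inv_inv_apply hs, ← smul_neg, neg_sub]
  · rw [map_smul, map_add, inv_inv_apply hs, add_comm]
  · rw [← smul_add, sub_add_add_cancel, ← two_smul F, smul_smul, inv_mul_cancel₀ h2, one_smul]

theorem polar_comp (U : Submodule F V) (x y : U) :
    polar (Q.comp U.subtype) x y = polar Q (x : V) y := by
  simp [polar]

theorem nd_comp {U : Submodule F V} (h : Nd (polarBilin Q) U) :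
    (polarBilin (Q.comp U.subtype)).Nondegenerate :=
  nondegenerate_of_polar fun x hx => Subtype.ext (h.eq_zero x.2 fun y hy => by
    have := hx ⟨y, hy⟩
    rw [polar_comp, polar_comm] at this
    exact this)

variable [FiniteDimensional F V] (hQ : (polarBilin Q).Nondegenerate) (h2 : (2 : F) ≠ 0)

include hQ h2

theorem nd_mov {s : OG Q} (hs : s * s = 1) : Nd (polarBilin Q) (movSpace s) := by
  rw [Nd, orthogonal_movSpace hQ, Submodule.disjoint_def]
  intro x hx hx'
  exact eq_zero_of_eq_neg h2 ((mem_fixSpace.1 hx').symm.trans ((mem_mov h2 hs).1 hx))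

theorem nd_fix {s : OG Q} (hs : s * s = 1) : Nd (polarBilin Q) (fixSpace s) := by
  rw [← mov_neg h2 hs]
  exact nd_mov hQ h2 (by rw [neg_mul_neg', hs])

omit h2 in
theorem idx (s t : OG Q) : finrank F ↥(movSpace s ⊓ fixSpace t) + finrank F (movSpace t) =
    finrank F ↥(fixSpace s ⊓ movSpace t) + finrank F (movSpace s) := by
  have h1 := LinearMap.BilinForm.finrank_orthogonal hQ (fixSpace s ⊔ movSpace t)
  rw [orth_sup, orthogonal_fixSpace hQ, orthogonal_movSpace hQ] at h1
  have h3 := finrank_sup_add_finrank_inf_eq (fixSpace s) (movSpace t)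
  have h4 := finrank_fix_add_mov s
  have h5 := finrank_le (fixSpace s ⊔ movSpace t)
  omega

/-- the balanced Wonenburger factorization -/
theorem exists_invol (g : OG Q) (hg : Even (finrank F (movSpace g))) :
    ∃ s t : OG Q, s * s = 1 ∧ t * t = 1 ∧ g = s * t ∧
      finrank F (movSpace s) = finrank F (movSpace t) := by
  have hI : g.1 ∈ isom (polarBilin Q) := fun x y => OG.map_polar g x y
  obtain ⟨P, N, h1, h3, h4, h5⟩ := exists_split (sm hQ) hI h2 _ ⊤ rfl ⟨by
    rw [Nd, LinearMap.BilinForm.orthogonal_top_eq_bot hQ]; exact disjoint_bot_right,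
    fun _ _ => trivial⟩
  have hc : IsCompl P N := ⟨h3.ndP.disjoint h3.orth, codisjoint_iff.2 h1⟩
  let f : V →ₗ[F] V := LinearMap.ofIsCompl hc P.subtype (-N.subtype)
  have fP : ∀ x ∈ P, f x = x := fun x hx => LinearMap.ofIsCompl_apply_left hc ⟨x, hx⟩
  have fN : ∀ x ∈ N, f x = -x := fun x hx => LinearMap.ofIsCompl_apply_right hc ⟨x, hx⟩
  have dec : ∀ x, ∃ a ∈ P, ∃ b ∈ N, a + b = x := fun x =>
    Submodule.mem_sup.1 (by rw [h1]; trivial)
  have ff : ∀ x, f (f x) = x := fun x => by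
    obtain ⟨a, ha, b, hb, rfl⟩ := dec x
    rw [map_add, fP a ha, fN b hb, map_add, map_neg, fP a ha, fN b hb, neg_neg]
  let t : OG Q := OG.mk' Q f f (fun x => by
    obtain ⟨a, ha, b, hb, rfl⟩ := dec x
    have : polar Q a b = 0 := h3.orth hb a ha
    rw [map_add, fP a ha, fN b hb, Q_add, Q_add, polar_neg_right, this, QuadraticMap.map_neg,
      neg_zero]) ff ff
  have ht : ∀ x, t.1 x = f x := fun _ => rfl
  have htt : t * t = 1 := OG.ext ff
  have key : ∀ x, f (g.1 x) = g.1.symm (f x) := fun x => by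
    have e : ∀ y, g.1.symm y = (2 : F)⁻¹ • (tau g.1 y - del g.1 y) := fun y => by
      rw [tau_apply, del_apply, add_sub_sub_cancel, ← two_smul F, smul_smul, inv_mul_cancel₀ h2,
        one_smul]
    obtain ⟨a, ha, b, hb, rfl⟩ := dec x
    rw [map_add, map_add, map_add, map_add, fP a ha, fN b hb, g_eq h2 a, g_eq h2 b, map_smul,
      map_smul, map_add, map_add, fP _ (h3.τP a ha), fN _ (h3.δP a ha), fN _ (h3.τN b hb),
      fP _ (h3.δN b hb), map_neg, e, e]
    module
  have hss : g * t * (g * t) = 1 := OG.ext fun x => by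
    simp only [OG.mul_apply, ht, key, ff, LinearEquiv.apply_symm_apply, OG.one_apply]
  have eP : fixSpace t = P := by
    ext x
    refine ⟨fun hx => ?_, fun hx => mem_fixSpace.2 (fP x hx)⟩
    obtain ⟨a, ha, b, hb, rfl⟩ := dec x
    rw [mem_fixSpace, ht, map_add, fP a ha, fN b hb, add_right_inj] at hx
    rwa [eq_zero_of_eq_neg h2 hx.symm, add_zero]
  have eN : movSpace t = N := by
    ext x
    rw [mem_mov h2 htt]
    refine ⟨fun hx => ?_, fN x⟩
    obtain ⟨a, ha, b, hb, rfl⟩ := dec x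
    rw [ht, map_add, fP a ha, fN b hb, neg_add, add_left_inj] at hx
    rwa [eq_zero_of_eq_neg h2 hx, zero_add]
  have e1 : movSpace (g * t) ⊓ fixSpace t = P ⊓ negSp g.1 := by
    ext x
    rw [eP, mem_inf, mem_inf, and_comm, mem_mov h2 hss, mem_negSp, OG.mul_apply, ht]
    exact and_congr_right fun hx => by rw [fP x hx]
  have e2 : fixSpace (g * t) ⊓ movSpace t = N ⊓ negSp g.1 := by
    ext x
    rw [eN, mem_inf, mem_inf, and_comm, mem_fixSpace, mem_negSp, OG.mul_apply, ht]
    exact and_congr_right fun hx => by rw [fN x hx, map_neg, neg_eq_iff_eq_neg]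
  have e3 := idx hQ (g * t) t
  rw [e1, e2] at e3
  have h24 : Nat.card F ≠ 2 ∨ finrank F V ≠ 4 := Or.inl (card_ne_two_of_two_ne_zero h2)
  have e4 : dickson hQ h24 (g * t) = dickson hQ h24 t := by
    rw [map_mul, (dickson_eq_one_iff hQ h24 g).2 hg, one_mul]
  rw [units_eq_iff_eq_one, dickson_eq_one_iff, dickson_eq_one_iff, Nat.even_iff,
    Nat.even_iff] at e4
  exact ⟨g * t, t, hss, htt, by rw [mul_assoc, htt, mul_one], by omega⟩

theorem exists_invol_odd (hn : Odd (finrank F V)) (g : OG Q) (hg : Even (finrank F (movSpace g))) :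
    ∃ s t : OG Q, s * s = 1 ∧ t * t = 1 ∧ g = s * t ∧
      finrank F (movSpace s) = finrank F (movSpace t) ∧ Odd (finrank F (movSpace s)) := by
  obtain ⟨s, t, hs, ht, h1, h3⟩ := exists_invol hQ h2 g hg
  by_cases h : Odd (finrank F (movSpace s))
  · exact ⟨s, t, hs, ht, h1, h3, h⟩
  · have a1 := finrank_fix_add_mov s
    have a2 := finrank_fix_add_mov t
    rw [Nat.odd_iff] at h hn
    refine ⟨negOG Q * s, negOG Q * t, by rw [neg_mul_neg', hs], by rw [neg_mul_neg', ht],
      by rw [neg_mul_neg', h1], ?_, ?_⟩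
    · rw [mov_neg h2 hs, mov_neg h2 ht]; omega
    · rw [mov_neg h2 hs, Nat.odd_iff]; omega

theorem adjust {t : OG Q} (ht : t * t = 1) {u u' : V} (hu : t.1 u = -u) (hu' : t.1 u' = -u')
    (h : Q u = Q u') (h0 : u = 0 ↔ u' = 0) :
    ∃ c : OG Q, c * t = t * c ∧ (∀ x, t.1 x = x → c.1 x = x) ∧ c.1 u = u' := by
  by_cases hz : u = 0
  · exact ⟨1, by simp, fun _ _ => rfl, by rw [hz, h0.1 hz, map_zero]⟩
  have o : ∀ y, t.1 y = -y → ∀ x ∈ fixSpace t, polar Q x y = 0 := fun y hy x hx => by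
    have : y ∈ LinearMap.BilinForm.orthogonal (polarBilin Q) (fixSpace t) := by
      rw [orthogonal_fixSpace hQ]; exact (mem_mov h2 ht).2 hy
    exact this x hx
  obtain ⟨c, h1, h3, h4⟩ := (ofQuad Q).witt_step (ofQuad_nondeg Q hQ) (fixSpace t)
    (u := u) (u' := u') (fun hx => hz (eq_zero_of_eq_neg h2 ((mem_fixSpace.1 hx).symm.trans hu)))
    (fun hx => hz (h0.2 (eq_zero_of_eq_neg h2 ((mem_fixSpace.1 hx).symm.trans hu'))))
    (fun x hx => by rw [ofQuad_B, ofQuad_B, o u hu x hx, o u' hu' x hx])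
    ((ofQuad_mem Q _).2 (sub_eq_zero.2 h.symm))
  let c' : OG Q := ⟨c, (ofQuad_isIso_equiv Q c).1 h1⟩
  refine ⟨c', OG.ext fun x => ?_, fun x hx => h3 x (mem_fixSpace.2 hx), h4⟩
  obtain ⟨a, b, ha, hb, rfl⟩ := inv_decomp h2 ht x
  have h5 : c'.1 b = b := h3 b (mem_fixSpace.2 hb)
  have h6 : t.1 (c'.1 a) = -c'.1 a := by
    rw [← mem_mov h2 ht, ← orthogonal_fixSpace hQ]
    intro y hy
    have h7 : c'.1 y = y := h3 y hy
    change polar Q y (c'.1 a) = 0
    rw [← h7, OG.map_polar]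
    exact o a ha y hy
  simp only [OG.mul_apply, map_add, ha, hb, h5, h6, map_neg]

variable [Fintype F] (h24 : Nat.card F ≠ 2 ∨ finrank F V ≠ 4)

theorem spin_inv {s : OG Q} (hs : s * s = 1) {ι : Type} [Fintype ι] [DecidableEq ι]
    (b : Basis ι F (movSpace s)) : spinor hQ h24 s = 1 ↔
      IsSquare (2 ^ Fintype.card ι * (gram (Q.comp (movSpace s).subtype) b).det) := by
  obtain ⟨b', h1, h3⟩ := exists_orth_basis (nd_comp (nd_mov hQ h2 hs)) h2
  obtain ⟨c, hc, h4⟩ := exists_det_gram_eq (Q.comp (movSpace s).subtype) b' b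
  have h5 : ∀ v ∈ List.ofFn fun i => (b' i : V), Q v ≠ 0 := by
    simp only [List.mem_ofFn]
    rintro _ ⟨i, rfl⟩
    exact h3 i
  have h6 : s = reflProd Q (List.ofFn fun i => (b' i : V)) := by
    refine OG.ext fun x => ?_
    obtain ⟨a, y, ha, hy, rfl⟩ := inv_decomp h2 hs x
    have e1 : (reflProd Q (List.ofFn fun i => (b' i : V))).1 y = y :=
      reflProd_apply_of_perp (by
        simp only [List.mem_ofFn]
        rintro _ ⟨i, rfl⟩
        have : y ∈ LinearMap.BilinForm.orthogonal (polarBilin Q) (movSpace s) := by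
          rw [orthogonal_movSpace hQ]; exact mem_fixSpace.2 hy
        exact this _ (b' i).2)
    have e2 : ∀ i, (reflProd Q (List.ofFn fun i => (b' i : V))).1 (b' i) = -(b' i : V) := fun i =>
      reflProd_apply_of_pairwise h5 (List.pairwise_ofFn.2 fun i j hij => by
        rw [← polar_comp]; exact h1 i j hij.ne) _ (List.mem_ofFn.2 ⟨i, rfl⟩)
    have e3 : ((reflProd Q (List.ofFn fun i => (b' i : V))).1 : V →ₗ[F] V).comp
        (movSpace s).subtype = -(movSpace s).subtype := b'.ext e2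
    have e4 : (reflProd Q (List.ofFn fun i => (b' i : V))).1 a = -a :=
      LinearMap.congr_fun e3 ⟨a, (mem_mov h2 hs).2 ha⟩
    rw [map_add, map_add, ha, hy, e1, e4]
  rw [h4, det_gram_of_orth h1, ← finrank_eq_card_basis b, Fintype.card_fin]
  conv_lhs => rw [h6]
  rw [spinor_reflProd_eq_one_iff hQ h24 h5, List.map_ofFn, List.prod_ofFn,
    ← isSquare_mul_self_mul_iff (mul_ne_zero hc (pow_ne_zero (finrank F (movSpace s)) h2))]
  refine iff_of_eq (congrArg _ ?_)
  simp only [Function.comp, QuadraticMap.comp_apply, coe_subtype]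
  ring

theorem exists_conj {s t : OG Q} (hs : s * s = 1) (ht : t * t = 1)
    (hd : finrank F (movSpace s) = finrank F (movSpace t))
    (hsp : spinor hQ h24 s = spinor hQ h24 t) : ∃ b : OG Q, b * s = t * b := by
  have n1 := nd_comp (nd_mov hQ h2 hs)
  have n2 := nd_comp (nd_mov hQ h2 ht)
  have p2 := pow_ne_zero (finrank F (movSpace t)) h2
  rw [units_eq_iff_eq_one, spin_inv hQ h2 h24 hs (finBasis F _),
    spin_inv hQ h2 h24 ht (finBasis F _), Fintype.card_fin, Fintype.card_fin] at hsp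
  simp only [hd] at hsp
  rw [← isSquare_mul_iff_of_finite (mul_ne_zero p2 (det_gram_ne_zero n1 _))
    (mul_ne_zero p2 (det_gram_ne_zero n2 _)), mul_mul_mul_comm, isSquare_mul_self_mul_iff p2] at hsp
  obtain ⟨e, he⟩ := exists_equiv_of_isSquare_disc h2 n1 n2 _ _ (by simpa using hd) hsp
  obtain ⟨b, h1, h3⟩ := witt_quad Q hQ (movSpace s) ((movSpace t).subtype.comp e.toLinearMap)
    ((movSpace t).injective_subtype.comp e.injective) he
  let b' : OG Q := ⟨b, h1⟩
  refine ⟨b', OG.ext fun x => ?_⟩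
  obtain ⟨a, y, ha, hy, rfl⟩ := inv_decomp h2 hs x
  have h4 : t.1 (b'.1 a) = -b'.1 a := by
    rw [← mem_mov h2 ht]
    exact (h3 ⟨a, (mem_mov h2 hs).2 ha⟩).symm ▸ (e _).2
  have h5 : t.1 (b'.1 y) = b'.1 y := by
    rw [← mem_fixSpace, ← orthogonal_movSpace hQ]
    intro z hz
    have h6 : b'.1 (e.symm ⟨z, hz⟩) = z := by simpa using h3 (e.symm ⟨z, hz⟩)
    change polar Q z (b'.1 y) = 0
    rw [← h6, OG.map_polar]
    have : y ∈ LinearMap.BilinForm.orthogonal (polarBilin Q) (movSpace s) := by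
      rw [orthogonal_movSpace hQ]; exact mem_fixSpace.2 hy
    exact this _ (e.symm ⟨z, hz⟩).2
  simp only [OG.mul_apply, map_add, ha, hy, h4, h5, map_neg]

omit [Fintype F] h2 in
theorem rad_le {H U : Submodule F V} (hH : Nd (polarBilin Q) H) (hU : U ≤ H) :
    finrank F (LinearMap.ker (polarBilin (Q.comp U.subtype))) + finrank F U ≤ finrank F H := by
  rw [← (sm hQ).finrank_orth_inf hH hU, ← Submodule.finrank_map_subtype_eq]
  refine Nat.add_le_add_right (Submodule.finrank_mono ?_) _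
  rintro _ ⟨x, hx, rfl⟩
  refine ⟨fun y hy => ?_, hU x.2⟩
  have : polar (Q.comp U.subtype) x ⟨y, hy⟩ = 0 := LinearMap.congr_fun hx ⟨y, hy⟩
  rw [polar_comp, polar_comm] at this
  exact this

theorem univ {H U : Submodule F V} (hH : Nd (polarBilin Q) H) (hU : U ≤ H)
    (h : finrank F H + 2 ≤ 2 * finrank F U) {c : F} (hc : c ≠ 0) : ∃ x ∈ U, Q x = c := by
  classical
  have : Finite V := Module.finite_of_finite F
  have h1 := rad_le hQ hH hU
  have h3 := dev_le h2 1 U (Q.comp U.subtype) (by omega) c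
  by_contra hcon
  push Not at hcon
  have h4 : cnt (Q.comp U.subtype) c = 0 := by
    have := Fintype.ofFinite U
    rw [cnt_eq_sum]
    exact Finset.sum_eq_zero fun x _ => if_neg (hcon x x.2)
  have hq : (2 : ℤ) ≤ Fintype.card F := by exact_mod_cast Fintype.one_lt_card
  have h5 : (0 : ℤ) < Nat.card U := by exact_mod_cast Nat.card_pos
  rw [h4, if_neg hc, mul_zero, zero_sub, abs_neg, abs_of_pos h5, pow_one] at h3
  nlinarith

omit hQ h2 [Fintype F] in
theorem inf_ge (A C : Submodule F V) :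
    finrank F A + finrank F C ≤ finrank F ↥(A ⊓ C) + finrank F V := by
  have := finrank_sup_add_finrank_inf_eq A C
  have := finrank_le (A ⊔ C)
  omega

omit h2 [Fintype F] in
theorem perp_ge (x : V) : finrank F V ≤
    finrank F (LinearMap.BilinForm.orthogonal (polarBilin Q) (span F {x})) + 1 := by
  have h1 := LinearMap.BilinForm.finrank_orthogonal hQ (span F {x})
  have h3 : finrank F (span F {x}) ≤ 1 := by simpa using finrank_span_le_card ({x} : Set V)
  omega

/-- the commutator attached to a good vector -/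
theorem comm_of_vec (hn : 7 ≤ finrank F V) {s t : OG Q} (hs : s * s = 1) (ht : t * t = 1)
    (hd : finrank F (movSpace s) = finrank F (movSpace t)) (ho : Odd (finrank F (movSpace s)))
    (hst : s * t ∈ commutator (OG Q)) {x : V} (hx : Q x ≠ 0)
    (h1 : spinor hQ h24 (refl Q x) = spinor hQ h24 s) (h3 : polar Q x (s.1 x) = polar Q x (t.1 x))
    (h4 : s.1 x = x ↔ t.1 x = x) (h5 : s.1 x = -x ↔ t.1 x = -x) :
    ∃ a ∈ commutator (OG Q), ∃ b ∈ commutator (OG Q), s * t = a * b * a⁻¹ * b⁻¹ := by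
  have sq : ∀ u : ℤˣ, u * u = 1 := Int.units_mul_self
  have hsp : spinor hQ h24 s = spinor hQ h24 t := by
    have := ((mem_commutator_iff hQ h24 _).1 hst).2
    rw [map_mul] at this
    rw [← one_mul (spinor hQ h24 t), ← sq (spinor hQ h24 s), mul_assoc, this, mul_one]
  obtain ⟨b, hb⟩ := exists_conj hQ h2 h24 hs ht hd hsp
  have hb' : ∀ y, t.1 (b.1 y) = b.1 (s.1 y) := fun y => by
    rw [← OG.mul_apply, ← hb, OG.mul_apply]
  obtain ⟨c, c1, c2, c3⟩ := adjust hQ h2 ht (u := b.1 (x - s.1 x)) (u' := x - t.1 x)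
    (by rw [hb', map_sub s.1, inv_inv_apply hs, ← map_neg, neg_sub])
    (by rw [map_sub, inv_inv_apply ht, neg_sub])
    (by rw [OG.map_Q, Q_sub, Q_sub, OG.map_Q, OG.map_Q, h3])
    (by rw [LinearEquiv.map_eq_zero_iff, sub_eq_zero, sub_eq_zero, eq_comm, h4, eq_comm])
  have k1 : t.1 (b.1 (x + s.1 x)) = b.1 (x + s.1 x) := by
    rw [hb', map_add s.1, inv_inv_apply hs, add_comm]
  obtain ⟨d, d1, d2, d3⟩ := adjust hQ h2 (t := negOG Q * t) (by rw [neg_mul_neg', ht])
    (u := b.1 (x + s.1 x)) (u' := x + t.1 x)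
    (by rw [OG.mul_apply, k1, negOG_apply])
    (by rw [OG.mul_apply, negOG_apply, map_add, inv_inv_apply ht, add_comm])
    (by rw [OG.map_Q, Q_add, Q_add, OG.map_Q, OG.map_Q, h3])
    (by rw [LinearEquiv.map_eq_zero_iff, add_comm, add_comm x, add_eq_zero_iff_eq_neg,
      add_eq_zero_iff_eq_neg, h5])
  have d1' : d * t = t * d := by
    rw [← mul_assoc, ← neg_comm, mul_assoc, mul_assoc] at d1
    exact mul_left_cancel d1
  have e1 : d * c * b * s = t * (d * c * b) := by
    rw [mul_assoc, hb, ← mul_assoc, mul_assoc d, c1, ← mul_assoc, d1', mul_assoc, mul_assoc,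
      mul_assoc]
  have e2 : (d * c * b).1 x = x := by
    have : (d * c * b).1 ((x - s.1 x) + (x + s.1 x)) = (x - t.1 x) + (x + t.1 x) := by
      rw [OG.mul_apply, OG.mul_apply, map_add, map_add, map_add, c3, c2 _ k1, d3, d2 _ (by
        rw [OG.mul_apply, negOG_apply, map_sub, inv_inv_apply ht, neg_sub])]
    rw [sub_add_add_cancel, sub_add_add_cancel, ← two_smul F, map_smul] at this
    exact smul_right_injective V h2 this
  -- reflections that correct the determinant and the spinor norm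
  have hr : ∀ e : F, e ≠ 0 → ∃ y, Q y = e ∧ refl Q y * t = t * refl Q y ∧ (refl Q y).1 x = x := by
    intro e he
    have a1 := finrank_fix_add_mov t
    have a2 := perp_ge hQ x
    obtain ⟨y, a3, a4, a5⟩ : ∃ y, Q y = e ∧ (t.1 y = y ∨ t.1 y = -y) ∧ polar Q x y = 0 := by
      by_cases h : 4 ≤ finrank F (movSpace t)
      · have a3 := inf_ge (movSpace t) (LinearMap.BilinForm.orthogonal (polarBilin Q) (span F {x}))
        obtain ⟨y, hy, hy'⟩ := univ hQ h2 (nd_mov hQ h2 ht) (inf_le_left (b :=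
          LinearMap.BilinForm.orthogonal (polarBilin Q) (span F {x}))) (by omega) he
        exact ⟨y, hy', Or.inr ((mem_mov h2 ht).1 hy.1), hy.2 x (mem_span_singleton_self x)⟩
      · have a3 := inf_ge (fixSpace t) (LinearMap.BilinForm.orthogonal (polarBilin Q) (span F {x}))
        obtain ⟨y, hy, hy'⟩ := univ hQ h2 (nd_fix hQ h2 ht) (inf_le_left (b :=
          LinearMap.BilinForm.orthogonal (polarBilin Q) (span F {x}))) (by omega) he
        exact ⟨y, hy', Or.inl (mem_fixSpace.1 hy.1), hy.2 x (mem_span_singleton_self x)⟩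
    refine ⟨y, a3, ?_, refl_apply_of_polar_eq_zero (by rw [polar_comm, a5])⟩
    rw [mul_inv_eq_iff_eq_mul.1 (conj_refl t y)]
    rcases a4 with h | h <;> rw [h]
    rw [refl_neg]
  obtain ⟨ν, hν⟩ := exists_not_isSquare h2
  obtain ⟨y, y1, y2, y3⟩ := hr 1 one_ne_zero
  obtain ⟨z, z1, z2, z3⟩ := hr ν (by rintro rfl; exact hν IsSquare.zero)
  have y4 := dickson_refl hQ h24 (v := y) (by rw [y1]; exact one_ne_zero)
  have y5 := (spinor_refl_eq_one_iff hQ h24 (v := y) (by rw [y1]; exact one_ne_zero)).2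
    (by rw [y1]; exact IsSquare.one)
  have z4 := dickson_refl hQ h24 (v := z) (by rw [z1]; rintro rfl; exact hν IsSquare.zero)
  have z5 := spinor_refl_eq_neg_one hQ h24 (v := z) (by rwa [z1])
  obtain ⟨b', f1, f2, f3⟩ : ∃ b' ∈ commutator (OG Q), b' * s = t * b' ∧ b'.1 x = x := by
    generalize d * c * b = b₁ at e1 e2
    have step : ∀ (r b₁ : OG Q), r * t = t * r → r.1 x = x → b₁ * s = t * b₁ ∧ b₁.1 x = x →
        r * b₁ * s = t * (r * b₁) ∧ (r * b₁).1 x = x := fun r b₁ r1 r2 h =>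
      ⟨by rw [mul_assoc, h.1, ← mul_assoc, r1, mul_assoc], by rw [OG.mul_apply, h.2, r2]⟩
    simp only [mem_commutator_iff hQ h24]
    rcases Int.units_eq_one_or (dickson hQ h24 b₁) with i | i <;>
      rcases Int.units_eq_one_or (spinor hQ h24 b₁) with j | j
    · exact ⟨b₁, ⟨i, j⟩, e1, e2⟩
    · exact ⟨_, by simp [i, j, y4, y5, z4, z5], step _ _ y2 y3 (step _ _ z2 z3 ⟨e1, e2⟩)⟩
    · exact ⟨_, by simp [i, j, y4, y5], step _ _ y2 y3 ⟨e1, e2⟩⟩
    · exact ⟨_, by simp [i, j, z4, z5], step _ _ z2 z3 ⟨e1, e2⟩⟩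
  refine ⟨s * refl Q x, ?_, b', f1, ?_⟩
  · rw [mem_commutator_iff hQ h24, map_mul, map_mul, h1, sq, dickson_refl hQ h24 hx, dickson_apply,
      ho.neg_one_pow]
    simp
  · have g1 : b' * refl Q x * b'⁻¹ = refl Q x := by rw [conj_refl, f3]
    have g2 : s⁻¹ = s := inv_eq_of_mul_eq_one_right hs
    calc s * t = s * (refl Q x * refl Q x) * t := by rw [refl_mul_self, mul_one]
      _ = s * refl Q x * (b' * refl Q x * b'⁻¹) * (t * b') * b'⁻¹ := by rw [g1]; group
      _ = _ := by rw [← f2, mul_inv_rev, refl_inv, g2]; group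

end CfsgLib.OmOre
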