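import Mathlib
import Cfsg.Agent.Lib.OmOre.Conj
import Cfsg.Agent.Lib.Forms.SymmDisc

/-!
Every element of `Ω(V)` is a commutator when `dim V ≥ 7` is odd and the field has odd order.
-/

set_option autoImplicit false

namespace CfsgLib.OmOre

open Module Submodule QuadraticMap CfsgLib.SpOre CfsgLib.Orth CfsgLib.Forms

variable {F : Type*} [Field F] {V : Type*} [AddCommGroup V] [Module F V] {Q : QuadraticForm F V}

theorem card_eq_sum {X : Type*} [Fintype X] (p : X → Prop) [DecidablePred p] :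
    (Nat.card {x // p x} : ℤ) = ∑ x, if p x then 1 else 0 := by
  rw [Nat.card_eq_fintype_card, Fintype.card_subtype, Finset.card_filter]
  push_cast
  rfl

theorem inv_adj {s : OG Q} (hs : s * s = 1) (x y : V) : polar Q (s.1 x) y = polar Q x (s.1 y) := by
  rw [OG.polar_apply_left, inv_eq_of_mul_eq_one_right hs]

theorem pencil [Fintype F] [DecidableEq F] (a r c : F) :
    (∑ l : F, if a + l * r = c then (1 : ℤ) else 0) + (if r = 0 then 1 else 0) =
      1 + Fintype.card F * if a = c ∧ r = 0 then 1 else 0 := by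
  by_cases hr : r = 0
  · by_cases h : a = c <;> simp [hr, h, add_comm]
  · have : ∀ l : F, a + l * r = c ↔ l = (c - a) / r := fun l => by
      rw [eq_div_iff hr, eq_sub_iff_add_eq']
    simp [this, hr]

variable [FiniteDimensional F V] (hQ : (polarBilin Q).Nondegenerate) (h2 : (2 : F) ≠ 0)
  [Fintype F]

include hQ h2

theorem cnt_sub_le {H : Submodule F V} (hH : Nd (polarBilin Q) H) (h : 2 ≤ finrank F H) {k : ℕ}
    (hk : finrank F H + k ≤ finrank F V) {c : F} (hc : c ≠ 0) :
    (Fintype.card F : ℤ) ^ (k + 2) * Nat.card {x // x ∈ H ∧ Q x = c} ≤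
      (Fintype.card F + 1) * Nat.card V := by
  classical
  have : Finite V := Module.finite_of_finite F
  have h1 := rad_le hQ hH le_rfl
  have h3 := dev_le h2 1 H (Q.comp H.subtype) (by omega) c
  have hq : (0 : ℤ) ≤ Fintype.card F := by positivity
  have h4 : (Fintype.card F : ℤ) ^ k * Nat.card H ≤ Nat.card V := by
    rw [Module.natCard_eq_pow_finrank (K := F) (V := H), Module.natCard_eq_pow_finrank (K := F) (V := V),
      Nat.card_eq_fintype_card]
    push_cast
    rw [← pow_add]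
    exact pow_le_pow_right₀ (by exact_mod_cast Fintype.card_pos) (by omega)
  have h5 : cnt (Q.comp H.subtype) c = Nat.card {x // x ∈ H ∧ Q x = c} := by
    rw [cnt, Nat.card_congr (Equiv.subtypeSubtypeEquivSubtypeInter (· ∈ H) fun x => Q x = c).symm]
    rfl
  rw [if_neg hc, h5, pow_one, one_mul] at h3
  have h6 := (mul_le_mul_of_nonneg_left (le_abs_self _) hq).trans h3
  calc _ = (Fintype.card F : ℤ) ^ k * (Fintype.card F * (Fintype.card F *
        Nat.card {x // x ∈ H ∧ Q x = c})) := by ring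
    _ ≤ (Fintype.card F : ℤ) ^ k * ((Fintype.card F + 1) * Nat.card H) :=
      mul_le_mul_of_nonneg_left (by linarith) (by positivity)
    _ = (Fintype.card F + 1) * ((Fintype.card F : ℤ) ^ k * Nat.card H) := by ring
    _ ≤ _ := mul_le_mul_of_nonneg_left h4 (by positivity)

theorem exists_generic {s t : OG Q} (hs : s * s = 1) (ht : t * t = 1)
    (hd : finrank F (movSpace s) = finrank F (movSpace t)) (h3 : 3 ≤ finrank F (movSpace s))
    (h4 : 4 ≤ finrank F (fixSpace s)) (hK : finrank F (fixSpace (s * t)) + 4 ≤ finrank F V)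
    {c : F} (hc : c ≠ 0) : ∃ x, Q x = c ∧ polar Q x (s.1 x) = polar Q x (t.1 x) ∧
      x ∉ fixSpace s ∧ x ∉ movSpace s ∧ x ∉ fixSpace t ∧ x ∉ movSpace t := by
  classical
  have : Finite V := Module.finite_of_finite F
  have := Fintype.ofFinite V
  have a1 := finrank_fix_add_mov s
  have a2 := finrank_fix_add_mov t
  let R : QuadraticForm F V := LinearMap.BilinMap.toQuadraticMap
    ((polarBilin Q).compl₂ (s.1.toLinearMap - t.1.toLinearMap))
  have hR : ∀ x, R x = polar Q x (s.1 x - t.1 x) := fun _ => rfl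
  have hR' : ∀ x y, polar R x y = polar Q ((2 : F) • (s.1 x - t.1 x)) y := fun x y => by
    rw [LinearMap.BilinMap.polar_toQuadraticMap]
    change polar Q x (s.1 y - t.1 y) + polar Q y (s.1 x - t.1 x) = _
    rw [polar_sub_right, ← inv_adj hs, ← inv_adj ht, ← polar_sub_left, polar_comm Q y,
      polar_smul_left, two_smul]
  have r0 : finrank F (LinearMap.ker (polarBilin R)) + 2 * 2 ≤ finrank F V := by
    refine le_trans (Nat.add_le_add_right (Submodule.finrank_mono fun x hx => ?_) _) hK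
    have h := eq_zero_of_polar hQ fun y => (hR' x y).symm.trans (LinearMap.congr_fun hx y)
    rw [mem_fixSpace, OG.mul_apply, ← sub_eq_zero.1 ((smul_eq_zero.1 h).resolve_left h2),
      inv_inv_apply hs]
  have r1 : ∀ l : F, finrank F (LinearMap.ker (polarBilin (Q + l • R))) + 2 * 2 ≤ finrank F V := by
    intro l
    have hk : ∀ x ∈ LinearMap.ker (polarBilin (Q + l • R)), x + (2 * l) • (s.1 x - t.1 x) = 0 :=
      fun x hx => eq_zero_of_polar hQ fun y => by
        have h : polar (Q + l • R) x y = 0 := LinearMap.congr_fun hx y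
        have e : polar (Q + l • R) x y = polar Q x y + l * polar R x y := by
          simp only [polar, QuadraticMap.add_apply, QuadraticMap.smul_apply, smul_eq_mul]
          ring
        rw [e, hR', polar_smul_left] at h
        rw [polar_add_left, polar_smul_left, ← h, smul_eq_mul, smul_eq_mul]
        ring
    have fin : ∀ H : Submodule F V, 4 ≤ finrank F H →
        Disjoint (LinearMap.ker (polarBilin (Q + l • R))) H →
        finrank F (LinearMap.ker (polarBilin (Q + l • R))) + 2 * 2 ≤ finrank F V := fun H h h' => by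
      have := inf_ge (LinearMap.ker (polarBilin (Q + l • R))) H
      rw [h'.eq_bot, finrank_bot] at this
      omega
    by_cases hl : 1 + 4 * l = 0
    · refine fin (fixSpace t) (by omega) (Submodule.disjoint_def.2 fun x hx hx' => ?_)
      have e1 := hk x hx
      rw [mem_fixSpace.1 hx'] at e1
      have e2 := congrArg s.1 e1
      rw [map_add, map_smul, map_sub, inv_inv_apply hs, map_zero] at e2
      have e3 : (2 - (1 + 4 * l)) • x = 0 := by
        linear_combination (norm := module) (1 - 2 * l) • e1 - (2 * l) • e2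
      rw [hl, sub_zero] at e3
      exact (smul_eq_zero.1 e3).resolve_left h2
    · refine fin (fixSpace s) h4 (Submodule.disjoint_def.2 fun x hx hx' => ?_)
      have e1 := hk x hx
      rw [mem_fixSpace.1 hx'] at e1
      have e2 := congrArg t.1 e1
      rw [map_add, map_smul, map_sub, inv_inv_apply ht, map_zero] at e2
      have e3 : (1 + 4 * l) • x = 0 := by
        linear_combination (norm := module) (1 + 2 * l) • e1 + (2 * l) • e2
      exact (smul_eq_zero.1 e3).resolve_left hl
  set q : ℤ := (Fintype.card F : ℤ) with hq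
  have hq3 : 3 ≤ q := by
    have := card_odd_of_two_ne_zero h2
    have := Fintype.one_lt_card (α := F)
    omega
  have d0 := dev_le h2 2 V R r0 0
  have d1 := fun l => dev_le h2 2 V (Q + l • R) (r1 l) c
  simp only [if_neg hc, if_pos, one_mul, ← hq] at d0 d1
  set N : ℤ := ∑ x, if Q x = c ∧ R x = 0 then 1 else 0 with hN
  have e1 : ∑ l : F, cnt (Q + l • R) c + cnt R 0 = Nat.card V + q * N := by
    simp only [cnt_eq_sum, QuadraticMap.add_apply, QuadraticMap.smul_apply, smul_eq_mul]
    rw [Finset.sum_comm, ← Finset.sum_add_distrib]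
    simp only [pencil, Finset.sum_add_distrib, hN, Finset.mul_sum]
    simp [hq]
  have e2 : ∑ l : F, (q ^ 2 * Nat.card V - Nat.card V) ≤ ∑ l : F, q ^ 3 * cnt (Q + l • R) c :=
    Finset.sum_le_sum fun l _ => by
      have := (mul_le_mul_of_nonneg_left (neg_abs_le (q * cnt (Q + l • R) c - Nat.card V))
        (by positivity : 0 ≤ q ^ 2))
      linarith [d1 l]
  rw [Finset.sum_const, Finset.card_univ, nsmul_eq_mul, ← hq, ← Finset.mul_sum] at e2
  have e3 : (q - 1) ^ 2 * Nat.card V ≤ q ^ 4 * N := by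
    have := (mul_le_mul_of_nonneg_left (neg_abs_le (q * cnt R 0 - Nat.card V))
      (by positivity : 0 ≤ q ^ 2))
    have e4 := congrArg (q ^ 3 * ·) e1
    linarith
  by_contra hcon
  push Not at hcon
  have e4 : N ≤ Nat.card {x // x ∈ fixSpace s ∧ Q x = c} + Nat.card {x // x ∈ movSpace s ∧ Q x = c} +
      Nat.card {x // x ∈ fixSpace t ∧ Q x = c} + Nat.card {x // x ∈ movSpace t ∧ Q x = c} := by
    simp only [card_eq_sum, ← Finset.sum_add_distrib]
    refine Finset.sum_le_sum fun x _ => ?_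
    by_cases h : Q x = c ∧ R x = 0
    · have := hcon x h.1 (by rw [← sub_eq_zero, ← polar_sub_right]; exact h.2)
      rw [if_pos h]
      simp only [h.1, and_true]
      split_ifs <;> first | omega | tauto
    · rw [if_neg h]
      positivity
  have b1 := cnt_sub_le hQ h2 (nd_fix hQ h2 hs) (by omega) (k := 3) (by omega) hc
  have b2 := cnt_sub_le hQ h2 (nd_mov hQ h2 hs) (by omega) (k := 4) (by omega) hc
  have b3 := cnt_sub_le hQ h2 (nd_fix hQ h2 ht) (by omega) (k := 3) (by omega) hc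
  have b4 := cnt_sub_le hQ h2 (nd_mov hQ h2 ht) (by omega) (k := 4) (by omega) hc
  simp only [← hq, Nat.reduceAdd] at b1 b2 b3 b4
  have hV : (0 : ℤ) < Nat.card V := by exact_mod_cast Nat.card_pos
  have c1 := mul_le_mul_of_nonneg_left b1 (by omega : 0 ≤ q)
  have c3 := mul_le_mul_of_nonneg_left b3 (by omega : 0 ≤ q)
  have c4 := mul_le_mul_of_nonneg_left e4 (by positivity : 0 ≤ q ^ 6)
  have c5 := mul_le_mul_of_nonneg_left e3 (by positivity : 0 ≤ q ^ 2)
  have c6 : q ^ 2 * (q - 1) ^ 2 * Nat.card V ≤ 2 * (q + 1) ^ 2 * Nat.card V := by linarith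
  have c7 := le_of_mul_le_mul_right c6 hV
  have c8 : q ^ 2 * 2 ^ 2 ≤ q ^ 2 * (q - 1) ^ 2 :=
    mul_le_mul_of_nonneg_left (pow_le_pow_left₀ (by norm_num) (by omega) 2) (by positivity)
  nlinarith

variable (h24 : Nat.card F ≠ 2 ∨ finrank F V ≠ 4)

theorem spin_four {r : OG Q} (hr : r * r = 1) (h4 : finrank F (movSpace r) = 2 * 2)
    {U : Submodule F V} (hU : U ≤ movSpace r) (hU2 : 2 ≤ finrank F U) (h0 : ∀ x ∈ U, Q x = 0) :
    spinor hQ h24 r = 1 := by
  have n1 := nd_comp (nd_mov hQ h2 hr)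
  have h1 := (exists_half_isotropic_iff h2 _ (polarBilin_isSymm _) n1 (finBasis F _) h4).1 ⟨
    U.comap (movSpace r).subtype, by
      rw [(Submodule.comapSubtypeEquivOfLe hU).finrank_eq]
      have h3 := (sm hQ).finrank_orth_inf (nd_mov hQ h2 hr) hU
      have h5 : U ≤ LinearMap.BilinForm.orthogonal (polarBilin Q) U ⊓ movSpace r :=
        le_inf (fun x hx y hy => by
          change polar Q y x = 0
          rw [polar, h0 x hx, h0 y hy, h0 _ (add_mem hy hx)]; simp) hU
      have := Submodule.finrank_mono h5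
      omega,
    fun x hx y hy => by
      change polar (Q.comp (movSpace r).subtype) x y = 0
      rw [polar_comp, polar, h0 x hx, h0 y hy, h0 (x + y) (add_mem hx hy)]; simp⟩
  rw [spin_inv hQ h2 h24 hr (finBasis F _), gram_eq_toMatrix, Fintype.card_fin]
  rw [neg_one_sq, mul_one] at h1
  refine IsSquare.mul ?_ h1
  rw [h4]
  exact ⟨2 ^ 2, by ring⟩

theorem exists_vec (hn : 7 ≤ finrank F V) (hn' : Odd (finrank F V)) {s t : OG Q} (hs : s * s = 1)
    (ht : t * t = 1) (hd : finrank F (movSpace s) = finrank F (movSpace t))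
    (ho : Odd (finrank F (movSpace s))) (he : Even (finrank F (movSpace (s * t)))) :
    ∃ x, Q x ≠ 0 ∧ spinor hQ h24 (refl Q x) = spinor hQ h24 s ∧
      polar Q x (s.1 x) = polar Q x (t.1 x) ∧ (s.1 x = x ↔ t.1 x = x) ∧
      (s.1 x = -x ↔ t.1 x = -x) := by
  obtain ⟨c, hc, hc'⟩ : ∃ c : F, c ≠ 0 ∧ ∀ x, Q x = c →
      spinor hQ h24 (refl Q x) = spinor hQ h24 s := by
    rcases Int.units_eq_one_or (spinor hQ h24 s) with h | h
    · exact ⟨1, one_ne_zero, fun x hx => by
        rw [h, spinor_refl_eq_one_iff hQ h24 (by rw [hx]; exact one_ne_zero), hx]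
        exact IsSquare.one⟩
    · obtain ⟨ν, hν⟩ := exists_not_isSquare h2
      exact ⟨ν, by rintro rfl; exact hν IsSquare.zero, fun x hx => by
        rw [h, spinor_refl_eq_neg_one hQ h24 (by rwa [hx])]⟩
  have easy : (∃ x, s.1 x = t.1 x ∧ Q x ≠ 0 ∧ spinor hQ h24 (refl Q x) = spinor hQ h24 s) →
      ∃ x, Q x ≠ 0 ∧ spinor hQ h24 (refl Q x) = spinor hQ h24 s ∧
      polar Q x (s.1 x) = polar Q x (t.1 x) ∧ (s.1 x = x ↔ t.1 x = x) ∧
      (s.1 x = -x ↔ t.1 x = -x) := fun ⟨x, h1, h3, h4⟩ =>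
    ⟨x, h3, h4, by rw [h1], by rw [h1], by rw [h1]⟩
  have hK : ∀ x, x ∈ fixSpace (s * t) ↔ s.1 x = t.1 x := fun x => by
    rw [mem_fixSpace, OG.mul_apply]
    exact ⟨fun h => by conv_lhs => rw [← h, inv_inv_apply hs], fun h => by
      rw [← h, inv_inv_apply hs]⟩
  have a0 := finrank_fix_add_mov (s * t)
  have a1 := finrank_fix_add_mov s
  have a2 := finrank_fix_add_mov t
  rw [Nat.odd_iff] at hn' ho
  rw [Nat.even_iff] at he
  by_cases hA : finrank F (movSpace (s * t)) ≤ 2
  · obtain ⟨x, hx, hx'⟩ := univ hQ h2 (H := ⊤) (U := fixSpace (s * t)) (by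
      rw [Nd, LinearMap.BilinForm.orthogonal_top_eq_bot hQ]; exact disjoint_bot_right) le_top
      (by rw [finrank_top]; omega) hc
    exact easy ⟨x, (hK x).1 hx, by rwa [hx'], hc' x hx'⟩
  have u1 : fixSpace s ⊓ fixSpace t ≤ fixSpace (s * t) := fun x hx => by
    rw [hK, mem_fixSpace.1 hx.1, mem_fixSpace.1 hx.2]
  have u2 : ∀ x ∈ movSpace s ⊓ movSpace t, s.1 x = t.1 x := fun x hx => by
    rw [(mem_mov h2 hs).1 hx.1, (mem_mov h2 ht).1 hx.2]
  have a3 := Submodule.finrank_mono u1
  have a4 := Submodule.finrank_mono (fun x hx => (hK x).2 (u2 x hx))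
  have a5 := inf_ge (fixSpace s) (fixSpace t)
  have a6 := inf_ge (movSpace s) (movSpace t)
  by_cases hB : 4 ≤ finrank F (fixSpace s)
  · obtain ⟨x, b1, b2, b3, b4, b5, b6⟩ := exists_generic hQ h2 hs ht hd (by omega) hB (by omega) hc
    rw [mem_fixSpace] at b3 b5
    rw [mem_mov h2 hs] at b4
    rw [mem_mov h2 ht] at b6
    exact ⟨x, by rwa [b1], hc' x b1, b2, iff_of_false b3 b5, iff_of_false b4 b6⟩
  apply easy
  by_cases hC : 7 ≤ finrank F (movSpace s)
  · obtain ⟨x, hx, hx'⟩ := univ hQ h2 (nd_mov hQ h2 hs) (inf_le_left (b := movSpace t))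
      (by omega) hc
    exact ⟨x, u2 x hx, by rwa [hx'], hc' x hx'⟩
  have a7 := rad_le hQ (nd_mov hQ h2 hs) (inf_le_left (b := movSpace t))
  obtain ⟨⟨z, hz⟩, hz'⟩ := exists_ne_zero (Q.comp (movSpace s ⊓ movSpace t).subtype) (by omega)
  have hz0 : Q z ≠ 0 := hz'
  by_cases hD : ∃ y ∈ movSpace s ⊓ movSpace t, polar Q z y = 0 ∧ Q y ≠ 0
  · obtain ⟨y, hy, hy1, hy2⟩ := hD
    obtain ⟨a, b, hab⟩ := exists_sq_add_sq_eq hz0 hy2 c
    have : Q (a • z + b • y) = c := by
      rw [Q_add, Q_smul, Q_smul, polar_smul_left, polar_smul_right, hy1, ← hab]; simp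
    exact ⟨_, u2 _ (add_mem (smul_mem _ _ hz) (smul_mem _ _ hy)), by rwa [this], hc' _ this⟩
  push Not at hD
  have e1 : s * refl Q z = refl Q z * s := by
    rw [mul_inv_eq_iff_eq_mul.1 (conj_refl s z), (mem_mov h2 hs).1 hz.1, refl_neg]
  have e2 : refl Q z * s * (refl Q z * s) = 1 := by
    rw [mul_assoc, ← mul_assoc s, e1, mul_assoc, hs, mul_one, refl_mul_self]
  have e3 := finrank_movSpace_refl_mul_of_mem hz0 hz.1
  have a8 := perp_ge hQ z
  have a9 := inf_ge (movSpace s ⊓ movSpace t)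
    (LinearMap.BilinForm.orthogonal (polarBilin Q) (span F {z}))
  have e4 := spin_four hQ h2 h24 e2 (by omega) (U := (movSpace s ⊓ movSpace t) ⊓
    LinearMap.BilinForm.orthogonal (polarBilin Q) (span F {z})) (fun x hx => by
      have : polar Q z x = 0 := hx.2 z (mem_span_singleton_self z)
      rw [mem_mov h2 e2, OG.mul_apply, (mem_mov h2 hs).1 hx.1.1, map_neg,
        refl_apply_of_polar_eq_zero this]) (by omega)
    fun x hx => hD x hx.1 (hx.2 z (mem_span_singleton_self z))
  refine ⟨z, u2 z hz, hz0, ?_⟩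
  rw [map_mul] at e4
  rw [← one_mul (spinor hQ h24 s), ← Int.units_mul_self (spinor hQ h24 (refl Q z)), mul_assoc, e4,
    mul_one]

omit h24 in
/-- Ore's property for `Ω(V)` in odd dimension -/
theorem comm_omega (hn : 7 ≤ finrank F V) (hn' : Odd (finrank F V)) {g : OG Q}
    (hg : g ∈ commutator (OG Q)) :
    ∃ a ∈ commutator (OG Q), ∃ b ∈ commutator (OG Q), g = a * b * a⁻¹ * b⁻¹ := by
  have h24 : Nat.card F ≠ 2 ∨ finrank F V ≠ 4 := Or.inl (card_ne_two_of_two_ne_zero h2)
  have he := (dickson_eq_one_iff hQ h24 g).1 ((mem_commutator_iff hQ h24 g).1 hg).1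
  obtain ⟨s, t, hs, ht, rfl, hd, ho⟩ := exists_invol_odd hQ h2 hn' g he
  obtain ⟨x, h1, h3, h4, h5, h6⟩ := exists_vec hQ h2 h24 hn hn' hs ht hd ho he
  exact comm_of_vec hQ h2 h24 hn hs ht hd ho hg h1 h3 h4 h5 h6

end CfsgLib.OmOre
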