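import Mathlib
import Cfsg.Agent.Lib.OmOre.Main

/-!
The commutator attached to a subspace on which two conjugate involutions look alike.
-/

set_option autoImplicit false

namespace CfsgLib.OmOre

open Module Submodule QuadraticMap CfsgLib.SpOre CfsgLib.Orth CfsgLib.Forms

variable {F : Type*} [Field F] {V : Type*} [AddCommGroup V] [Module F V] {Q : QuadraticForm F V}

theorem nd_plane {u v : V} (h : 4 * Q u * Q v ≠ polar Q u v ^ 2) :
    Nd (polarBilin Q) (span F {u, v}) := by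
  rw [Nd, Submodule.disjoint_def]
  intro x hx h0
  obtain ⟨a, b, rfl⟩ := mem_span_pair.1 hx
  have h1 : polar Q u (a • u + b • v) = 0 := h0 u (subset_span (by simp))
  have h3 : polar Q v (a • u + b • v) = 0 := h0 v (subset_span (by simp))
  rw [polar_add_right, polar_smul_right, polar_smul_right, polar_self', smul_eq_mul,
    smul_eq_mul] at h1 h3
  rw [polar_comm Q v u] at h3
  have ha : a = 0 := mul_right_cancel₀ (sub_ne_zero.2 h)
    (by linear_combination (2 * Q v) * h1 - polar Q u v * h3)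
  have hb : b = 0 := mul_right_cancel₀ (sub_ne_zero.2 h)
    (by linear_combination (2 * Q u) * h3 - polar Q u v * h1)
  simp [ha, hb]

variable [FiniteDimensional F V] (hQ : (polarBilin Q).Nondegenerate)

include hQ

theorem witt_maps {X : Type*} [AddCommGroup X] [Module F X] (φ ψ : X →ₗ[F] V)
    (hk : ∀ x, φ x = 0 ↔ ψ x = 0) (h : ∀ x, Q (ψ x) = Q (φ x)) :
    ∃ c : OG Q, ∀ x, c.1 (φ x) = ψ x := by
  obtain ⟨σ, hσ⟩ := φ.rangeRestrict.exists_rightInverse_of_surjective φ.range_rangeRestrict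
  have h1 : ∀ u, φ (σ u) = u := fun u => congrArg Subtype.val (LinearMap.congr_fun hσ u)
  obtain ⟨g, h3, h4⟩ := witt_quad Q hQ _ (ψ.comp σ) (by
    rw [← LinearMap.ker_eq_bot, LinearMap.ker_eq_bot']
    exact fun u hu => Subtype.ext ((h1 u).symm.trans ((hk _).2 hu))) fun u => by
      rw [LinearMap.comp_apply, h, h1]
  refine ⟨⟨g, h3⟩, fun x => (h4 ⟨φ x, x, rfl⟩).trans ?_⟩
  rw [LinearMap.comp_apply, ← sub_eq_zero, ← map_sub, ← hk, map_sub, h1, sub_self]

theorem polar_mov_fix' {t : OG Q} {x y : V} (hx : x ∈ movSpace t) (hy : t.1 y = y) :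
    polar Q x y = 0 := by
  have : y ∈ LinearMap.BilinForm.orthogonal (polarBilin Q) (movSpace t) := by
    rw [orthogonal_movSpace hQ]; exact mem_fixSpace.2 hy
  exact this x hx

variable (h2 : (2 : F) ≠ 0)

include h2

theorem adjust2 {t : OG Q} (ht : t * t = 1) {X : Type*} [AddCommGroup X] [Module F X]
    (φ ψ : X →ₗ[F] V) (hφ : ∀ x, t.1 (φ x) = -φ x) (hψ : ∀ x, t.1 (ψ x) = -ψ x)
    (hk : ∀ x, φ x = 0 ↔ ψ x = 0) (h : ∀ x, Q (ψ x) = Q (φ x)) :
    ∃ c : OG Q, c * t = t * c ∧ (∀ x, t.1 x = x → c.1 x = x) ∧ ∀ x, c.1 (φ x) = ψ x := by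
  have o : ∀ y, t.1 y = -y → ∀ x, t.1 x = x → polar Q y x = 0 := fun y hy x hx =>
    polar_mov_fix' hQ ((mem_mov h2 ht).2 hy) hx
  have z : ∀ y, t.1 y = -y → ∀ x, t.1 x = x → (y + x = 0 ↔ y = 0 ∧ x = 0) := fun y hy x hx => by
    refine ⟨fun h => ?_, fun h => by rw [h.1, h.2, add_zero]⟩
    have h1 := congrArg t.1 h
    rw [map_add, hy, hx, map_zero] at h1
    have h3 : y = 0 := eq_zero_of_eq_neg h2 (by linear_combination (norm := module) h - h1)
    exact ⟨h3, by rwa [h3, zero_add] at h⟩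
  obtain ⟨c, hc⟩ := witt_maps hQ (φ.coprod (fixSpace t).subtype) (ψ.coprod (fixSpace t).subtype)
    (fun p => by
      rw [LinearMap.coprod_apply, LinearMap.coprod_apply, subtype_apply,
        z _ (hφ _) _ (mem_fixSpace.1 p.2.2),
        z _ (hψ _) _ (mem_fixSpace.1 p.2.2), hk])
    (fun p => by
      rw [LinearMap.coprod_apply, LinearMap.coprod_apply, subtype_apply, Q_add, Q_add, h,
        o _ (hφ _) _ (mem_fixSpace.1 p.2.2), o _ (hψ _) _ (mem_fixSpace.1 p.2.2)])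
  have h3 : ∀ x, t.1 x = x → c.1 x = x := fun x hx => by
    simpa using hc (0, ⟨x, mem_fixSpace.2 hx⟩)
  refine ⟨c, OG.ext fun x => ?_, h3, fun x => by simpa using hc (x, 0)⟩
  obtain ⟨a, b, ha, hb, rfl⟩ := inv_decomp h2 ht x
  have h6 : t.1 (c.1 a) = -c.1 a := by
    rw [← mem_mov h2 ht, ← orthogonal_fixSpace hQ]
    intro y hy
    change polar Q y (c.1 a) = 0
    rw [← h3 y (mem_fixSpace.1 hy), OG.map_polar, polar_comm]
    exact o a ha y (mem_fixSpace.1 hy)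
  simp only [OG.mul_apply, map_add, ha, hb, h3 b hb, h6, map_neg]

theorem exists_fix {s t b : OG Q} (hs : s * s = 1) (ht : t * t = 1) (hb : b * s = t * b)
    {Y : Submodule F V} (h3 : ∀ x ∈ Y, polar Q x (s.1 x) = polar Q x (t.1 x))
    (h4 : ∀ x ∈ Y, s.1 x = x ↔ t.1 x = x) (h5 : ∀ x ∈ Y, s.1 x = -x ↔ t.1 x = -x) :
    ∃ b : OG Q, b * s = t * b ∧ ∀ x ∈ Y, b.1 x = x := by
  have hb' : ∀ y, t.1 (b.1 y) = b.1 (s.1 y) := fun y => by
    rw [← OG.mul_apply, ← hb, OG.mul_apply]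
  obtain ⟨c, c1, c2, c3⟩ := adjust2 hQ h2 ht
    (b.1.toLinearMap ∘ₗ (LinearMap.id - s.1.toLinearMap) ∘ₗ Y.subtype)
    ((LinearMap.id - t.1.toLinearMap) ∘ₗ Y.subtype)
    (fun x => by
      change t.1 (b.1 (x - s.1 x)) = -b.1 (x - s.1 x)
      rw [hb', map_sub s.1, inv_inv_apply hs, ← map_neg, neg_sub])
    (fun x => by
      change t.1 (x - t.1 x) = -(x - t.1 x)
      rw [map_sub, inv_inv_apply ht, neg_sub])
    (fun x => by
      change b.1 (x - s.1 x) = 0 ↔ x - t.1 x = 0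
      rw [LinearEquiv.map_eq_zero_iff, sub_eq_zero, sub_eq_zero, eq_comm, h4 x x.2, eq_comm])
    (fun x => by
      change Q (x - t.1 x) = Q (b.1 (x - s.1 x))
      rw [OG.map_Q, Q_sub, Q_sub, OG.map_Q, OG.map_Q, h3 x x.2])
  have k1 : ∀ x, t.1 (b.1 (x + s.1 x)) = b.1 (x + s.1 x) := fun x => by
    rw [hb', map_add s.1, inv_inv_apply hs, add_comm]
  obtain ⟨d, d1, d2, d3⟩ := adjust2 hQ h2 (t := negOG Q * t) (by rw [neg_mul_neg', ht])
    (b.1.toLinearMap ∘ₗ (LinearMap.id + s.1.toLinearMap) ∘ₗ Y.subtype)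
    ((LinearMap.id + t.1.toLinearMap) ∘ₗ Y.subtype)
    (fun x => by
      change (negOG Q * t).1 (b.1 (x + s.1 x)) = -b.1 (x + s.1 x)
      rw [OG.mul_apply, k1, negOG_apply])
    (fun x => by
      change (negOG Q * t).1 (x + t.1 x) = -(x + t.1 x)
      rw [OG.mul_apply, negOG_apply, map_add, inv_inv_apply ht, add_comm])
    (fun x => by
      change b.1 (x + s.1 x) = 0 ↔ x + t.1 x = 0
      rw [LinearEquiv.map_eq_zero_iff, add_comm, add_comm (x : V), add_eq_zero_iff_eq_neg,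
        add_eq_zero_iff_eq_neg, h5 x x.2])
    (fun x => by
      change Q (x + t.1 x) = Q (b.1 (x + s.1 x))
      rw [OG.map_Q, Q_add, Q_add, OG.map_Q, OG.map_Q, h3 x x.2])
  have d1' : d * t = t * d := by
    rw [← mul_assoc, ← neg_comm, mul_assoc, mul_assoc] at d1
    exact mul_left_cancel d1
  refine ⟨d * c * b, by rw [mul_assoc, hb, ← mul_assoc, mul_assoc d, c1, ← mul_assoc, d1', mul_assoc,
    mul_assoc, mul_assoc], fun x hx => ?_⟩
  have c4 : c.1 (b.1 (x - s.1 x)) = x - t.1 x := c3 ⟨x, hx⟩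
  have d4 : d.1 (b.1 (x + s.1 x)) = x + t.1 x := d3 ⟨x, hx⟩
  have : (d * c * b).1 ((x - s.1 x) + (x + s.1 x)) = (x - t.1 x) + (x + t.1 x) := by
    rw [OG.mul_apply, OG.mul_apply, map_add, map_add, map_add, c4, c2 _ (k1 x), d4, d2 _ (by
      rw [OG.mul_apply, negOG_apply, map_sub, inv_inv_apply ht, neg_sub])]
  rw [sub_add_add_cancel, sub_add_add_cancel, ← two_smul F, map_smul] at this
  exact smul_right_injective V h2 this

variable [Fintype F]

theorem refl_of_det {r : OG Q} (hr : r * r = 1) (h4 : 4 ≤ finrank F (movSpace r)) {x y : V}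
    (h : 4 * Q (x - r.1 x) * Q (y - r.1 y) ≠ polar Q (x - r.1 x) (y - r.1 y) ^ 2) {e : F}
    (he : e ≠ 0) : ∃ z, Q z = e ∧ r.1 z = -z ∧ polar Q z x = 0 ∧ polar Q z y = 0 := by
  have m : ∀ x, x - r.1 x ∈ movSpace r := fun x => by
    rw [mem_mov h2 hr, map_sub, inv_inv_apply hr, neg_sub]
  obtain ⟨M, h1, h3, h5, h6⟩ := (sm hQ).split (g := 1) (one_mem _)
    (M₀ := movSpace r) ⟨nd_mov hQ h2 hr, fun _ h => h⟩ ⟨nd_plane h, fun _ h => h⟩
    (span_le.2 (by rintro _ (rfl | rfl) <;> exact m _))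
  have h7 : finrank F (span F {x - r.1 x, y - r.1 y}) ≤ 2 := by
    classical
    exact (finrank_span_le_card _).trans (by simpa using Finset.card_le_two)
  obtain ⟨z, hz, hz'⟩ := univ hQ h2 h1.nd le_rfl (by omega) he
  have h8 : z ∈ movSpace r := h5 ▸ mem_sup_right hz
  have key : ∀ x, polar Q (x - r.1 x) z = 0 → polar Q z x = 0 :=
    fun x h => by
      rw [polar_sub_left, inv_adj hr, (mem_mov h2 hr).1 h8, polar_neg_right, sub_neg_eq_add,
        ← two_mul, polar_comm] at h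
      exact (mul_eq_zero.1 h).resolve_left h2
  exact ⟨z, hz', (mem_mov h2 hr).1 h8,
    key x (h3 hz _ (subset_span (by simp))), key y (h3 hz _ (subset_span (by simp)))⟩

/-- the commutator attached to a good hyperbolic plane -/
theorem comm_of_plane {s t : OG Q} (hs : s * s = 1) (ht : t * t = 1)
    (hd : finrank F (movSpace s) = finrank F (movSpace t)) (ho : Even (finrank F (movSpace s)))
    (hst : s * t ∈ commutator (OG Q)) {x y : V} (hx : Q x = 0) (hxy : polar Q x y ≠ 0)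
    (h1 : polar Q x (s.1 x) = polar Q x (t.1 x)) (h1' : polar Q y (s.1 y) = polar Q y (t.1 y))
    (h3 : polar Q x (s.1 y) = polar Q x (t.1 y))
    (h4 : ∀ z ∈ span F {x, y}, s.1 z = z ↔ t.1 z = z)
    (h5 : ∀ z ∈ span F {x, y}, s.1 z = -z ↔ t.1 z = -z)
    (hr : ∀ e : F, e ≠ 0 → ∃ z, Q z = e ∧ (t.1 z = z ∨ t.1 z = -z) ∧ polar Q z x = 0 ∧
      polar Q z y = 0) :
    ∃ a ∈ commutator (OG Q), ∃ b ∈ commutator (OG Q), s * t = a * b * a⁻¹ * b⁻¹ := by
  have h24 : Nat.card F ≠ 2 ∨ finrank F V ≠ 4 := Or.inl (card_ne_two_of_two_ne_zero h2)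
  have sq : ∀ u : ℤˣ, u * u = 1 := Int.units_mul_self
  have hsp : spinor hQ h24 s = spinor hQ h24 t := by
    have := ((mem_commutator_iff hQ h24 _).1 hst).2
    rw [map_mul] at this
    rw [← one_mul (spinor hQ h24 t), ← sq (spinor hQ h24 s), mul_assoc, this, mul_one]
  obtain ⟨b, hb⟩ := exists_conj hQ h2 h24 hs ht hd hsp
  obtain ⟨b₁, e1, e2⟩ := exists_fix hQ h2 hs ht hb (Y := span F {x, y}) (fun z hz => by
    obtain ⟨α, β, rfl⟩ := mem_span_pair.1 hz
    have : polar Q y (s.1 x) = polar Q y (t.1 x) := by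
      rw [← inv_adj hs y, ← inv_adj ht y, polar_comm Q (s.1 y), polar_comm Q (t.1 y), h3]
    simp only [map_add, map_smul, polar_add_left, polar_add_right, polar_smul_left,
      polar_smul_right, h1, h1', h3, this]) h4 h5
  have hr' : ∀ e : F, e ≠ 0 → ∃ z, Q z = e ∧ refl Q z * t = t * refl Q z ∧
      ∀ p ∈ span F {x, y}, (refl Q z).1 p = p := fun e he => by
    obtain ⟨z, a3, a4, a5, a6⟩ := hr e he
    refine ⟨z, a3, ?_, fun p hp => ?_⟩
    · rw [mul_inv_eq_iff_eq_mul.1 (conj_refl t z)]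
      rcases a4 with h | h <;> rw [h]
      rw [refl_neg]
    · obtain ⟨α, β, rfl⟩ := mem_span_pair.1 hp
      rw [map_add, map_smul, map_smul, refl_apply_of_polar_eq_zero a5,
        refl_apply_of_polar_eq_zero a6]
  obtain ⟨ν, hν⟩ := exists_not_isSquare h2
  have hν0 : ν ≠ 0 := by rintro rfl; exact hν IsSquare.zero
  have p1 : ∀ y, Q y = 1 → dickson hQ h24 (refl Q y) = -1 ∧ spinor hQ h24 (refl Q y) = 1 :=
    fun y y1 => ⟨dickson_refl hQ h24 (by rw [y1]; exact one_ne_zero),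
      (spinor_refl_eq_one_iff hQ h24 (by rw [y1]; exact one_ne_zero)).2
        (by rw [y1]; exact IsSquare.one)⟩
  have p2 : ∀ y, Q y = ν → dickson hQ h24 (refl Q y) = -1 ∧ spinor hQ h24 (refl Q y) = -1 :=
    fun y y1 => ⟨dickson_refl hQ h24 (by rwa [y1]), spinor_refl_eq_neg_one hQ h24 (by rwa [y1])⟩
  obtain ⟨u, y1, y2, y3⟩ := hr' 1 one_ne_zero
  obtain ⟨z, z1, z2, z3⟩ := hr' ν hν0
  obtain ⟨b', f1, f2, f3⟩ : ∃ b' ∈ commutator (OG Q), b' * s = t * b' ∧
      ∀ p ∈ span F {x, y}, b'.1 p = p := by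
    have step : ∀ (r b₁ : OG Q), r * t = t * r → (∀ p ∈ span F {x, y}, r.1 p = p) →
        (b₁ * s = t * b₁ ∧ ∀ p ∈ span F {x, y}, b₁.1 p = p) →
        r * b₁ * s = t * (r * b₁) ∧ ∀ p ∈ span F {x, y}, (r * b₁).1 p = p := fun r b₁ r1 r2 h =>
      ⟨by rw [mul_assoc, h.1, ← mul_assoc, r1, mul_assoc],
        fun p hp => by rw [OG.mul_apply, h.2 p hp, r2 p hp]⟩
    simp only [mem_commutator_iff hQ h24]
    rcases Int.units_eq_one_or (dickson hQ h24 b₁) with i | i <;>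
      rcases Int.units_eq_one_or (spinor hQ h24 b₁) with j | j
    · exact ⟨b₁, ⟨i, j⟩, e1, e2⟩
    · exact ⟨_, by simp [i, j, p1 u y1, p2 z z1], step _ _ y2 y3 (step _ _ z2 z3 ⟨e1, e2⟩)⟩
    · exact ⟨_, by simp [i, j, p1 u y1], step _ _ y2 y3 ⟨e1, e2⟩⟩
    · exact ⟨_, by simp [i, j, p2 z z1], step _ _ z2 z3 ⟨e1, e2⟩⟩
  have hu : ∀ e : F, ∃ p, Q p = e ∧ b' * refl Q p = refl Q p * b' := fun e =>
    ⟨((e - Q y) / polar Q x y) • x + (1 : F) • y, by
      rw [Q_add, Q_smul, hx, one_smul, polar_smul_left, smul_eq_mul]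
      field_simp
      ring, by
      rw [← mul_inv_eq_iff_eq_mul, conj_refl, f3 _ (mem_span_pair.2 ⟨_, _, rfl⟩)]⟩
  obtain ⟨c, c1, c2⟩ : ∃ c, b' * c = c * b' ∧ s * c ∈ commutator (OG Q) := by
    obtain ⟨p, k1, k2⟩ := hu 1
    obtain ⟨p', k1', k2'⟩ := hu ν
    have ds := (dickson_eq_one_iff hQ h24 s).2 ho
    simp only [mem_commutator_iff hQ h24]
    rcases Int.units_eq_one_or (spinor hQ h24 s) with j | j
    · exact ⟨1, by simp, by simp [ds, j]⟩
    · exact ⟨refl Q p * refl Q p', by rw [← mul_assoc, k2, mul_assoc, k2', mul_assoc],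
        by simp [ds, j, p1 p k1, p2 p' k1']⟩
  refine ⟨s * c, c2, b', f1, ?_⟩
  have g2 : s⁻¹ = s := inv_eq_of_mul_eq_one_right hs
  calc s * t = s * (b' * c) * c⁻¹ * b'⁻¹ * (t * b') * b'⁻¹ := by group
    _ = _ := by rw [c1, ← f2, mul_inv_rev, g2]; group

end CfsgLib.OmOre
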