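import Mathlib
import Cfsg.Agent.Lib.OmOre.Plane

/-!
More counting of singular vectors.
-/

set_option autoImplicit false

namespace CfsgLib.OmOre

open Module Submodule QuadraticMap CfsgLib.SpOre CfsgLib.Orth CfsgLib.Forms

universe u

/-- the number of elements with a property -/
noncomputable def ct {X : Type*} (p : X → Prop) : ℤ := Nat.card {x // p x}

section
variable {X : Type*} [Finite X] {p p' p'' : X → Prop}

theorem ct_le_add (h : ∀ x, p x → p' x ∨ p'' x) : ct p ≤ ct p' + ct p'' := by
  classical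
  have := Fintype.ofFinite X
  simp only [ct, card_eq_sum, ← Finset.sum_add_distrib]
  refine Finset.sum_le_sum fun x _ => ?_
  have := h x
  split_ifs <;> first | omega | tauto

theorem ct_mono (h : ∀ x, p x → p' x) : ct p ≤ ct p' := by
  have := ct_le_add (p'' := fun _ => False) fun x hx => Or.inl (h x hx)
  simpa [ct] using this

theorem ct_or (p p' : X → Prop) : ct (fun x => p x ∨ p' x) ≤ ct p + ct p' := ct_le_add fun _ h => h

theorem ct_add (h : ∀ x, p x ↔ p' x ∨ p'' x) (h' : ∀ x, p' x → ¬ p'' x) :
    ct p = ct p' + ct p'' := by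
  classical
  have := Fintype.ofFinite X
  simp only [ct, card_eq_sum, ← Finset.sum_add_distrib]
  refine Finset.sum_congr rfl fun x _ => ?_
  have := h x
  have := h' x
  split_ifs <;> first | omega | tauto

theorem ct_exists_le {ι : Type*} (T : Finset ι) (p : ι → X → Prop) :
    ct (fun x => ∃ i ∈ T, p i x) ≤ ∑ i ∈ T, ct (p i) := by
  classical
  induction T using Finset.induction_on with
  | empty => simp [ct]
  | insert a T ha ih =>
    rw [Finset.sum_insert ha]
    exact (ct_le_add fun x hx => by simpa using hx).trans (add_le_add le_rfl ih)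

end

variable {F : Type*} [Field F] {V : Type*} [AddCommGroup V] [Module F V] [FiniteDimensional F V]

theorem rad_le' (R : QuadraticForm F V) (U : Submodule F V) :
    finrank F (LinearMap.ker (polarBilin (R.comp U.subtype))) + finrank F U ≤
      finrank F V + finrank F (LinearMap.ker (polarBilin R)) := by
  have h1 := LinearMap.BilinForm.finrank_add_finrank_orthogonal (polarBilin_isRefl R) U
  have h2 : finrank F (LinearMap.ker (polarBilin (R.comp U.subtype))) ≤
      finrank F (LinearMap.BilinForm.orthogonal (polarBilin R) U) := by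
    rw [← Submodule.finrank_map_subtype_eq]
    refine Submodule.finrank_mono ?_
    rintro _ ⟨x, hx, rfl⟩ y hy
    have : polar (R.comp U.subtype) x ⟨y, hy⟩ = 0 := LinearMap.congr_fun hx ⟨y, hy⟩
    rw [polar_comp, polar_comm] at this
    exact this
  have h3 : finrank F ↥(U ⊓ LinearMap.BilinForm.orthogonal (polarBilin R) ⊤) ≤
      finrank F (LinearMap.ker (polarBilin R)) := Submodule.finrank_mono fun x hx => by
    ext y
    exact polarBilin_isRefl R _ _ (hx.2 y trivial)
  omega

variable [Fintype F]

theorem ct_mem (U : Submodule F V) : ct (· ∈ U) = (Fintype.card F : ℤ) ^ finrank F U := by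
  rw [ct, Module.natCard_eq_pow_finrank (K := F) (V := U), Nat.card_eq_fintype_card]
  push_cast
  rfl

theorem ct_mem_le {U : Submodule F V} {k : ℕ} (h : finrank F U ≤ k) :
    ct (· ∈ U) ≤ (Fintype.card F : ℤ) ^ k := by
  rw [ct_mem]
  exact pow_le_pow_right₀ (by exact_mod_cast Fintype.card_pos) h

theorem ct_diff {U : Submodule F V} {k : ℕ} (h : finrank F U ≤ k + 1) (f : V →ₗ[F] F) :
    ct (fun x => x ∈ U ∧ f x ≠ 0) ≤ (Fintype.card F - 1) * (Fintype.card F : ℤ) ^ k := by
  have : Finite V := Module.finite_of_finite F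
  have hq : (1 : ℤ) ≤ Fintype.card F := by exact_mod_cast Fintype.card_pos
  have h1 : ct (· ∈ U) = ct (fun x => x ∈ U ∧ f x ≠ 0) + ct (· ∈ U ⊓ LinearMap.ker f) :=
    ct_add (fun x => by simp only [mem_inf, LinearMap.mem_ker]; tauto) fun x h h' => h.2 h'.2
  have h2 := inf_ge U (LinearMap.ker f)
  have h3 := f.finrank_range_add_finrank_ker
  have h4 : finrank F (LinearMap.range f) ≤ 1 := by simpa using finrank_le (LinearMap.range f)
  have h5 : finrank F ↥(U ⊓ LinearMap.ker f) ≤ finrank F U := Submodule.finrank_mono inf_le_left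
  rw [ct_mem, ct_mem] at h1
  have h6 : 0 ≤ (Fintype.card F - 1) * (Fintype.card F : ℤ) ^ k := by
    have : (0 : ℤ) ≤ Fintype.card F - 1 := by omega
    positivity
  by_cases h7 : finrank F U = finrank F ↥(U ⊓ LinearMap.ker f)
  · rw [h7] at h1
    omega
  · obtain ⟨j, hj⟩ : ∃ j, k = finrank F ↥(U ⊓ LinearMap.ker f) + j := ⟨_, (Nat.add_sub_cancel' (by omega)).symm⟩
    rw [show finrank F U = finrank F ↥(U ⊓ LinearMap.ker f) + 1 by omega, pow_succ] at h1
    rw [hj, pow_add]
    have h8 : (1 : ℤ) ≤ (Fintype.card F : ℤ) ^ j := one_le_pow₀ hq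
    have h9 : (0 : ℤ) ≤ (Fintype.card F - 1) *
        (Fintype.card F : ℤ) ^ finrank F ↥(U ⊓ LinearMap.ker f) := by
      have : (0 : ℤ) ≤ Fintype.card F - 1 := by omega
      positivity
    nlinarith

theorem cnt_comp (R : QuadraticForm F V) (U : Submodule F V) :
    cnt (R.comp U.subtype) 0 = ct fun x => x ∈ U ∧ R x = 0 := by
  rw [cnt, ct, Nat.card_congr (Equiv.subtypeSubtypeEquivSubtypeInter (· ∈ U) fun x => R x = 0).symm]
  rfl

theorem ct_sub (h2 : (2 : F) ≠ 0) (R : QuadraticForm F V) {U : Submodule F V} (k : ℕ) {m : ℕ}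
    (hm : finrank F U = m)
    (h : finrank F (LinearMap.ker (polarBilin (R.comp U.subtype))) + 2 * k ≤ m) :
    (Fintype.card F : ℤ) ^ k * |Fintype.card F * ct (fun x => x ∈ U ∧ R x = 0) -
      (Fintype.card F : ℤ) ^ m| ≤ (Fintype.card F - 1) * (Fintype.card F : ℤ) ^ m := by
  classical
  have : Finite V := Module.finite_of_finite F
  have h1 := dev_le h2 k U (R.comp U.subtype) (by omega) 0
  rwa [if_pos rfl, cnt_comp, show (Nat.card U : ℤ) = ct (· ∈ U) from rfl, ct_mem, hm] at h1

theorem cnt_odd (h2 : (2 : F) ≠ 0) (k : ℕ) : ∀ (V : Type u) [AddCommGroup V] [Module F V] [Finite V]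
    (R : QuadraticForm F V), finrank F (LinearMap.ker (polarBilin R)) = 0 →
    finrank F V = 2 * k + 1 → Fintype.card F * cnt R 0 = Nat.card V := by
  classical
  induction k with
  | zero =>
    intro V _ _ _ R h0 h1
    obtain ⟨u, hu⟩ := exists_ne_zero R (by omega)
    obtain ⟨W, E, a1, -, hE⟩ := strip h2 R hu
    have : Subsingleton W := Module.finrank_zero_iff.1 (by omega : finrank F W = 0)
    have := Fintype.ofFinite W
    rw [cnt_congr E hE, ← Nat.card_congr E, Nat.card_prod,
      cnt_prod (fun t : F => t * t * R u) (fun w : W => R w), Fintype.sum_subsingleton _ 0,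
      cnt_sq h2 hu, Nat.card_unique (α := W)]
    simp
  | succ k ih =>
    intro V _ _ _ R h0 h1
    obtain ⟨u, hu⟩ := exists_ne_zero R (by omega)
    obtain ⟨W, E, a1, a2, hE⟩ := strip h2 R hu
    obtain ⟨v, hv⟩ := exists_ne_zero (R.comp W.subtype) (by omega)
    obtain ⟨W', E', b1, b2, hE'⟩ := strip h2 _ hv
    have := Fintype.ofFinite W'
    obtain ⟨η, hη, hc⟩ := cnt_bin h2 hu hv
    have h3 := ih W' ((R.comp W.subtype).comp W'.subtype) (by omega) (by omega)
    set R' := (R.comp W.subtype).comp W'.subtype with hR'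
    let E'' : ((F × F) × W') ≃ V :=
      (Equiv.prodAssoc _ _ _).trans ((Equiv.prodCongr (Equiv.refl F) E').trans E)
    have h4 : cnt R 0 = (Fintype.card F - η) * Nat.card W' + Fintype.card F * η * cnt R' 0 := by
      rw [cnt_congr E'' (f := fun p => (p.1.1 * p.1.1 * R u + p.1.2 * p.1.2 * R.comp W.subtype v)
        + R' p.2) (fun p => by
          have := hE' (p.1.2, p.2)
          change R (E (p.1.1, E' (p.1.2, p.2))) = _
          rw [hE, add_assoc]
          congr 1),
        cnt_prod (fun p : F × F => p.1 * p.1 * R u + p.2 * p.2 * R.comp W.subtype v)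
          (fun w : W' => R' w)]
      simp only [hc, Finset.sum_add_distrib, cnt_eq_sum, Finset.mul_sum, sub_eq_zero, mul_ite,
        mul_one, mul_zero, eq_comm (a := (0 : F))]
      simp only [Finset.sum_const, Finset.card_univ, nsmul_eq_mul, Nat.card_eq_fintype_card]
      ring
    have h5 : (Nat.card V : ℤ) = Fintype.card F * Fintype.card F * Nat.card W' := by
      rw [← Nat.card_congr E'', Nat.card_prod, Nat.card_prod, Nat.card_eq_fintype_card]
      push_cast
      rfl
    rw [h4, h5]
    linear_combination (Fintype.card F * η) * h3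

end CfsgLib.OmOre
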