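import Mathlib
import Cfsg.Agent.Lib.OmOre.Cnt2

/-!
Existence of good planes for a pair of involutions in even dimension.
-/

set_option autoImplicit false

namespace CfsgLib.OmOre

open Module Submodule QuadraticMap CfsgLib.SpOre CfsgLib.Orth CfsgLib.Forms

variable {F : Type*} [Field F] {V : Type*} [AddCommGroup V] [Module F V] {Q : QuadraticForm F V}

/-- the form `B (x, s x - t x)` -/
noncomputable def dq (s t : OG Q) : QuadraticForm F V :=
  LinearMap.BilinMap.toQuadraticMap ((polarBilin Q).compl₂ (s.1.toLinearMap - t.1.toLinearMap))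

theorem dq_eq_zero {s t : OG Q} {x : V} :
    dq s t x = 0 ↔ polar Q x (s.1 x) = polar Q x (t.1 x) := by
  change polar Q x (s.1 x - t.1 x) = 0 ↔ _
  rw [polar_sub_right, sub_eq_zero]

theorem polar_dq {s t : OG Q} (hs : s * s = 1) (ht : t * t = 1) (x y : V) :
    polar (dq s t) x y = polar Q ((2 : F) • (s.1 x - t.1 x)) y := by
  rw [dq, LinearMap.BilinMap.polar_toQuadraticMap]
  change polar Q x (s.1 y - t.1 y) + polar Q y (s.1 x - t.1 x) = _
  rw [polar_sub_right, ← inv_adj hs, ← inv_adj ht, ← polar_sub_left, polar_comm Q y,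
    polar_smul_left, two_smul]

theorem three_le [Fintype F] (h2 : (2 : F) ≠ 0) : (3 : ℤ) ≤ Fintype.card F := by
  have := card_odd_of_two_ne_zero h2
  have := Fintype.one_lt_card (α := F)
  omega

theorem dev_lo {q a b c : ℤ} (k : ℕ) (hq : 0 ≤ q) (h : q ^ k * |a - b| ≤ c) :
    q ^ k * b - c ≤ q ^ k * a ∧ q ^ k * a ≤ q ^ k * b + c := by
  have h1 := mul_le_mul_of_nonneg_left (neg_abs_le (a - b)) (by positivity : 0 ≤ q ^ k)
  have h2 := mul_le_mul_of_nonneg_left (le_abs_self (a - b)) (by positivity : 0 ≤ q ^ k)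
  constructor <;> linarith

variable [FiniteDimensional F V] (hQ : (polarBilin Q).Nondegenerate)

include hQ

theorem nd_top : Nd (polarBilin Q) ⊤ := by
  rw [Nd, LinearMap.BilinForm.orthogonal_top_eq_bot hQ]; exact disjoint_bot_right

theorem ts_le {H U : Submodule F V} (hH : Nd (polarBilin Q) H) (hU : U ≤ H)
    (h0 : ∀ x ∈ U, Q x = 0) : 2 * finrank F U ≤ finrank F H := by
  have h3 := (sm hQ).finrank_orth_inf hH hU
  have h5 : U ≤ LinearMap.BilinForm.orthogonal (polarBilin Q) U ⊓ H :=
    le_inf (fun x hx y hy => by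
      change polar Q y x = 0
      rw [polar, h0 x hx, h0 y hy, h0 _ (add_mem hy hx)]; simp) hU
  have := Submodule.finrank_mono h5
  omega

theorem finrank_perp {x : V} (hx : x ≠ 0) :
    finrank F (LinearMap.ker (polarBilin Q x)) + 1 = finrank F V := by
  refine Module.Dual.finrank_ker_add_one_of_ne_zero fun h => hx (eq_zero_of_polar hQ fun y => ?_)
  exact LinearMap.congr_fun h y

variable (h2 : (2 : F) ≠ 0) {s t : OG Q} (hs : s * s = 1) (ht : t * t = 1)

include h2 hs ht

theorem rad_dq : LinearMap.ker (polarBilin (dq s t)) ≤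
    LinearMap.ker (s.1.toLinearMap - t.1.toLinearMap) := fun x hx =>
  (smul_eq_zero.1 (eq_zero_of_polar hQ fun y =>
    (polar_dq hs ht x y).symm.trans (LinearMap.congr_fun hx y))).resolve_left h2

variable [Fintype F]

theorem exists_y1 {m : ℕ} (hn : finrank F V = m + 4) (hm : 4 ≤ m)
    (hK : ∀ x, s.1 x = t.1 x → Q x = 0) (h1 : finrank F (fixSpace s) ≤ m)
    (h3 : finrank F (fixSpace t) ≤ m) {x : V} (hx : x ≠ 0) :
    ∃ y, polar Q x y ≠ 0 ∧ dq s t y = 0 ∧ y ∉ fixSpace s ∧ y ∉ fixSpace t := by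
  have : Finite V := Module.finite_of_finite F
  have a1 := Submodule.finrank_mono (rad_dq hQ h2 hs ht)
  have a2 := ts_le hQ (nd_top hQ) (U := LinearMap.ker (s.1.toLinearMap - t.1.toLinearMap)) le_top
    fun x hx => hK x (sub_eq_zero.1 hx)
  have a3 := finrank_perp hQ hx
  have a4 := rad_le' (dq s t) ⊤
  have a5 := rad_le' (dq s t) (LinearMap.ker (polarBilin Q x))
  rw [finrank_top] at a2 a4
  have hq := three_le h2
  have b1 := (dev_lo 2 (by omega) (ct_sub h2 (dq s t) (U := ⊤) 2 (m := m + 4)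
    (by rw [finrank_top, hn]) (by omega))).1
  have b2 := (dev_lo 1 (by omega) (ct_sub h2 (dq s t) (U := LinearMap.ker (polarBilin Q x)) 1
    (m := m + 3) (by omega) (by omega))).2
  have b3 := ct_mem_le h1
  have b4 := ct_mem_le h3
  by_contra hcon
  push Not at hcon
  have b5 := (ct_le_add (p := fun y => y ∈ (⊤ : Submodule F V) ∧ dq s t y = 0)
    (p' := fun y => y ∈ LinearMap.ker (polarBilin Q x) ∧ dq s t y = 0)
    (p'' := fun y => y ∈ fixSpace s ∨ y ∈ fixSpace t) fun y hy => by
      by_contra h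
      push Not at h
      exact h.2.2 (hcon y (fun h' => h.1 h' hy.2) hy.2 h.2.1)).trans
    (add_le_add le_rfl (ct_or _ _))
  simp only [pow_add] at b1 b2
  set q : ℤ := (Fintype.card F : ℤ)
  have hA : 0 < q ^ m := by positivity
  generalize q ^ m = A at *
  have c1 : q ^ 3 * ((q ^ 2 - 3 * q + 2) * q * A) ≤ q ^ 3 * (2 * A) := by
    have := mul_le_mul_of_nonneg_left b2 (by omega : 0 ≤ q)
    have := mul_le_mul_of_nonneg_left (b5.trans (add_le_add le_rfl (add_le_add b3 b4)))
      (by positivity : 0 ≤ q ^ 3)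
    linarith
  have c2 := le_of_mul_le_mul_right (le_of_mul_le_mul_left c1 (by positivity)) hA
  nlinarith

theorem exists_x {e : ℕ} (h1 : finrank F (movSpace s) = e + 4) (h3 : finrank F (fixSpace s) = e + 4)
    (h4 : finrank F (movSpace t) = e + 4) (h5 : finrank F (fixSpace t) = e + 4)
    (hK : ∀ x, s.1 x = t.1 x → x = 0) :
    ∃ x, Q x = 0 ∧ dq s t x = 0 ∧ x ∉ fixSpace s ∧ x ∉ movSpace s ∧ x ∉ fixSpace t ∧
      x ∉ movSpace t ∧ ∀ μ : F, s.1 x - t.1 x ≠ μ • x := by
  classical
  have : Finite V := Module.finite_of_finite F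
  have := Fintype.ofFinite V
  have hn : finrank F V = 2 * e + 8 := by have := finrank_fix_add_mov s; omega
  let A : End F V := (-2 : F) • (s.1.toLinearMap - t.1.toLinearMap)
  have hA : ∀ l x, x ∈ A.eigenspace l ↔ (2 : F) • (s.1 x - t.1 x) + l • x = 0 := fun l x => by
    rw [End.mem_eigenspace_iff, add_eq_zero_iff_neg_eq, ← neg_smul]
    rfl
  have h0 : finrank F (A.eigenspace 0) = 0 := Submodule.finrank_eq_zero.2 (by
    rw [eq_bot_iff]
    intro x hx
    rw [hA, zero_smul, add_zero] at hx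
    exact hK x (sub_eq_zero.1 ((smul_eq_zero.1 hx).resolve_left h2)))
  have r1 : ∀ l : F, finrank F (LinearMap.ker (polarBilin (dq s t + l • Q))) ≤
      finrank F (A.eigenspace l) := fun l => Submodule.finrank_mono fun x hx => by
    rw [hA]
    refine eq_zero_of_polar hQ fun y => ?_
    have h : polar (dq s t + l • Q) x y = 0 := LinearMap.congr_fun hx y
    have e : polar (dq s t + l • Q) x y = polar (dq s t) x y + l * polar Q x y := by
      simp only [polar, QuadraticMap.add_apply, QuadraticMap.smul_apply, smul_eq_mul]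
      ring
    rw [polar_add_left, ← polar_dq hs ht, polar_smul_left, ← h, e, smul_eq_mul]
  have r2 : ∀ l : F, finrank F (A.eigenspace l) ≤ e + 4 := fun l => by
    by_cases hl0 : l = 0
    · rw [hl0, h0]; omega
    have fin : ∀ H : Submodule F V, finrank F H = e + 4 → Disjoint (A.eigenspace l) H →
        finrank F (A.eigenspace l) ≤ e + 4 := fun H h h' => by
      have := inf_ge (A.eigenspace l) H
      rw [h'.eq_bot, finrank_bot] at this
      omega
    by_cases hl : l + 4 = 0
    · refine fin (fixSpace t) h5 (Submodule.disjoint_def.2 fun x hx hx' => ?_)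
      rw [hA, mem_fixSpace.1 hx'] at hx
      have e2 := congrArg s.1 hx
      rw [map_add, map_smul, map_smul, map_sub, inv_inv_apply hs, map_zero] at e2
      have e3 : (l * (l + 4 - 2 * 2 * 2)) • x = 0 := by
        linear_combination (norm := module) (l - 2) • hx - (2 : F) • e2
      rw [hl, zero_sub] at e3
      exact (smul_eq_zero.1 e3).resolve_left
        (mul_ne_zero hl0 (neg_ne_zero.2 (mul_ne_zero (mul_ne_zero h2 h2) h2)))
    · refine fin (fixSpace s) h3 (Submodule.disjoint_def.2 fun x hx hx' => ?_)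
      rw [hA, mem_fixSpace.1 hx'] at hx
      have e2 := congrArg t.1 hx
      rw [map_add, map_smul, map_smul, map_sub, inv_inv_apply ht, map_zero] at e2
      have e3 : (l * (l + 4)) • x = 0 := by
        linear_combination (norm := module) (l + 2) • hx + (2 : F) • e2
      exact (smul_eq_zero.1 e3).resolve_left (mul_ne_zero hl0 hl)
  let T : Finset F := Finset.univ.filter fun l => 2 * e + 8 < 3 * finrank F (A.eigenspace l)
  have hT : ∀ l, l ∈ T ↔ 2 * e + 8 < 3 * finrank F (A.eigenspace l) := fun l => by simp [T]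
  have hT2 : (T.card : ℤ) ≤ 2 := by
    by_contra h
    obtain ⟨a, ha, b, hb, c, hc, hab, hac, hbc⟩ := Finset.two_lt_card.1 (show 2 < T.card by omega)
    rw [hT] at ha hb hc
    have i := A.eigenspaces_iSupIndep
    have i1 := finrank_sup_add_finrank_inf_eq (A.eigenspace a) (A.eigenspace b)
    have i2 := finrank_sup_add_finrank_inf_eq (A.eigenspace c) (A.eigenspace a ⊔ A.eigenspace b)
    rw [(i.pairwiseDisjoint hab).eq_bot, finrank_bot] at i1
    rw [((i c).mono_right (sup_le (le_biSup _ hac) (le_biSup _ hbc))).eq_bot, finrank_bot] at i2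
    have := finrank_le (A.eigenspace c ⊔ (A.eigenspace a ⊔ A.eigenspace b))
    omega
  have hq := three_le h2
  have hV : (Nat.card V : ℤ) = (Fintype.card F : ℤ) ^ (2 * e + 8) := by
    rw [Module.natCard_eq_pow_finrank (K := F) (V := V), hn, Nat.card_eq_fintype_card]
    push_cast
    rfl
  set q : ℤ := (Fintype.card F : ℤ) with hqd
  have hV0 : (0 : ℤ) ≤ (q - 1) * Nat.card V := mul_nonneg (by omega) (by positivity)
  have d0 := (dev_lo 3 (by omega) (dev_le h2 3 V Q (by
    rw [LinearMap.BilinForm.Nondegenerate.ker_eq_bot hQ, finrank_bot]; omega) 0)).1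
  have d1 : ∀ l : F, q ^ 3 * Nat.card V - (q - 1) * Nat.card V -
      (if l ∈ T then (q - 1) * ((q - 1) * Nat.card V) else 0) ≤
      q ^ 4 * cnt (dq s t + l • Q) 0 := fun l => by
    have := r1 l
    have := r2 l
    split_ifs with h
    · have := mul_le_mul_of_nonneg_left
        (dev_lo 2 (by omega) (dev_le h2 2 V (dq s t + l • Q) (by omega) 0)).1 (by omega : 0 ≤ q)
      rw [if_pos rfl] at this
      linarith
    · rw [hT] at h
      have := (dev_lo 3 (by omega) (dev_le h2 3 V (dq s t + l • Q) (by omega) 0)).1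
      rw [if_pos rfl] at this
      linarith
  rw [if_pos rfl] at d0
  have e1 : ∑ l : F, cnt (dq s t + l • Q) 0 + cnt Q 0 =
      Nat.card V + q * ct fun x => dq s t x = 0 ∧ Q x = 0 := by
    simp only [ct, card_eq_sum, cnt_eq_sum, QuadraticMap.add_apply, QuadraticMap.smul_apply,
      smul_eq_mul]
    rw [Finset.sum_comm, ← Finset.sum_add_distrib]
    simp only [pencil, Finset.sum_add_distrib, Finset.mul_sum]
    simp [hqd]
  have e2 := Finset.sum_le_sum (s := Finset.univ) fun l _ => d1 l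
  rw [Finset.sum_sub_distrib, Finset.sum_const, Finset.card_univ, nsmul_eq_mul, ← hqd,
    ← Finset.mul_sum, Finset.sum_ite_mem, Finset.univ_inter, Finset.sum_const, nsmul_eq_mul] at e2
  have e3 := mul_le_mul_of_nonneg_right hT2 (mul_nonneg (by omega : 0 ≤ q - 1) hV0)
  have sing : ∀ W : Submodule F V, Nd (polarBilin Q) W → finrank F W = e + 4 →
      q ^ 3 * ct (fun x => x ∈ W ∧ Q x = 0) ≤ (q ^ 2 + q - 1) * q ^ (e + 4) := fun W hW h => by
    have := rad_le hQ hW le_rfl
    have := (dev_lo 2 (by omega) (ct_sub h2 Q 2 h (by omega))).2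
    linarith
  have b1 := sing _ (nd_fix hQ h2 hs) h3
  have b2 := sing _ (nd_mov hQ h2 hs) h1
  have b3 := sing _ (nd_fix hQ h2 ht) h5
  have b4 := sing _ (nd_mov hQ h2 ht) h4
  have b5 := (ct_exists_le (Finset.univ.erase (0 : F)) fun l x => x ∈ A.eigenspace l).trans
    (Finset.sum_le_sum (g := fun l => q ^ (e + 2) + if l ∈ T then q ^ (e + 4) - q ^ (e + 2) else 0)
      fun l _ => by
        split_ifs with h
        · rw [add_sub_cancel]
          exact ct_mem_le (r2 l)
        · rw [hT] at h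
          rw [add_zero]
          exact ct_mem_le (by omega))
  have hle : q ^ (e + 2) ≤ q ^ (e + 4) := pow_le_pow_right₀ (by omega) (by omega)
  rw [Finset.sum_add_distrib, Finset.sum_const, Finset.sum_ite_mem, Finset.sum_const,
    Finset.card_erase_of_mem (Finset.mem_univ _), Finset.card_univ, nsmul_eq_mul, nsmul_eq_mul,
    Nat.cast_sub Fintype.card_pos, ← hqd] at b5
  have b6 := mul_le_mul_of_nonneg_right (show (((Finset.univ.erase (0 : F)) ∩ T).card : ℤ) ≤ 2 from
    le_trans (by exact_mod_cast Finset.card_le_card Finset.inter_subset_right) hT2)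
    (sub_nonneg.2 hle)
  by_contra hcon
  push Not at hcon
  have b7 := (ct_le_add (p := fun x => dq s t x = 0 ∧ Q x = 0)
    (p' := fun x => ((x ∈ fixSpace s ∧ Q x = 0) ∨ (x ∈ movSpace s ∧ Q x = 0)) ∨
      ((x ∈ fixSpace t ∧ Q x = 0) ∨ (x ∈ movSpace t ∧ Q x = 0)))
    (p'' := fun x => ∃ l ∈ Finset.univ.erase (0 : F), x ∈ A.eigenspace l) fun x hx => by
      by_contra h
      simp only [hx.2, and_true, not_or, not_exists, not_and] at h
      obtain ⟨μ, hμ⟩ := hcon x hx.2 hx.1 h.1.1.1 h.1.1.2 h.1.2.1 h.1.2.2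
      refine h.2 (-2 * μ) ?_ (by rw [hA, hμ]; module)
      simp only [Finset.mem_erase, Finset.mem_univ, and_true, ne_eq, mul_eq_zero, neg_eq_zero, h2,
        false_or]
      rintro rfl
      rw [zero_smul, sub_eq_zero] at hμ
      exact h.1.1.1 (hK x hμ ▸ zero_mem _)).trans
    (add_le_add ((ct_or _ _).trans (add_le_add (ct_or _ _) (ct_or _ _))) le_rfl)
  have e4 := congrArg (q ^ 4 * ·) e1
  simp only [hV, pow_add, pow_mul', Nat.cast_one] at d0 e2 e3 e4 b1 b2 b3 b4 b5 b6
  have hA1 : 1 ≤ q ^ e := one_le_pow₀ (by omega)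
  generalize q ^ e = B at *
  have c1 : q ^ 5 * ((q ^ 3 - (q - 1) * (3 * q - 1)) * q ^ 3 * B ^ 2) ≤
      q ^ 5 * ((4 * (q ^ 2 + q - 1) * q + 2 * q ^ 4 + (q - 3) * q ^ 2) * B) := by
    have := mul_le_mul_of_nonneg_left b7 (by positivity : 0 ≤ q ^ 5)
    have := mul_le_mul_of_nonneg_left b1 (by positivity : 0 ≤ q ^ 2)
    have := mul_le_mul_of_nonneg_left b2 (by positivity : 0 ≤ q ^ 2)
    have := mul_le_mul_of_nonneg_left b3 (by positivity : 0 ≤ q ^ 2)
    have := mul_le_mul_of_nonneg_left b4 (by positivity : 0 ≤ q ^ 2)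
    have := mul_le_mul_of_nonneg_left b5 (by positivity : 0 ≤ q ^ 5)
    have := mul_le_mul_of_nonneg_left b6 (by positivity : 0 ≤ q ^ 5)
    linarith
  have c2 := le_of_mul_le_mul_left c1 (by positivity)
  obtain ⟨u, hu⟩ : ∃ u, q = 3 + u := ⟨q - 3, by ring⟩
  obtain ⟨w, hw⟩ : ∃ w, B = 1 + w := ⟨B - 1, by ring⟩
  have hu0 : 0 ≤ u := by omega
  have hw0 : 0 ≤ w := by omega
  rw [hu, hw, ← sub_nonpos, ← not_lt] at c2
  apply c2
  ring_nf
  positivity

end CfsgLib.OmOre
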