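import Mathlib
import Cfsg.Agent.Lib.OmOre.Even
import Cfsg.Agent.Lib.Inv2.Orth

/-!
Characteristic two: the product of two conjugate involutions is a commutator in `Ω(V)`.
-/

set_option autoImplicit false

namespace CfsgLib.OmOre

open Module Submodule QuadraticMap CfsgLib.SpOre CfsgLib.Orth CfsgLib.Forms CfsgLib.Inv2

variable {F : Type*} [Field F] [CharP F 2] {V : Type*} [AddCommGroup V] [Module F V]
  {Q : QuadraticForm F V}

theorem sy (hQ : (polarBilin Q).Nondegenerate) : Sy (polarBilin Q) :=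
  ⟨fun x => polar_self_charTwo x, hQ⟩

theorem fix_of_mov {t : OG Q} (ht : t * t = 1) {x : V} (hx : x ∈ movSpace t) : t.1 x = x :=
  fix_mov (congrArg Subtype.val ht) hx

/-- `x` is not orthogonal to the singular vectors moved by `r` -/
def Gn (r : OG Q) (x : V) : Prop := ∃ m ∈ movSpace r, Q m = 0 ∧ polar Q x m ≠ 0

variable [FiniteDimensional F V] (hQ : (polarBilin Q).Nondegenerate)

include hQ

theorem exists_good_x (hn : 7 ≤ finrank F V) {H A A' : Submodule F V}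
    (hH : finrank F V ≤ finrank F H + 1) (hA : finrank F A + 2 ≤ finrank F V)
    (hA' : finrank F A' + 2 ≤ finrank F V) : ∃ x ∈ H, x ∉ A ∧ x ∉ A' ∧ Q x ≠ 0 := by
  have key : ∀ A : Submodule F V, finrank F A + 2 ≤ finrank F V → ∃ f : V →ₗ[F] F,
      (∃ h ∈ H, f h ≠ 0) ∧ (∀ x, f x ≠ 0 → x ∉ A) ∧
      finrank F V ≤ finrank F (LinearMap.ker f) + 1 := fun A hA => by
    obtain ⟨h, h1, h2⟩ := SetLike.not_le_iff_exists.1 (fun h : H ≤ A => by
      have := Submodule.finrank_mono h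
      omega)
    obtain ⟨f, f1, f2⟩ := Submodule.exists_dual_map_eq_bot_of_notMem h2 inferInstance
    exact ⟨f, ⟨h, h1, f1⟩, fun x hx hx' => hx (f2.le ⟨x, hx', rfl⟩),
      (Module.Dual.finrank_ker_add_one_of_ne_zero (by rintro rfl; exact f1 rfl)).ge⟩
  obtain ⟨f, ⟨h, h1, h2⟩, f1, f2⟩ := key A hA
  obtain ⟨f', ⟨h', h1', h2'⟩, f1', f2'⟩ := key A' hA'
  obtain ⟨x, x1, x2, x3⟩ : ∃ x ∈ H, f x ≠ 0 ∧ f' x ≠ 0 := by
    by_cases a : f' h = 0
    · by_cases b : f h' = 0
      · exact ⟨h + h', add_mem h1 h1', by simpa [b], by simpa [a]⟩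
      · exact ⟨h', h1', b, h2'⟩
    · exact ⟨h, h1, h2, a⟩
  by_contra hcon
  push Not at hcon
  have k : ∀ c ∈ H ⊓ (LinearMap.ker f ⊓ LinearMap.ker f'), Q (x + c) = 0 := fun c hc =>
    hcon _ (add_mem x1 hc.1) (f1 _ (by rwa [map_add, hc.2.1, add_zero]))
      (f1' _ (by rwa [map_add, hc.2.2, add_zero]))
  have a1 := Iso.two_mul_le (sy hQ) (nd_top hQ)
    (W := H ⊓ (LinearMap.ker f ⊓ LinearMap.ker f')) le_top fun c hc d hd => by
      have k0 := k 0 (zero_mem _)
      have k1 := k c hc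
      have k2 := k d hd
      have k3 := k _ (add_mem hc hd)
      rw [add_zero] at k0
      simp only [Q_add, polar_add_right] at k1 k2 k3
      change polar Q c d = 0
      linear_combination k3 - k1 - k2 + k0
  have a2 := inf_ge H (LinearMap.ker f ⊓ LinearMap.ker f')
  have a3 := inf_ge (LinearMap.ker f) (LinearMap.ker f')
  rw [finrank_top] at a1
  omega

theorem exists_A (hn : 7 ≤ finrank F V) [Finite F] {r : OG Q} (hr : r * r = 1)
    (ho : Odd (finrank F (movSpace r))) : ∃ A : Submodule F V, finrank F A + 2 ≤ finrank F V ∧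
      ∀ x, x ∉ A → x ∉ movSpace r ∧ (Gn r x ↔ finrank F (movSpace r) ≠ 1) ∧
        ∃ y, Q y ≠ 0 ∧ r.1 y = y ∧ polar Q y x = 0 := by
  have o : ∀ a ∈ movSpace r, ∀ b ∈ movSpace r, polar Q a b = 0 := fun a ha b hb =>
    polar_mov_fix' hQ ha (fix_of_mov hr hb)
  obtain ⟨v, hv, hv'⟩ : ∃ v ∈ movSpace r, Q v ≠ 0 := by
    by_contra h
    push Not at h
    exact Nat.not_even_iff_odd.2 ho
      (TypeA.even (ofQuad_nondeg Q hQ) (isIso_OG r) ((typeA_quad r).2 h))
  by_cases h1 : finrank F (movSpace r) = 1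
  · refine ⟨movSpace r, by omega, fun x hx => ⟨hx, iff_of_false ?_ (by simp [h1]), ?_⟩⟩
    · rintro ⟨m, m1, m2, m3⟩
      rw [← Submodule.eq_of_le_of_finrank_eq ((span_singleton_le_iff_mem _ _).2 hv) (by
        rw [h1, finrank_span_singleton (by rintro rfl; simp at hv')])] at m1
      obtain ⟨c, rfl⟩ := mem_span_singleton.1 m1
      rw [Q_smul] at m2
      rw [mul_self_eq_zero.1 ((mul_eq_zero.1 m2).resolve_right hv')] at m3
      simp at m3
    · by_contra h
      push Not at h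
      have a1 := ts_le hQ (nd_top hQ) (U := fixSpace r ⊓ LinearMap.ker (polarBilin Q x)) le_top
        fun y hy => by_contra fun hy' => h y hy' (mem_fixSpace.1 hy.1) (by
          rw [polar_comm]; exact hy.2)
      have a2 := inf_ge (fixSpace r) (LinearMap.ker (polarBilin Q x))
      have a3 := finrank_fix_add_mov r
      have a4 := finrank_perp hQ (x := x) (by rintro rfl; exact hx (zero_mem _))
      rw [finrank_top] at a1
      omega
  · obtain ⟨U, u1, u2, u3⟩ := exists_decomp (Q := Q) (U := movSpace r)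
      (fun a ha b hb => o b hb a ha) hv hv'
    have a1 := LinearMap.BilinForm.finrank_orthogonal hQ U
    have a2 := finrank_le U
    rw [Nat.odd_iff] at ho
    refine ⟨LinearMap.BilinForm.orthogonal (polarBilin Q) U, by omega, fun x hx => ?_⟩
    obtain ⟨m, m1, m2⟩ : ∃ m ∈ U, polar Q m x ≠ 0 := by
      by_contra h
      push Not at h
      exact hx h
    have m3 : m ∈ movSpace r := u2 ▸ mem_sup_left m1
    refine ⟨fun h => m2 (o m m3 x h), iff_of_true ⟨m, m3, u1 m m1, by rwa [polar_comm]⟩ h1,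
      v - (polar Q v x / polar Q m x) • m, ?_, fix_of_mov hr (sub_mem hv (smul_mem _ _ m3)), ?_⟩
    · rwa [Q_sub_smul_of_perp (u1 m m1) (o m m3 v hv)]
    · rw [polar_sub_left, polar_smul_left, smul_eq_mul, div_mul_cancel₀ _ m2, sub_self]

theorem transit [Finite F] {t : OG Q} (ht : t * t = 1) (ho : Odd (finrank F (movSpace t))) {u u' : V}
    (h1 : Q u = Q u') (h2 : polar Q u (t.1 u) = polar Q u' (t.1 u')) (hu : u ∉ movSpace t)
    (hu' : u' ∉ movSpace t) (hG : Gn t u ↔ Gn t u') : ∃ c : OG Q, c * t = t * c ∧ c.1 u = u' := by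
  have hP := ofQuad_nondeg Q hQ
  have hI := isIso_OG t
  have hS := wall_symm hI (congrArg Subtype.val ht)
  have hN := wall_nondeg hP hI
  obtain ⟨w, hw, hw'⟩ := exists_charVec hS hN
  have hw1 := hw'.resolve_left fun h => Nat.not_even_iff_odd.2 ho (even_of_charVec hN hw h)
  set χ := wall (ofQuad Q) t.1 with hχ
  have hq : ∀ m : mov t.1, Q m = 0 ↔ χ w m = 0 := fun m => by
    have := (ofQuad_mem Q _).1 (N_mov hI m)
    rw [ofQuad_N, ← hχ, hw, CharTwo.add_eq_zero] at this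
    rw [this, pow_eq_zero_iff two_ne_zero]
  have he : ∀ x (m : mov t.1), χ ⟨t.1 x - x, sub_mem_mov _ _⟩ m = polar Q x m := fun x m =>
    wall_eq hI rfl m
  let π : V → LinearMap.ker (χ w) := fun x =>
    ⟨⟨t.1 x - x, sub_mem_mov _ _⟩ - χ w ⟨t.1 x - x, sub_mem_mov _ _⟩ • w, by simp [hw1]⟩
  have hπ : ∀ x, Gn t x ↔ π x ≠ 0 := fun x => by
    have e : ∀ m : LinearMap.ker (χ w), χ (π x) m = polar Q x m := fun m => by
      have : χ w m = 0 := m.2
      simp [π, he, this]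
    constructor
    · rintro ⟨m, m1, m2, m3⟩ h
      exact m3 (by rw [← e ⟨⟨m, m1⟩, (hq ⟨m, m1⟩).1 m2⟩, h]; simp)
    · intro h
      by_contra h'
      exact h (restrict_ker_nondeg hS hN hw1 _ fun m => (e m).trans
        (by_contra fun h'' => h' ⟨m, m.1.2, (hq m).2 m.2, h''⟩))
  obtain ⟨g, g1, g2⟩ : ∃ g : LinearMap.ker (χ w) →ₗ[F] LinearMap.ker (χ w),
      (∀ x y, χ (g x) (g y) = χ x y) ∧ g (π u) = π u' := by
    by_cases h : π u = 0
    · exact ⟨LinearMap.id, fun _ _ => rfl, by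
        rw [h, map_zero, eq_comm, ← not_ne_iff, ← hπ, ← hG, hπ, not_ne_iff, h]⟩
    · have hA := restrict_ker_isAlt hw
      obtain ⟨g, g1, g2⟩ := witt_alt_family _
        (nondegenerate_of_isAlt hA (restrict_ker_nondeg hS hN hw1)) hA (fun _ : Unit => π u)
        (fun _ : Unit => π u') (linearIndependent_unique_iff.2 h)
        (linearIndependent_unique_iff.2 (by rwa [← ne_eq, ← hπ, hG, hπ] at h))
        fun _ _ => by rw [hA.self_eq_zero, hA.self_eq_zero]
      exact ⟨g.toLinearMap, g1, g2 ()⟩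
  obtain ⟨φ, p1, p2⟩ := exists_extend_one hS hS hN rfl hw1 hw1 g g1
  have p3 : φ w = w := charVec_fixed hN hw p1
  have p4 : φ ⟨t.1 u - u, sub_mem_mov _ _⟩ = ⟨t.1 u' - u', sub_mem_mov _ _⟩ := by
    have e : χ w ⟨t.1 u - u, sub_mem_mov _ _⟩ = χ w ⟨t.1 u' - u', sub_mem_mov _ _⟩ := by
      rw [← sub_eq_zero, ← pow_eq_zero_iff two_ne_zero, CharTwo.sub_eq_add, CharTwo.add_sq, ← hw, ← hw,
        wall_self hI, wall_self hI, ofQuad_B, ofQuad_B, h2, CharTwo.add_self_eq_zero]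
    have := p2 (π u)
    rw [g2] at this
    simp only [π, map_sub, map_smul, p3, e, sub_left_inj] at this
    exact this
  obtain ⟨h, k1, k2, k3⟩ := exists_conj_of_wall hP hI hI φ p1
  obtain ⟨c, c1, c2, c3⟩ := (ofQuad Q).witt_step hP (mov t.1) (u := h u) (u' := u')
    (fun hm => hu (by
      rw [h.injective (a₁ := u) ((k2 (φ.symm ⟨_, hm⟩)).trans (by simp)).symm]
      exact (φ.symm ⟨_, hm⟩).2)) hu'
    (fun m hm => by
      obtain ⟨m₁, hm₁⟩ := φ.surjective ⟨m, hm⟩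
      have e : m = h m₁ := by rw [k2, hm₁]
      rw [ofQuad_B, ofQuad_B, polar_comm, ← he u' ⟨m, hm⟩, ← hm₁, ← p4, p1, he, e, polar_comm]
      exact (k1.B_eq _ _).symm)
    ((ofQuad_mem Q _).2 (by rw [ofQuad_N, ofQuad_N, (ofQuad_isIso_equiv Q h).1 k1, h1, sub_self]))
  have c4 := mul_eq_of_wall hP hI hI c1 (LinearEquiv.refl F _) (fun _ _ => rfl) fun m => c2 m m.2
  refine ⟨⟨c * h, (OG Q).mul_mem ((ofQuad_isIso_equiv Q c).1 c1)
    ((ofQuad_isIso_equiv Q h).1 k1)⟩, Subtype.ext ?_, c3⟩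
  change c * h * t.1 = t.1 * (c * h)
  rw [mul_assoc, k3, ← mul_assoc, c4, mul_assoc]

theorem comm_two [Finite F] (hn : 7 ≤ finrank F V) {s t : OG Q} (hs : s * s = 1) (ht : t * t = 1)
    (hd : finrank F (movSpace s) = finrank F (movSpace t)) (fs : ∃ y, polar Q y (s.1 y) ≠ 0)
    (ft : ∃ y, polar Q y (t.1 y) ≠ 0) :
    ∃ a ∈ commutator (OG Q), ∃ b ∈ commutator (OG Q), s * t = a * b * a⁻¹ * b⁻¹ := by
  have h24 : Nat.card F ≠ 2 ∨ finrank F V ≠ 4 := Or.inr (by omega)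
  have hR := reflSubgroup_eq_top hQ h24
  have n1 : ¬ TypeA (ofQuad Q) s.1 := fun h => fs.elim fun y hy => hy (h y)
  have n2 : ¬ TypeA (ofQuad Q) t.1 := fun h => ft.elim fun y hy => hy (h y)
  have g2 : s⁻¹ = s := inv_eq_of_mul_eq_one_right hs
  have hc := (isConj_OG_iff hQ hs ht).2 ⟨hd, iff_of_false n1 n2⟩
  rcases Nat.even_or_odd (finrank F (movSpace s)) with ho | ho
  · obtain ⟨b, b1, b2⟩ := exists_conj_commutator hQ hR ht (fun h => n2 h.1) hc
    exact ⟨s, (mem_commutator_iff_even hQ hR s).2 ho, b, b1, by rw [← b2, g2]; group⟩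
  obtain ⟨f, hf⟩ := exists_sqrt_functional (dq s t) (fun x y => by
    rw [Q_add, polar_dq hs ht, CharTwo.two_eq_zero, zero_smul, polar_zero_left, add_zero])
    fun c x => by rw [Q_smul, pow_two]
  obtain ⟨A, a1, a2⟩ := exists_A hQ hn hs ho
  obtain ⟨A', a1', a2'⟩ := exists_A hQ hn ht (hd ▸ ho)
  obtain ⟨x, x1, x2, x3, x4⟩ := exists_good_x hQ hn (H := LinearMap.ker f) (by
    have := f.finrank_range_add_finrank_ker
    have : finrank F (LinearMap.range f) ≤ 1 := by simpa using finrank_le (LinearMap.range f)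
    omega) a1 a1'
  obtain ⟨y1, y2, -⟩ := a2 x x2
  obtain ⟨z1, z2, y, z3, z4, z5⟩ := a2' x x3
  obtain ⟨b, hb⟩ := isConj_iff.1 hc
  have hb' : ∀ y, t.1 (b.1 y) = b.1 (s.1 y) := fun y => by
    rw [← hb, OG.mul_apply, OG.mul_apply, OG.inv_apply_self]
  have hm : ∀ m, b.1 m ∈ movSpace t ↔ m ∈ movSpace s := fun m => by
    rw [mem_movSpace, mem_movSpace, b.1.surjective.exists]
    simp only [hb', ← map_sub, b.1.injective.eq_iff]
  obtain ⟨c, c1, c2⟩ := transit hQ ht (hd ▸ ho) (u := b.1 x) (u' := x) (OG.map_Q _ _)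
    (by rw [hb', OG.map_polar, ← dq_eq_zero, hf, x1, zero_pow two_ne_zero]) (by rwa [hm]) z1 (by
      rw [z2, ← hd, ← y2, Gn, Gn, b.1.surjective.exists]
      simp only [hm, OG.map_Q, OG.map_polar])
  have e1 : c * b * s = t * (c * b) := by rw [← mul_assoc, ← c1, ← hb]; group
  obtain ⟨b', f1, f2, f3⟩ : ∃ b' ∈ commutator (OG Q), b' * s = t * b' ∧ b'.1 x = x := by
    by_cases h : c * b ∈ commutator (OG Q)
    · exact ⟨_, h, e1, c2⟩
    · refine ⟨_, (refl_mul_mem_iff hQ hR z3 _).2 h, ?_, by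
        rw [OG.mul_apply, OG.mul_apply, c2, refl_apply_of_polar_eq_zero z5]⟩
      rw [mul_assoc, e1, ← mul_assoc, ← mul_assoc t, mul_inv_eq_iff_eq_mul.1 (conj_refl t y), z4]
  refine ⟨s * refl Q x, ?_, b', f1, ?_⟩
  · rw [mem_commutator_iff_of_charTwo hQ h24 CharTwo.two_eq_zero, map_mul, dickson_refl hQ h24 x4,
      dickson_apply, ho.neg_one_pow]
    simp
  · have g1 : b' * refl Q x * b'⁻¹ = refl Q x := by rw [conj_refl, f3]
    calc s * t = s * (refl Q x * refl Q x) * t := by rw [refl_mul_self, mul_one]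
      _ = s * refl Q x * (b' * refl Q x * b'⁻¹) * (t * b') * b'⁻¹ := by rw [g1]; group
      _ = _ := by rw [← f2, mul_inv_rev, refl_inv, g2]; group

end CfsgLib.OmOre
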