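import Mathlib
import Cfsg.Agent.Lib.OmOre.C2a

/-!
Characteristic two: factorizations of an isometry into two involutions on an invariant summand.
-/

set_option autoImplicit false

namespace CfsgLib.OmOre

open Module Submodule QuadraticMap Polynomial CfsgLib.SpOre CfsgLib.Orth CfsgLib.Inv2

variable {F : Type*} [Field F] {V : Type*} [AddCommGroup V] [Module F V] {Q : QuadraticForm F V}

/-- fixes the orthogonal complement of `M` -/
def Su (M : Submodule F V) (r : OG Q) : Prop :=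
  ∀ x ∈ LinearMap.BilinForm.orthogonal (polarBilin Q) M, r.1 x = x

/-- on `M`, `g` is the product of the involutions `s`, `t` -/
structure Fac (g : OG Q) (M : Submodule F V) (s t : OG Q) : Prop where
  ss : s * s = 1
  tt : t * t = 1
  sM : Su M s
  tM : Su M t
  eq : ∀ x ∈ M, g.1 x = s.1 (t.1 x)

/-- not of alternating type -/
def Fl (r : OG Q) : Prop := ∃ y, polar Q y (r.1 y) ≠ 0

/-- a factorization with given rank difference and types -/
def FF (g : OG Q) (M : Submodule F V) (d : ℤ) (p q : Prop) : Prop :=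
  ∃ s t, Fac g M s t ∧ (finrank F (movSpace s) : ℤ) = finrank F (movSpace t) + d ∧ (p → Fl s) ∧
    (q → Fl t)

/-- `M` is generated by `v` and `w` -/
def Gen (g : OG Q) (M : Submodule F V) (v w : V) : Prop :=
  v ∈ M ∧ w ∈ M ∧ ∀ U : Submodule F V, (∀ x ∈ U, g.1 x ∈ U) → v ∈ U → w ∈ U → M ≤ U

variable {g s t r r' : OG Q} {M N : Submodule F V} {v w : V}

theorem isom_of (g : OG Q) : g.1 ∈ isom (polarBilin Q) := fun x y => OG.map_polar g x y

theorem FF.mono {d d' : ℤ} {p q p' q' : Prop} (h : FF g M d p q) (hd : d = d') (hp : p' → p)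
    (hq : q' → q) : FF g M d' p' q' := by
  obtain ⟨s, t, h1, h2, h3, h4⟩ := h
  exact ⟨s, t, h1, hd ▸ h2, h3 ∘ hp, h4 ∘ hq⟩

theorem FF.swap {d : ℤ} {p q : Prop} (h : FF g M d p q) : FF g M (-d) q p := by
  obtain ⟨s, t, h1, h2, h3, h4⟩ := h
  refine ⟨s * t * s, s, ⟨?_, h1.ss, fun x hx => ?_, h1.sM, fun x hx => ?_⟩, ?_, fun hq => ?_, h3⟩
  · rw [show s * t * s * (s * t * s) = s * t * (s * s) * t * s by group, h1.ss, mul_one, mul_assoc s,
      h1.tt, mul_one, h1.ss]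
  · rw [OG.mul_apply, OG.mul_apply, h1.sM x hx, h1.tM x hx, h1.sM x hx]
  · rw [OG.mul_apply, OG.mul_apply, inv_inv_apply h1.ss, h1.eq x hx]
  · have : finrank F (movSpace t) = finrank F (movSpace (s * t * s)) :=
      finrank_mov_eq (h := s.1) (congrArg Subtype.val (show s * t = s * t * s * s by
        rw [mul_assoc _ s, h1.ss, mul_one]))
    omega
  · obtain ⟨y, hy⟩ := h4 hq
    exact ⟨s.1 y, by rwa [OG.mul_apply, OG.mul_apply, inv_inv_apply h1.ss, OG.map_polar]⟩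

theorem zpow_rec {C : Submodule F V} {A : End F V} (hA : ∀ x ∈ C, A x ∈ C) {u : ℤ → V}
    (hu : ∀ k, A (u k) = u (k + 1) + u (k - 1)) (h0 : u 0 ∈ C) (h1 : u 1 ∈ C) (k : ℤ) :
    u k ∈ C := by
  suffices u k ∈ C ∧ u (k + 1) ∈ C from this.1
  induction k using Int.induction_on with
  | zero => exact ⟨h0, h1⟩
  | succ k ih =>
    have := sub_mem (hA _ ih.2) ih.1
    rw [hu, add_sub_cancel_right, add_sub_cancel_right] at this
    exact ⟨ih.2, this⟩
  | pred k ih =>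
    have := sub_mem (hA _ ih.1) ih.2
    rw [hu, add_sub_cancel_left] at this
    exact ⟨this, by rw [sub_add_cancel]; exact ih.1⟩

theorem zpow_succ_apply (k : ℤ) (x : V) : (g ^ (k + 1)).1 x = g.1 ((g ^ k).1 x) := by
  rw [add_comm, zpow_one_add, OG.mul_apply]

theorem tau_zpow (k : ℤ) (x : V) :
    tau g.1 ((g ^ k).1 x) = (g ^ (k + 1)).1 x + (g ^ (k - 1)).1 x := by
  rw [tau_apply, zpow_succ_apply, add_right_inj, LinearEquiv.symm_apply_eq, ← zpow_succ_apply,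
    sub_add_cancel]

theorem polar_zpow (a b : ℤ) (x y : V) :
    polar Q ((g ^ a).1 x) ((g ^ b).1 y) = polar Q ((g ^ (a - b)).1 x) y := by
  rw [OG.polar_apply_right, ← OG.mul_apply, ← zpow_neg, ← zpow_add, neg_add_eq_sub]

theorem polar_zpow' (a : ℤ) (x y : V) :
    polar Q ((g ^ a).1 x) y = polar Q ((g ^ (-a)).1 y) x := by
  rw [OG.polar_apply_left, polar_comm, zpow_neg]

theorem Gen.eq_zero (hM : Nd (polarBilin Q) M) (h : Gen g M v w) {x : V} (hx : x ∈ M)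
    (h1 : g.1 x = x) (h2 : polar Q x v = 0) (h3 : polar Q x w = 0) : x = 0 :=
  hM.eq_zero hx fun y hy => by
    have := h.2.2 (LinearMap.ker (polarBilin Q x)) (fun z hz => by
      change polar Q x (g.1 z) = 0
      rw [← h1, OG.map_polar]; exact hz) h2 h3 hy
    exact (polar_comm Q y x).trans this

theorem Gen.le_one (hM : Nd (polarBilin Q) M) (h : Gen g M v w) {U : Submodule F V}
    (hU : ∀ x ∈ U, x ∈ M ∧ g.1 x = x ∧ polar Q x v = 0) : finrank F U ≤ 1 := by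
  have := LinearMap.finrank_le_finrank_of_injective (f := (polarBilin Q w).comp U.subtype) (by
    rw [← LinearMap.ker_eq_bot, LinearMap.ker_eq_bot']
    exact fun x hx => Subtype.ext (h.eq_zero hM (hU x x.2).1 (hU x x.2).2.1 (hU x x.2).2.2
      ((polar_comm Q _ _).trans hx)))
  rwa [finrank_self] at this

variable [FiniteDimensional F V]

theorem zpow_mem (hM : ∀ x ∈ M, g.1 x ∈ M) (k : ℤ) {x : V} (hx : x ∈ M) : (g ^ k).1 x ∈ M :=
  zpow_rec (fun _ => tau_mem hM) (fun k => tau_zpow k x) (by simpa) (by simpa using hM x hx) k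

theorem Gen.range (hM : ∀ x ∈ M, g.1 x ∈ M) (h : Gen g M v w) {ε : ℤ} (hε : ε * ε = 1) :
    LinearMap.range (Finsupp.linearCombination F fun p : Bool × ℤ =>
      (g ^ (ε * p.2)).1 (cond p.1 v w)) = M := by
  rw [Finsupp.range_linearCombination]
  refine le_antisymm (span_le.2 ?_) (h.2.2 _ (fun x hx => ?_)
    (subset_span ⟨(true, 0), by simp⟩) (subset_span ⟨(false, 0), by simp⟩))
  · rintro _ ⟨⟨_ | _, k⟩, rfl⟩
    · exact zpow_mem hM _ h.2.1
    · exact zpow_mem hM _ h.1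
  · refine (span_le (p := comap g.1.toLinearMap (span F _))).2 ?_ hx
    rintro _ ⟨⟨b, k⟩, rfl⟩
    exact subset_span ⟨(b, k + ε), by simp only [mul_add, hε, zpow_succ_apply]; rfl⟩

variable (hQ : (polarBilin Q).Nondegenerate)

include hQ

theorem Su.mov_le (h : Su M r) : movSpace r ≤ M := by
  rw [← orthogonal_fixSpace hQ,
    ← LinearMap.BilinForm.orthogonal_orthogonal hQ (polarBilin_isRefl Q) M]
  exact LinearMap.BilinForm.orthogonal_le fun x hx => mem_fixSpace.2 (h x hx)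

theorem Su.mem (h : Su M r) {x : V} (hx : x ∈ M) : r.1 x ∈ M := by
  simpa using add_mem (h.mov_le hQ (mem_movSpace.2 ⟨x, rfl⟩)) hx

theorem exists_su {X : Type*} [AddCommGroup X] [Module F X] (hM : Nd (polarBilin Q) M)
    (φ ψ : X →ₗ[F] V) (hφ : LinearMap.range φ = M) (hψ : LinearMap.range ψ = M)
    (h : ∀ x, Q (ψ x) = Q (φ x)) : ∃ r : OG Q, Su M r ∧ ∀ x, r.1 (φ x) = ψ x := by
  have hp : ∀ x y, polar Q (ψ x) (ψ y) = polar Q (φ x) (φ y) := fun x y => by
    simp only [polar, ← map_add, h]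
  have k : ∀ φ ψ : X →ₗ[F] V, LinearMap.range φ = M → LinearMap.range ψ = M →
      (∀ x y, polar Q (ψ x) (ψ y) = polar Q (φ x) (φ y)) →
      ∀ x, ∀ z ∈ LinearMap.BilinForm.orthogonal (polarBilin Q) M, φ x + z = 0 → ψ x + z = 0 := by
    intro φ ψ hφ hψ hp x z hz h
    have h1 : φ x = 0 := Submodule.disjoint_def.1 hM _ (hφ.le ⟨x, rfl⟩) (by
      rw [eq_neg_of_add_eq_zero_left h]; exact neg_mem hz)
    rw [h1, zero_add] at h
    rw [h, add_zero]
    refine hM.eq_zero (hψ.le ⟨x, rfl⟩) fun y hy => ?_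
    obtain ⟨a, rfl⟩ : y ∈ LinearMap.range ψ := hψ.ge hy
    exact (hp a x).trans (by rw [h1, polar_zero_right])
  obtain ⟨c, hc⟩ := witt_maps hQ (φ.coprod (LinearMap.BilinForm.orthogonal (polarBilin Q) M).subtype)
    (ψ.coprod (LinearMap.BilinForm.orthogonal (polarBilin Q) M).subtype)
    (fun p => ⟨k φ ψ hφ hψ hp _ _ p.2.2, k ψ φ hψ hφ (fun x y => (hp x y).symm) _ _ p.2.2⟩)
    fun p => by
      have h1 : polar Q (φ p.1) p.2 = 0 := p.2.2 _ (hφ.le ⟨_, rfl⟩)
      have h2 : polar Q (ψ p.1) p.2 = 0 := p.2.2 _ (hψ.le ⟨_, rfl⟩)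
      rw [LinearMap.coprod_apply, LinearMap.coprod_apply, subtype_apply, Q_add, Q_add, h, h1, h2]
  exact ⟨c, fun x hx => by simpa using hc (0, ⟨x, hx⟩), fun x => by simpa using hc (x, 0)⟩

theorem Su.ext (hM : Nd (polarBilin Q) M) (h : Su M r) (h' : ∀ x ∈ M, r.1 x = x) : r = 1 :=
  OG.ext fun x => by
    obtain ⟨a, ha, b, hb, rfl⟩ := (sm hQ).decomp hM x
    rw [map_add, h' a ha, h b hb, OG.one_apply]

theorem exists_fac (hM : Inv (polarBilin Q) g.1 M) {v' w' : V} (h : Gen g M v w)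
    (h' : Gen g M v' w') (h1 : Q v' = Q v) (h2 : Q w' = Q w)
    (h3 : ∀ k : ℤ, polar Q ((g ^ k).1 v') v' = polar Q ((g ^ k).1 v) v)
    (h4 : ∀ k : ℤ, polar Q ((g ^ k).1 w') w' = polar Q ((g ^ k).1 w) w)
    (h5 : ∀ k : ℤ, polar Q ((g ^ (-k)).1 v') w' = polar Q ((g ^ k).1 v) w)
    (h6 : ∀ r : OG Q, r.1 v = v' → r.1 w = w' → (∀ x ∈ M, r.1 (g.1.symm x) = g.1 (r.1 x)) →
      r.1 v' = v ∧ r.1 w' = w) : ∃ s t, Fac g M s t ∧ t.1 v = v' ∧ t.1 w = w' := by
  have e : (polarBilin Q).compl₁₂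
      (Finsupp.linearCombination F fun p : Bool × ℤ => (g ^ (-1 * p.2)).1 (cond p.1 v' w'))
      (Finsupp.linearCombination F fun p : Bool × ℤ => (g ^ (-1 * p.2)).1 (cond p.1 v' w')) =
      (polarBilin Q).compl₁₂
      (Finsupp.linearCombination F fun p : Bool × ℤ => (g ^ (1 * p.2)).1 (cond p.1 v w))
      (Finsupp.linearCombination F fun p : Bool × ℤ => (g ^ (1 * p.2)).1 (cond p.1 v w)) := by
    ext ⟨b, k⟩ ⟨c, l⟩
    simp only [LinearMap.comp_apply, Finsupp.lsingle_apply, LinearMap.compl₁₂_apply,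
      Finsupp.linearCombination_single, one_smul, polarBilin_apply_apply, polar_zpow, one_mul,
      ← mul_sub, neg_one_mul (k - l)]
    rcases b <;> rcases c <;> simp only [cond_true, cond_false]
    · rw [← polar_zpow', h4]
    · rw [← polar_zpow', polar_zpow' _ w, ← h5, neg_neg]
    · exact h5 _
    · rw [← polar_zpow', h3]
  obtain ⟨t, t1, t2⟩ := exists_su hQ hM.nd _ _ (h.range hM.inv (mul_one 1))
    (h'.range hM.inv (ε := -1) (by simp)) fun x => by
      induction x using Finsupp.induction_linear with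
      | zero => simp
      | add x y hx hy =>
        rw [map_add (Finsupp.linearCombination F _), map_add (Finsupp.linearCombination F _), Q_add,
          Q_add, hx, hy]
        exact congrArg _ (LinearMap.congr_fun₂ e x y)
      | single p a =>
        rw [Finsupp.linearCombination_single, Finsupp.linearCombination_single, Q_smul, Q_smul,
          OG.map_Q, OG.map_Q]
        rcases p with ⟨_ | _, k⟩ <;> simp [h1, h2]
  have t3 : ∀ b (k : ℤ), t.1 ((g ^ k).1 (cond b v w)) = (g ^ (-k)).1 (cond b v' w') := fun b k => by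
    simpa only [Finsupp.linearCombination_single, one_smul, one_mul, neg_one_mul] using
      t2 (Finsupp.single (b, k) 1)
  have t4 : ∀ x ∈ M, g.1 (t.1 (g.1 x)) = t.1 x := fun x hx => by
    rw [← h.range hM.inv (mul_one 1), Finsupp.range_linearCombination] at hx
    refine (span_le (p := LinearMap.eqLocus (g.1.toLinearMap ∘ₗ t.1.toLinearMap ∘ₗ g.1.toLinearMap)
      t.1.toLinearMap)).2 ?_ hx
    rintro _ ⟨⟨b, k⟩, rfl⟩
    change g.1 (t.1 (g.1 _)) = t.1 _
    simp only [← zpow_succ_apply, t3, neg_add, neg_add_cancel_right]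
  have t5 : ∀ x ∈ M, t.1 (g.1.symm x) = g.1 (t.1 x) := fun x hx => by
    rw [← t4 _ (symm_mem hM.inv hx), LinearEquiv.apply_symm_apply]
  have t6 : t.1 v = v' := by simpa using t3 true 0
  have t7 : t.1 w = w' := by simpa using t3 false 0
  have t8 : ∀ x ∈ M, t.1 (t.1 x) = x := fun x hx =>
    (h.2.2 (M ⊓ LinearMap.eqLocus (t * t).1.toLinearMap LinearMap.id) (fun y hy => ⟨hM.inv y hy.1, by
      have : t.1 (t.1 y) = y := hy.2
      change t.1 (t.1 (g.1 y)) = g.1 y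
      rw [(LinearEquiv.eq_symm_apply _).2 (t4 y hy.1), t5 _ (t1.mem hQ hy.1), this]⟩)
      ⟨h.1, show t.1 (t.1 v) = v by rw [t6, (h6 t t6 t7 t5).1]⟩
      ⟨h.2.1, show t.1 (t.1 w) = w by rw [t7, (h6 t t6 t7 t5).2]⟩ hx).2
  obtain ⟨c, c1, c2⟩ := exists_su hQ hM.nd M.subtype (g.1.toLinearMap ∘ₗ M.subtype) M.range_subtype
    (le_antisymm (by rintro _ ⟨x, rfl⟩; exact hM.inv x x.2) fun x hx =>
      ⟨⟨_, symm_mem hM.inv hx⟩, by simp⟩) fun x => OG.map_Q g x
  have c3 : ∀ x ∈ M, c.1 x = g.1 x := fun x hx => c2 ⟨x, hx⟩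
  have c4 : Su M (c * t) := fun x hx => by rw [OG.mul_apply, t1 x hx, c1 x hx]
  refine ⟨c * t, t, ⟨Su.ext hQ hM.nd (fun x hx => by rw [OG.mul_apply, c4 x hx, c4 x hx])
    fun x hx => ?_, Su.ext hQ hM.nd (fun x hx => by rw [OG.mul_apply, t1 x hx, t1 x hx]) t8, c4, t1,
    fun x hx => by rw [OG.mul_apply, t8 x hx, c3 x hx]⟩, t6, t7⟩
  have := t1.mem hQ hx
  simp only [OG.mul_apply]
  rw [c3 _ this, c3 _ (t1.mem hQ (hM.inv _ this)), t4 _ this, t8 x hx]

theorem Fac.s_eq (h : Fac g M s t) {x : V} (hx : x ∈ M) : s.1 x = g.1 (t.1 x) := by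
  rw [h.eq _ (h.tM.mem hQ hx), inv_inv_apply h.tt]

theorem Fac.t_g (h : Fac g M s t) {x : V} (hx : x ∈ M) : t.1 (g.1 x) = g.1.symm (t.1 x) := by
  rw [LinearEquiv.eq_symm_apply, h.eq x hx, ← h.s_eq hQ (h.sM.mem hQ (h.tM.mem hQ hx)),
    inv_inv_apply h.ss]

theorem Fac.t_aeval (h : Fac g M s t) (hM : ∀ x ∈ M, g.1 x ∈ M) (p : F[X]) {x : V} (hx : x ∈ M) :
    t.1 (aeval (tau g.1) p x) = aeval (tau g.1) p (t.1 x) := by
  have e : ∀ x ∈ M, t.1 (tau g.1 x) = tau g.1 (t.1 x) := fun x hx => by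
    have := h.t_g hQ (symm_mem hM hx)
    rw [LinearEquiv.apply_symm_apply, LinearEquiv.eq_symm_apply] at this
    rw [tau_apply, tau_apply, map_add, h.t_g hQ hx, this, add_comm]
  induction p using Polynomial.induction_on generalizing x with
  | C a => simp
  | add p q hp hq => simp [hp hx, hq hx]
  | monomial n a ih =>
    rw [pow_succ, ← mul_assoc, aeval_mul_apply, aeval_mul_apply _ _ X, aeval_X,
      ih (tau_mem hM hx), e x hx]

variable [CharP F 2]

theorem Su.mul (hM : Nd (polarBilin Q) M) (hN : Nd (polarBilin Q) N)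
    (hMN : N ≤ LinearMap.BilinForm.orthogonal (polarBilin Q) M) (h : Su M r) (h' : Su N r') :
    Su (M ⊔ N) (r * r') ∧ finrank F (movSpace (r * r')) =
      finrank F (movSpace r) + finrank F (movSpace r') ∧ (Fl r ∨ Fl r' → Fl (r * r')) := by
  have hNM := (sm hQ).orth_symm hMN
  have e1 : ∀ x ∈ M, (r * r').1 x = r.1 x := fun x hx => by rw [OG.mul_apply, h' x (hNM hx)]
  have e2 : ∀ x ∈ N, (r * r').1 x = r'.1 x := fun x hx => h _ (hMN (h'.mem hQ hx))
  have k1 : ∀ (M : Submodule F V) (a : OG Q), Nd (polarBilin Q) M → Su M a →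
      (∀ x ∈ M, (r * r').1 x = a.1 x) → movSpace a ≤ movSpace (r * r') ∧ (Fl a → Fl (r * r')) := by
    refine fun M a hM ha e => ⟨fun y hy => ?_, fun ⟨y, hy⟩ => ?_⟩
    · obtain ⟨x, rfl⟩ := mem_movSpace.1 hy
      obtain ⟨u, hu, z, hz, rfl⟩ := (sm hQ).decomp hM x
      exact mem_movSpace.2 ⟨u, by rw [e u hu, map_add, ha z hz, add_sub_add_right_eq_sub]⟩
    · obtain ⟨u, hu, z, hz, rfl⟩ := (sm hQ).decomp hM y
      have h1 : polar Q u z = 0 := hz u hu
      have h2 : polar Q (a.1 u) z = 0 := hz _ (ha.mem hQ hu)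
      rw [map_add, ha z hz, polar_add_left, polar_add_right, polar_add_right, h1, polar_comm Q z,
        h2, polar_self_charTwo] at hy
      exact ⟨u, by rw [e u hu]; simpa using hy⟩
  refine ⟨fun x hx => ?_, ?_, fun h0 => h0.elim (k1 M r hM h e1).2 (k1 N r' hN h' e2).2⟩
  · rw [orth_sup] at hx
    rw [OG.mul_apply, h' x hx.2, h x hx.1]
  · have := finrank_sup_add_finrank_inf_eq (movSpace r) (movSpace r')
    rw [((hM.disjoint hMN).mono (h.mov_le hQ) (h'.mov_le hQ)).eq_bot, finrank_bot, add_zero] at this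
    rw [← this, le_antisymm (sup_le (k1 M r hM h e1).1 (k1 N r' hN h' e2).1) fun y hy => ?_]
    obtain ⟨x, rfl⟩ := mem_movSpace.1 hy
    rw [← sub_add_sub_cancel _ (r'.1 x)]
    exact add_mem (mem_sup_left (mem_movSpace.2 ⟨_, rfl⟩)) (mem_sup_right (mem_movSpace.2 ⟨_, rfl⟩))

theorem FF.sup {d d' : ℤ} {p q p' q' : Prop} (hM : Nd (polarBilin Q) M) (hN : Nd (polarBilin Q) N)
    (hMN : N ≤ LinearMap.BilinForm.orthogonal (polarBilin Q) M) (h : FF g M d p q)
    (h' : FF g N d' p' q') : FF g (M ⊔ N) (d + d') (p ∨ p') (q ∨ q') := by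
  obtain ⟨s, t, h1, h2, h3, h4⟩ := h
  obtain ⟨s', t', h1', h2', h3', h4'⟩ := h'
  have hNM := (sm hQ).orth_symm hMN
  obtain ⟨a1, a2, a3⟩ := Su.mul hQ hM hN hMN h1.sM h1'.sM
  obtain ⟨b1, b2, b3⟩ := Su.mul hQ hM hN hMN h1.tM h1'.tM
  have c : ∀ a b : OG Q, Su M a → Su N b → a * a = 1 → b * b = 1 → a * b * (a * b) = 1 := by
    intro a b ha hb ha' hb'
    have : a * b = b * a := Subtype.ext
      (supp_commute (sy hQ) hM hMN ⟨isom_of a, ha⟩ ⟨isom_of b, hb⟩)
    rw [mul_assoc, ← mul_assoc b, ← this, mul_assoc, hb', mul_one, ha']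
  refine ⟨s * s', t * t', ⟨c _ _ h1.sM h1'.sM h1.ss h1'.ss, c _ _ h1.tM h1'.tM h1.tt h1'.tt, a1, b1,
    fun x hx => ?_⟩, by omega, fun h => a3 (h.imp h3 h3'), fun h => b3 (h.imp h4 h4')⟩
  obtain ⟨a, ha, b, hb, rfl⟩ := Submodule.mem_sup.1 hx
  simp only [OG.mul_apply, map_add]
  rw [h1'.tM a (hNM ha), h1'.sM _ (hNM (h1.tM.mem hQ ha)), h1.eq a ha,
    h1.tM _ (hMN (h1'.tM.mem hQ hb)), h1.sM _ (hMN (h1'.sM.mem hQ (h1'.tM.mem hQ hb))), h1'.eq b hb]

theorem Fac.mem_a (h : Fac g M s t) {x : V} (hx : x ∈ movSpace s ⊓ fixSpace t) :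
    x ∈ M ∧ g.1 x = x ∧ ∀ y, s.1 y = y → polar Q x y = 0 :=
  ⟨h.sM.mov_le hQ hx.1, by
    rw [h.eq x (h.sM.mov_le hQ hx.1), mem_fixSpace.1 hx.2, fix_of_mov h.ss hx.1],
    fun _ => polar_mov_fix' hQ hx.1⟩

theorem Fac.mem_b (h : Fac g M s t) {x : V} (hx : x ∈ fixSpace s ⊓ movSpace t) :
    x ∈ M ∧ g.1 x = x ∧ ∀ y, t.1 y = y → polar Q x y = 0 :=
  ⟨h.tM.mov_le hQ hx.2, by
    rw [h.eq x (h.tM.mov_le hQ hx.2), fix_of_mov h.tt hx.2, mem_fixSpace.1 hx.1],
    fun _ => polar_mov_fix' hQ hx.2⟩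

/-- types of the involutions when `t` fixes `v` -/
theorem Fac.flags (h : Fac g M s t) (hM : ∀ x ∈ M, g.1 x ∈ M) (hv : v ∈ M) (ht : t.1 v = v) :
    ((∃ p, polar Q (aeval (tau g.1) (p ^ 2 : F[X]) (g.1 v)) v ≠ 0) → Fl s) ∧
    ((∃ p, polar Q (aeval (tau g.1) (X * p ^ 2 : F[X]) (g.1 v)) v ≠ 0) → Fl t) := by
  have hA := aeval_adj (B := polarBilin Q) (tau_adj (isom_of g))
  simp only [polarBilin_apply_apply] at hA
  constructor <;> rintro ⟨p, hp⟩
  · refine ⟨aeval (tau g.1) p v, ?_⟩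
    rwa [h.s_eq hQ (aeval_mem (fun _ => tau_mem hM) p hv), h.t_aeval hQ hM p hv, ht, g_aeval, hA,
      ← aeval_mul_apply, ← pow_two, polar_comm]
  · refine ⟨g.1 (aeval (tau g.1) p v), ?_⟩
    rw [pow_two, ← mul_assoc, mul_comm, aeval_mul_apply, hA, aeval_mul_apply, aeval_X,
      ← g_aeval, tau_apply, polar_add_left, LinearEquiv.symm_apply_apply, polar_self_charTwo,
      add_zero] at hp
    rwa [h.t_g hQ (aeval_mem (fun _ => tau_mem hM) p hv), h.t_aeval hQ hM p hv, ht,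
      ← OG.map_polar g, LinearEquiv.apply_symm_apply]

end CfsgLib.OmOre
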