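import Mathlib
import Cfsg.Agent.Lib.OmOre.C2b

/-!
Characteristic two: the factorizations on cyclic summands and on summands with two generators.
-/

set_option autoImplicit false

namespace CfsgLib.OmOre

open Module Submodule QuadraticMap Polynomial CfsgLib.SpOre CfsgLib.Orth CfsgLib.Inv2

variable {F : Type*} [Field F] {V : Type*} [AddCommGroup V] [Module F V] {Q : QuadraticForm F V}

/-- `B (p(τ) g v, v)` -/
noncomputable def cv (g : OG Q) (v : V) (p : F[X]) : F := polar Q (aeval (tau g.1) p (g.1 v)) v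

/-- both kinds of non-vanishing -/
def P1 (g : OG Q) (v : V) : Prop := ∃ p, cv g v (p ^ 2) ≠ 0

/-- see `P1` -/
def P2 (g : OG Q) (v : V) : Prop := ∃ p, cv g v (X * p ^ 2) ≠ 0

/-- `g + 1` -/
def nn (g : OG Q) : End F V := g.1.toLinearMap + 1

variable {g s t : OG Q} {M : Submodule F V} {v w : V}

theorem nn_apply (x : V) : nn g x = g.1 x + x := rfl

theorem padj (p : F[X]) (x y : V) :
    polar Q (aeval (tau g.1) p x) y = polar Q x (aeval (tau g.1) p y) :=
  aeval_adj (B := polarBilin Q) (tau_adj (isom_of g)) p x y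

theorem symm_aeval (p : F[X]) (x : V) :
    g.1.symm (aeval (tau g.1) p x) = aeval (tau g.1) p (g.1.symm x) := by
  rw [LinearEquiv.symm_apply_eq, g_aeval, LinearEquiv.apply_symm_apply]

theorem cv_addp (p q : F[X]) : cv g v (p + q) = cv g v p + cv g v q := by
  simp [cv, polar_add_left]

theorem cv_add (x y : V) (p : F[X]) :
    cv g (x + y) p = cv g x p + cv g y p + polar Q (aeval (tau g.1) (p * X) x) y := by
  have : polar Q (aeval (tau g.1) p (g.1 y)) x = polar Q (aeval (tau g.1) p (g.1.symm x)) y := by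
    rw [padj, ← OG.map_polar g _ y, g_aeval, LinearEquiv.apply_symm_apply, polar_comm]
  rw [aeval_mul_apply, aeval_X, tau_apply]
  simp only [cv, map_add, polar_add_left, polar_add_right, this]
  ring

theorem cv_aeval (r p : F[X]) : cv g (aeval (tau g.1) r v) p = cv g v (p * r ^ 2) := by
  rw [cv, cv, g_aeval, ← padj, ← aeval_mul_apply, ← aeval_mul_apply]
  congr 3
  ring

theorem cv_smul (c : F) (p : F[X]) : cv g (c • v) p = c * c * cv g v p := by
  simp [cv, polar_smul_left, polar_smul_right, mul_assoc]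

theorem cv_g (p : F[X]) : cv g (g.1 v) p = cv g v p := by rw [cv, ← g_aeval, OG.map_polar, cv]

theorem cv_zero {μ : F[X]} (h : aeval (tau g.1) μ v = 0) (p : F[X]) : cv g v (p * μ) = 0 := by
  rw [cv, aeval_mul_apply, ← g_aeval, h]; simp

theorem cv_all (h : ∀ i : ℕ, cv g v (X ^ i) = 0) (p : F[X]) : cv g v p = 0 := by
  induction p using Polynomial.induction_on' with
  | add p q hp hq => rw [cv_addp, hp, hq, add_zero]
  | monomial n a =>
    have := h n
    rw [cv] at this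
    rw [← smul_X_eq_monomial, cv, map_smul, LinearMap.smul_apply, polar_smul_left, this, smul_zero]

theorem finrank_cyc_le {A : End F V} {μ : F[X]} (hμ : μ ≠ 0) (h : aeval A μ v = 0) :
    finrank F (cyc A v) ≤ μ.natDegree := by
  have : cyc A v ≤ span F (Set.range fun i : Fin μ.natDegree => (A ^ (i : ℕ)) v) := by
    intro x hx
    obtain ⟨p, rfl⟩ := mem_cyc.1 hx
    rw [← EuclideanDomain.div_add_mod p μ, map_add, LinearMap.add_apply, mul_comm, aeval_mul_apply,
      h, map_zero, zero_add, aeval_eq_sum_range, LinearMap.sum_apply]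
    refine sum_mem fun i _ => ?_
    by_cases hi : i < μ.natDegree
    · exact smul_mem _ _ (subset_span ⟨⟨i, hi⟩, rfl⟩)
    · rw [coeff_eq_zero_of_degree_lt ((degree_mod_lt p hμ).trans_le
        (degree_le_natDegree.trans (by exact_mod_cast not_lt.1 hi)))]
      simp
  have := Module.Finite.span_of_finite F
    (Set.finite_range fun i : Fin μ.natDegree => (A ^ (i : ℕ)) v)
  exact (Submodule.finrank_mono ‹_›).trans ((finrank_range_le_card (R := F)
    fun i : Fin μ.natDegree => (A ^ (i : ℕ)) v).trans (Fintype.card_fin _).le)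

theorem Gen.symm (h : Gen g M v w) : Gen g M w v := ⟨h.2.1, h.1, fun U a b c => h.2.2 U a c b⟩

variable [CharP F 2]

theorem sq_decomp [Finite F] (p : F[X]) : ∃ a b : F[X], p = a ^ 2 + X * b ^ 2 := by
  induction p using Polynomial.induction_on' with
  | add p q hp hq =>
    obtain ⟨a, b, rfl⟩ := hp
    obtain ⟨c, d, rfl⟩ := hq
    exact ⟨a + c, b + d, by rw [CharTwo.add_sq, CharTwo.add_sq]; ring⟩
  | monomial n a =>
    obtain ⟨c, rfl⟩ := isSquare_of_charTwo CharTwo.two_eq_zero a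
    rw [← C_mul_X_pow_eq_monomial, C_mul]
    obtain ⟨k, rfl | rfl⟩ := Nat.even_or_odd' n
    · exact ⟨C c * X ^ k, 0, by ring⟩
    · exact ⟨0, C c * X ^ k, by ring⟩

theorem flag_one [Finite F] {p : F[X]} (h : cv g v p ≠ 0) : P1 g v ∨ P2 g v := by
  obtain ⟨a, b, rfl⟩ := sq_decomp p
  by_contra h'
  simp only [P1, P2, not_or, not_exists, not_not] at h'
  exact h (by rw [cv_addp, h'.1, h'.2, add_zero])

omit [CharP F 2] in
theorem flag_par {i : ℕ} (h : cv g v (X ^ i) ≠ 0) : (Even i → P1 g v) ∧ (Odd i → P2 g v) :=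
  ⟨fun ⟨k, hk⟩ => ⟨X ^ k, by rwa [pow_two, ← pow_add, ← hk]⟩,
    fun ⟨k, hk⟩ => ⟨X ^ k, by rwa [← pow_mul', ← pow_succ', ← hk]⟩⟩

theorem nn_nn (x : V) : nn g (nn g x) = g.1 (tau g.1 x) := by
  rw [nn_apply, nn_apply, tau_apply, map_add, map_add, LinearEquiv.apply_symm_apply, add_assoc,
    ← add_assoc (g.1 x), add_self' F, zero_add]

omit [CharP F 2] in
theorem nn_aeval (p : F[X]) (x : V) : nn g (aeval (tau g.1) p x) = aeval (tau g.1) p (nn g x) := by
  rw [nn_apply, nn_apply, map_add, g_aeval]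

theorem polar_nn (x y : V) : polar Q (nn g x) (nn g y) = polar Q (tau g.1 x) y := by
  rw [nn_apply, nn_apply, tau_apply, polar_add_left, polar_add_left, polar_add_right,
    polar_add_right, OG.map_polar, OG.polar_apply_right g x]
  linear_combination CharTwo.add_self_eq_zero (polar Q x y)

theorem nn_pow (i : ℕ) (x : V) :
    (nn g ^ (2 * i)) x = (g ^ i).1 (aeval (tau g.1) (X ^ i : F[X]) x) := by
  induction i generalizing x with
  | zero => simp
  | succ i ih =>
    rw [mul_add, pow_add, End.mul_apply, mul_one, pow_two, End.mul_apply, nn_nn, ih, pow_succ g,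
      OG.mul_apply, ← g_aeval, pow_succ X, aeval_mul_apply, aeval_X]

theorem nn_pow' (i : ℕ) {x : V} (h : nn g (aeval (tau g.1) (X ^ i : F[X]) x) = 0) :
    (nn g ^ (2 * i)) x = aeval (tau g.1) (X ^ i : F[X]) x := by
  rw [nn_pow]
  generalize aeval (tau g.1) (X ^ i : F[X]) x = y at h
  rw [nn_apply, ← sub_eq_add' F, sub_eq_zero] at h
  induction i with
  | zero => simp
  | succ i ih => rw [pow_succ, OG.mul_apply, h, ih]

variable [FiniteDimensional F V] (hQ : (polarBilin Q).Nondegenerate)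

include hQ

omit [FiniteDimensional F V] in
theorem palt (p : F[X]) (x : V) : polar Q (aeval (tau g.1) p x) x = 0 :=
  aeval_alt (sy hQ) (isom_of g) p x

omit [FiniteDimensional F V] in
theorem cv_nn (p : F[X]) : cv g (nn g v) p = cv g v (p * X) := by
  have := palt hQ (g := g) p (g.1 v)
  have := palt hQ (g := g) p v
  rw [nn_apply, cv_add, cv_g, CharTwo.add_self_eq_zero, zero_add, cv]

theorem exists_mixed (hM : Inv (polarBilin Q) g.1 M) (h : Gen g M v w)
    (hvw : ∀ x ∈ cyc (tau g.1) (nn g v), polar Q x w = 0) :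
    ∃ s t, Fac g M s t ∧ t.1 v = v ∧ s.1 w = w := by
  obtain ⟨s, t, h1, h2, h3⟩ := exists_fac hQ hM (v' := v) (w' := (g⁻¹).1 w) h
    ⟨h.1, symm_mem hM.inv h.2.1, fun U a b c => h.2.2 U a b (by simpa using a _ c)⟩ rfl
    (OG.map_Q _ _) (fun _ => rfl)
    (fun k => by rw [← OG.mul_apply, ← zpow_neg_one, ← zpow_add, polar_zpow, add_sub_cancel_right])
    (fun k => by
      have := hvw _ (zpow_rec (fun _ => cyc_inv) (u := fun k => (g ^ k).1 v + (g ^ (1 - k)).1 v)
        (fun k => by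
          rw [map_add, tau_zpow, tau_zpow, show 1 - (k + 1) = 1 - k - 1 by ring,
            show 1 - (k - 1) = 1 - k + 1 by ring]
          abel)
        (by simpa [nn_apply, add_comm] using self_mem_cyc (tau g.1) (nn g v))
        (by simpa [nn_apply] using self_mem_cyc (tau g.1) (nn g v)) k)
      rw [polar_add_left, CharTwo.add_eq_zero] at this
      rw [this, ← zpow_neg_one, polar_zpow, show -k - -1 = 1 - k by ring])
    fun r r1 r2 r3 => ⟨r1, (r3 w h.2.1).trans (by rw [r2, OG.apply_inv_self])⟩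
  exact ⟨s, t, h1, h2, by rw [h1.s_eq hQ h.2.1, h3, OG.apply_inv_self]⟩

theorem exists_swap (hM : Inv (polarBilin Q) g.1 M) (h : Gen g M v w) (hv : Q v = 0) (hw : Q w = 0)
    (hv' : ∀ p, cv g v p = 0) (hw' : ∀ p, cv g w p = 0) :
    ∃ s t, Fac g M s t ∧ t.1 v = w ∧ t.1 w = v := by
  have k : ∀ v, (∀ p, cv g v p = 0) → ∀ k : ℤ, polar Q ((g ^ k).1 v) v = 0 := fun v hv k =>
    polarBilin_isRefl Q _ _ (zpow_rec
      (C := LinearMap.BilinForm.orthogonal (polarBilin Q) (cyc (tau g.1) v))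
      (fun x hx y hy => by rw [← tau_adj (isom_of g)]; exact hx _ (cyc_inv hy))
      (fun k => tau_zpow k v) (fun y hy => by
        obtain ⟨p, rfl⟩ := mem_cyc.1 hy
        simpa using palt hQ p v) (fun y hy => by
        obtain ⟨p, rfl⟩ := mem_cyc.1 hy
        have := hv p
        rw [cv, polar_comm, ← padj] at this
        simpa using this) k v (self_mem_cyc _ _))
  exact exists_fac hQ hM h h.symm (hw.trans hv.symm) (hv.trans hw.symm)
    (fun i => by rw [k v hv', k w hw']) (fun i => by rw [k v hv', k w hw'])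
    (fun i => (polar_zpow' _ _ _).symm) fun r r1 r2 _ => ⟨r2, r1⟩

theorem cyc_piece {M₁ : Submodule F V} (hM : Inv (polarBilin Q) g.1 M₁) {ν : F[X]}
    (hν : Irreducible ν) {j : ℕ} (hv : v ∈ M₁) (h0 : aeval (tau g.1) (ν ^ (j + 1)) v = 0) {r : F[X]}
    (hr : cv g v (ν ^ j * r) ≠ 0) : ∃ M ≤ M₁, M ≠ ⊥ ∧ Inv (polarBilin Q) g.1 M ∧
      finrank F M ≤ 2 * ((j + 1) * ν.natDegree) ∧ (∀ x ∈ M, aeval (tau g.1) (ν ^ (j + 1)) x = 0) ∧
      v ∈ M ∧ ∃ s t, Fac g M s t ∧ t.1 v = v ∧ finrank F (movSpace s) =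
        finrank F (movSpace t) + finrank F ↥(movSpace s ⊓ fixSpace t) ∧
        finrank F ↥(movSpace s ⊓ fixSpace t) ≤ 1 := by
  have hτ : ∀ x ∈ cyc (tau g.1) v, tau g.1 x ∈ cyc (tau g.1) v := fun x hx => cyc_inv hx
  have key : ∀ s : F[X], (∀ t : F[X], cv g v (t * s) = 0) → aeval (tau g.1) s v = 0 := fun s hs =>
    aeval_of_dvd h0 (dvd_of_aeval hν (polarBilin Q) (v := aeval (tau g.1) r (g.1 v)) v
      (by rw [← g_aeval, ← g_aeval, ← aeval_mul_apply, mul_comm, aeval_mul_apply, h0]; simp)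
      (by rw [← aeval_mul_apply]; exact hr) fun t => by
        rw [← aeval_mul_apply, mul_right_comm]; exact hs _)
  have hG : Gen g (cyc (tau g.1) v ⊔ (cyc (tau g.1) v).map g.1.toLinearMap) v 0 :=
    ⟨mem_sup_left (self_mem_cyc _ v), zero_mem _, fun U a b _ =>
      sup_le (cyc_le (fun _ => tau_mem a) b) (by
        rintro _ ⟨x, hx, rfl⟩
        exact a x (cyc_le (fun _ => tau_mem a) b hx))⟩
  have hI : Inv (polarBilin Q) g.1 (cyc (tau g.1) v ⊔ (cyc (tau g.1) v).map g.1.toLinearMap) := by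
    refine ⟨?_, sup_map_inv hτ⟩
    rw [Nd, Submodule.disjoint_def]
    intro z hz hz0
    obtain ⟨_, ⟨p, rfl⟩, _, ⟨_, ⟨q, rfl⟩, rfl⟩, rfl⟩ := Submodule.mem_sup.1 hz
    change aeval (tau g.1) p v + g.1 (aeval (tau g.1) q v) = 0
    have hz1 : ∀ y ∈ cyc (tau g.1) v ⊔ (cyc (tau g.1) v).map g.1.toLinearMap,
        polar Q y (aeval (tau g.1) p v + g.1 (aeval (tau g.1) q v)) = 0 := hz0
    have h1 := key q fun t => by
      have := hz1 (aeval (tau g.1) t v) (mem_sup_left (mem_cyc.2 ⟨t, rfl⟩))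
      rwa [polar_add_right, ← padj, ← aeval_mul_apply, palt hQ, zero_add, g_aeval, padj,
        ← aeval_mul_apply, polar_comm] at this
    have h2 := key p fun t => by
      have := hz1 (g.1 (aeval (tau g.1) t v)) (mem_sup_right ⟨_, mem_cyc.2 ⟨t, rfl⟩, rfl⟩)
      rwa [h1, map_zero, add_zero, g_aeval, ← padj, ← aeval_mul_apply, mul_comm] at this
    rw [h1, h2, map_zero, add_zero]
  refine ⟨_, hG.2.2 _ hM.inv hv (zero_mem _), fun h => ?_, hI, ?_, fun x hx => ?_, hG.1, ?_⟩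
  · have := hG.1
    rw [h, mem_bot] at this
    exact hr (by simp [cv, this])
  · have h1 := finrank_sup_add_finrank_inf_eq (cyc (tau g.1) v)
      ((cyc (tau g.1) v).map g.1.toLinearMap)
    have h2 := LinearEquiv.finrank_map_eq g.1 (cyc (tau g.1) v)
    have h3 := finrank_cyc_le (pow_ne_zero _ hν.ne_zero) h0
    rw [natDegree_pow] at h3
    omega
  · exact hG.2.2 (LinearMap.ker (aeval (tau g.1) (ν ^ (j + 1)))) (fun y hy => by
      rw [LinearMap.mem_ker, ← g_aeval, hy, map_zero]) h0 (zero_mem _) hx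
  · obtain ⟨s, t, h1, h2, -⟩ := exists_mixed hQ hI hG (by simp)
    have h3 := idx hQ s t
    rw [show fixSpace s ⊓ movSpace t = ⊥ from eq_bot_iff.2 fun x hx =>
      hG.eq_zero hI.nd (h1.mem_b hQ hx).1 (h1.mem_b hQ hx).2.1 ((h1.mem_b hQ hx).2.2 v h2)
        (by simp), finrank_bot] at h3
    exact ⟨s, t, h1, h2, by omega, hG.symm.le_one hI.nd fun x hx =>
      ⟨(h1.mem_a hQ hx).1, (h1.mem_a hQ hx).2.1, by simp⟩⟩

theorem pair_inv {M₁ : Submodule F V} (hM : Inv (polarBilin Q) g.1 M₁) {k : ℕ}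
    (hk : ∀ x ∈ M₁, (nn g ^ (k + 1)) x = 0) (hβ : ∀ x ∈ M₁, polar Q x ((nn g ^ k) x) = 0)
    (hv : v ∈ M₁) (hw : w ∈ M₁) (hvw : polar Q v ((nn g ^ k) w) ≠ 0) :
    ∃ M ≤ M₁, M ≠ ⊥ ∧ Inv (polarBilin Q) g.1 M ∧ finrank F M ≤ 2 * (k + 1) ∧ Gen g M v w := by
  have hinv : ∀ x ∈ cyc (nn g) v ⊔ cyc (nn g) w, g.1 x ∈ cyc (nn g) v ⊔ cyc (nn g) w := fun x hx => by
    have := sub_mem (map_sup_mem (fun _ h => mem_sup_left (cyc_inv h))
      (fun _ h => mem_sup_right (cyc_inv h)) x hx) hx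
    rwa [nn_apply, add_sub_cancel_right] at this
  have hG : Gen g (cyc (nn g) v ⊔ cyc (nn g) w) v w :=
    ⟨mem_sup_left (self_mem_cyc _ _), mem_sup_right (self_mem_cyc _ _), fun U a b c =>
      sup_le (cyc_le (fun x hx => add_mem (a x hx) hx) b) (cyc_le (fun x hx => add_mem (a x hx) hx) c)⟩
  refine ⟨_, hG.2.2 _ hM.inv hv hw, fun h => ?_, ⟨nd_pair (n' := g.1.symm.toLinearMap + 1)
    (fun x y => by simp [nn_apply, polar_add_left, polar_add_right, OG.polar_apply_right g x])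
    (fun x hx => add_mem (symm_mem hinv hx) hx) (hk v hv) (hk w hw) (hβ v hv) (hβ w hw) hvw
    fun h => hvw ?_, hinv⟩, ?_, hG⟩
  · have := hG.1
    rw [h, mem_bot] at this
    exact hvw (by simp [this])
  · have := hβ (v + w) (add_mem hv hw)
    have h' : polar Q w ((nn g ^ k) v) = 0 := h
    simpa [polar_add_left, polar_add_right, hβ v hv, hβ w hw, h'] using this
  · have h1 := finrank_sup_add_finrank_inf_eq (cyc (nn g) v) (cyc (nn g) w)
    have h2 := finrank_cyc_le (A := nn g) (pow_ne_zero (k + 1) X_ne_zero) (by simpa using hk v hv)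
    have h3 := finrank_cyc_le (A := nn g) (pow_ne_zero (k + 1) X_ne_zero) (by simpa using hk w hw)
    rw [natDegree_X_pow] at h2 h3
    omega

theorem Fac.rk_eq (h : Fac g M s t) (hM : Nd (polarBilin Q) M) {z y z' y' a b : V}
    (h1 : Gen g M z y) (h2 : s.1 z = z) (h3 : Gen g M z' y') (h4 : t.1 z' = z')
    (ha : a ∈ movSpace s ⊓ fixSpace t) (ha' : a ≠ 0) (hb : b ∈ fixSpace s ⊓ movSpace t)
    (hb' : b ≠ 0) : (finrank F (movSpace s) : ℤ) = finrank F (movSpace t) + 0 := by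
  have a1 := h1.le_one hM fun x hx =>
    ⟨(h.mem_a hQ hx).1, (h.mem_a hQ hx).2.1, (h.mem_a hQ hx).2.2 z h2⟩
  have a2 := h3.le_one hM fun x hx =>
    ⟨(h.mem_b hQ hx).1, (h.mem_b hQ hx).2.1, (h.mem_b hQ hx).2.2 z' h4⟩
  have a3 := Submodule.one_le_finrank_iff.2 ((Submodule.ne_bot_iff _).2 ⟨a, ha, ha'⟩)
  have a4 := Submodule.one_le_finrank_iff.2 ((Submodule.ne_bot_iff _).2 ⟨b, hb, hb'⟩)
  have a5 := idx hQ s t
  omega

end CfsgLib.OmOre
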