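import Mathlib
import Cfsg.Agent.Lib.OmOre.C2c

/-!
Characteristic two: the four kinds of summands.
-/

set_option autoImplicit false

namespace CfsgLib.OmOre

open Module Submodule QuadraticMap Polynomial CfsgLib.SpOre CfsgLib.Orth CfsgLib.Inv2

variable {F : Type*} [Field F] {V : Type*} [AddCommGroup V] [Module F V] {Q : QuadraticForm F V}

/-- a balanced summand -/
def Zp (g : OG Q) (M : Submodule F V) : Prop :=
  FF g M 0 True True ∨ finrank F M < 8 ∧ FF g M 0 True False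

/-- a cyclic unipotent summand -/
def Vp (g : OG Q) (M : Submodule F V) : Prop :=
  ∃ v ∈ M, ∃ j : ℕ, (∀ x ∈ M, aeval (tau g.1) (X ^ (j + 1) : F[X]) x = 0) ∧ cv g v (X ^ j) ≠ 0 ∧
    FF g M 1 (P1 g v) (P2 g v)

variable {g : OG Q} {M M₁ : Submodule F V} {v w : V}

theorem FF.one {d : ℤ} {p q : Prop} (h : FF g M d p q) (hpq : p ∨ q) :
    FF g M d True False ∨ FF g M (-d) True False :=
  hpq.elim (fun hp => Or.inl (h.mono rfl (fun _ => hp) False.elim))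
    fun hq => Or.inr (h.swap.mono rfl (fun _ => hq) False.elim)

theorem zp_of {p q : Prop} (h : FF g M 0 p q) (h1 : p ∨ q) (h2 : 8 ≤ finrank F M → p ∧ q) :
    Zp g M := by
  by_cases h8 : 8 ≤ finrank F M
  · exact Or.inl (h.mono rfl (fun _ => (h2 h8).1) fun _ => (h2 h8).2)
  · exact Or.inr ⟨by omega, by simpa using h.one h1⟩

theorem aeval_ge {A : End F V} {i j : ℕ} {x : V} (h : aeval A (X ^ j : F[X]) x = 0) (hij : j ≤ i) :
    aeval A (X ^ i : F[X]) x = 0 := aeval_of_dvd h (pow_dvd_pow _ hij)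

variable [CharP F 2]

theorem Q_nn (x : V) : Q (nn g x) = cv g x 1 := by
  rw [nn_apply, Q_add, OG.map_Q, CharTwo.add_self_eq_zero, zero_add]; simp [cv]

theorem Q_tau (hQ : (polarBilin Q).Nondegenerate) (x : V) : Q (tau g.1 x) = cv g x X := by
  rw [← OG.map_Q g, ← nn_nn, Q_nn, cv_nn hQ, one_mul]

variable [FiniteDimensional F V] (hQ : (polarBilin Q).Nondegenerate)
  (hM : Inv (polarBilin Q) g.1 M₁)

include hQ hM

omit hQ [CharP F 2] in
theorem amem (p : F[X]) {x : V} (hx : x ∈ M₁) : aeval (tau g.1) p x ∈ M₁ :=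
  aeval_mem (fun _ => tau_mem hM.inv) p hx

theorem kill {j : ℕ} (h0 : ∀ x ∈ M₁, aeval (tau g.1) (X ^ (j + 1) : F[X]) x = 0)
    (h2 : ∀ x ∈ M₁, cv g x (X ^ j) = 0) (hv : v ∈ M₁) (hw : w ∈ M₁)
    (hβ : polar Q (aeval (tau g.1) (X ^ j : F[X]) v) (nn g w) ≠ 0) :
    ∃ x ∈ M₁, (∀ z ∈ M₁, polar Q (aeval (tau g.1) (X ^ j : F[X]) x) (nn g z) =
      polar Q (aeval (tau g.1) (X ^ j : F[X]) v) (nn g z)) ∧ Q x = 0 ∧ ∀ p, cv g x p = 0 := by
  have c0 : ∀ x ∈ M₁, ∀ i, j ≤ i → cv g x (X ^ i) = 0 := fun x hx i hi => by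
    rcases hi.eq_or_lt with rfl | h
    · exact h2 x hx
    · rw [cv, aeval_ge (h0 _ (hM.inv x hx)) h, polar_zero_left]
  have nm : nn g w ∈ M₁ := add_mem (hM.inv w hw) hw
  have e1 : ∀ x (γ : F) (l : ℕ) z, z ∈ M₁ → polar Q (aeval (tau g.1) (X ^ j : F[X])
      (x + γ • aeval (tau g.1) (X ^ l : F[X]) (nn g w))) (nn g z) =
      polar Q (aeval (tau g.1) (X ^ j : F[X]) x) (nn g z) := fun x γ l z hz => by
    have := h0 _ (amem hM (X ^ l) hw)
    rw [pow_succ', aeval_mul_apply, aeval_X] at this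
    rw [map_add, map_smul, polar_add_left, polar_smul_left, ← nn_aeval, ← nn_aeval, polar_nn, this]
    simp
  have e2 : ∀ x (γ : F) (l i : ℕ), cv g (x + γ • aeval (tau g.1) (X ^ l : F[X]) (nn g w)) (X ^ i) =
      cv g x (X ^ i) + γ * γ * cv g w (X ^ (i + 2 * l + 1)) +
        γ * polar Q (aeval (tau g.1) (X ^ (i + 1 + l) : F[X]) x) (nn g w) := fun x γ l i => by
    rw [cv_add, cv_smul, cv_aeval, cv_nn hQ, polar_smul_right, ← padj, ← aeval_mul_apply,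
      smul_eq_mul]
    congr 3 <;> ring_nf
  have step : ∀ l ≤ j, ∃ x ∈ M₁, (∀ z ∈ M₁, polar Q (aeval (tau g.1) (X ^ j : F[X]) x) (nn g z) =
      polar Q (aeval (tau g.1) (X ^ j : F[X]) v) (nn g z)) ∧ ∀ i, j ≤ i + l → cv g x (X ^ i) = 0 := by
    intro l hl
    induction l with
    | zero => exact ⟨v, hv, fun _ _ => rfl, c0 v hv⟩
    | succ l ih =>
      obtain ⟨x, x1, x2, x3⟩ := ih (by omega)
      refine ⟨x + (-(cv g x (X ^ (j - l - 1))) /
        polar Q (aeval (tau g.1) (X ^ j : F[X]) v) (nn g w)) • aeval (tau g.1) (X ^ l : F[X]) (nn g w),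
        add_mem x1 (smul_mem _ _ (amem hM _ nm)), fun z hz => by rw [e1 _ _ _ z hz, x2 z hz],
        fun i hi => ?_⟩
      rw [e2, c0 w hw _ (by omega), mul_zero, add_zero]
      by_cases h : j ≤ i + l
      · rw [x3 i h, aeval_ge (h0 x x1) (by omega)]; simp
      · rw [show i + 1 + l = j by omega, show j - l - 1 = i by omega, x2 w hw, div_mul_cancel₀ _ hβ,
          add_neg_cancel]
  obtain ⟨x, x1, x2, x3⟩ := step j le_rfl
  refine ⟨x + (-Q x / polar Q (aeval (tau g.1) (X ^ j : F[X]) v) (nn g w)) •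
    aeval (tau g.1) (X ^ j : F[X]) (nn g w), add_mem x1 (smul_mem _ _ (amem hM _ nm)),
    fun z hz => by rw [e1 _ _ _ z hz, x2 z hz], ?_, cv_all fun i => ?_⟩
  · rw [Q_add, Q_smul, polar_smul_right, ← padj, x2 w hw, ← nn_aeval, Q_nn, cv_aeval, one_mul,
      ← pow_mul, c0 w hw _ (by omega), smul_eq_mul, div_mul_cancel₀ _ hβ]
    ring
  · rw [e2, c0 w hw _ (by omega), x3 i (by omega), aeval_ge (h0 x x1) (by omega)]; simp

theorem swap_piece {j : ℕ} (h0 : ∀ x ∈ M₁, aeval (tau g.1) (X ^ (j + 1) : F[X]) x = 0)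
    (h2 : ∀ x ∈ M₁, cv g x (X ^ j) = 0) (hv : v ∈ M₁) (hw : w ∈ M₁)
    (hβ : polar Q (aeval (tau g.1) (X ^ j : F[X]) v) (nn g w) ≠ 0) (v1 : Q v = 0) (w1 : Q w = 0)
    (v2 : ∀ p, cv g v p = 0) (w2 : ∀ p, cv g w p = 0) :
    ∃ M ≤ M₁, M ≠ ⊥ ∧ Inv (polarBilin Q) g.1 M ∧ finrank F M ≤ 4 * (j + 1) ∧
      FF g M 0 (∃ i, Odd i ∧ polar Q (aeval (tau g.1) (X ^ i : F[X]) v) w ≠ 0)
        (∃ i, Even i ∧ polar Q (aeval (tau g.1) (X ^ i : F[X]) v) w ≠ 0) := by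
  have e0 : ∀ x ∈ M₁, nn g (aeval (tau g.1) (X ^ j : F[X]) (nn g x)) = 0 := fun x hx => by
    have := h0 x hx
    rw [pow_succ, aeval_mul_apply, aeval_X] at this
    rw [nn_aeval, nn_nn, ← g_aeval, this, map_zero]
  have e1 : ∀ x ∈ M₁, (nn g ^ (2 * j + 1)) x = aeval (tau g.1) (X ^ j : F[X]) (nn g x) :=
    fun x hx => by rw [pow_succ, End.mul_apply, nn_pow' j (e0 x hx)]
  have e2 : ∀ x ∈ M₁, polar Q x (aeval (tau g.1) (X ^ j : F[X]) (nn g x)) = 0 := fun x hx => by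
    rw [nn_apply, map_add, polar_add_right, polar_comm Q x, polar_comm Q x, palt hQ, add_zero]
    exact h2 x hx
  obtain ⟨M, m1, m2, m3, m4, m5⟩ := pair_inv hQ hM (k := 2 * j + 1)
    (fun x hx => by rw [pow_succ', End.mul_apply, e1 x hx, e0 x hx])
    (fun x hx => by rw [e1 x hx, e2 x hx]) hv hw (by rwa [e1 w hw, ← padj])
  obtain ⟨s, t, h1, h3, h4⟩ := exists_swap hQ m3 m5 v1 w1 v2 w2
  have ta := fun p => h1.t_aeval hQ m3.inv p (x := v) m5.1
  have vM := fun p => amem m3 p m5.1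
  have nv : nn g v ∈ M := add_mem (m3.inv v m5.1) m5.1
  have g1 : ∀ x ∈ M₁, g.1 (aeval (tau g.1) (X ^ j : F[X]) (nn g x)) =
      aeval (tau g.1) (X ^ j : F[X]) (nn g x) := fun x hx => by
    have := e0 x hx
    rwa [nn_apply, ← sub_eq_add' F, sub_eq_zero] at this
  have t1 : t.1 (aeval (tau g.1) (X ^ j : F[X]) (nn g v)) =
      aeval (tau g.1) (X ^ j : F[X]) (nn g w) := by
    have := h0 w hw
    rw [pow_succ, aeval_mul_apply, aeval_X, tau_apply, map_add, ← sub_eq_add' F, sub_eq_zero] at this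
    rw [h1.t_aeval hQ m3.inv _ nv, nn_apply, map_add t.1, h1.t_g hQ m5.1, h3, nn_apply, map_add,
      map_add, this]
  have s1 : s.1 (aeval (tau g.1) (X ^ j : F[X]) (nn g v)) =
      aeval (tau g.1) (X ^ j : F[X]) (nn g w) := by
    rw [h1.s_eq hQ (amem m3 _ nv), t1, g1 w hw]
  have a0 : aeval (tau g.1) (X ^ j : F[X]) (nn g w) - aeval (tau g.1) (X ^ j : F[X]) (nn g v) ≠ 0 :=
    fun h => hβ (by rw [padj, sub_eq_zero.1 h, e2 v hv])
  have a1 : _ ∈ movSpace s := mem_movSpace.2 ⟨_, congrArg (· - _) s1⟩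
  have a2 : _ ∈ movSpace t := mem_movSpace.2 ⟨_, congrArg (· - _) t1⟩
  refine ⟨M, m1, m2, m3, by omega, s, t, h1, h1.rk_eq hQ m3.nd (z := v + g.1 w) (y := w)
    (z' := v + w) (y' := w) ⟨add_mem m5.1 (m3.inv w m5.2.1), m5.2.1, fun U a b c =>
      m5.2.2 U a (by simpa using sub_mem b (a w c)) c⟩ (by
        rw [map_add, h1.s_eq hQ m5.1, h3, h1.s_eq hQ (m3.inv w m5.2.1), h1.t_g hQ m5.2.1, h4,
          LinearEquiv.apply_symm_apply, add_comm])
      ⟨add_mem m5.1 m5.2.1, m5.2.1, fun U a b c => m5.2.2 U a (by simpa using sub_mem b c) c⟩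
      (by rw [map_add, h3, h4, add_comm]) ⟨a1, mem_fixSpace.2 (fix_of_mov h1.tt a2)⟩ a0
      ⟨mem_fixSpace.2 (fix_of_mov h1.ss a1), a2⟩ a0, ?_, ?_⟩
  · rintro ⟨_, ⟨l, rfl⟩, hl⟩
    by_contra h
    simp only [Fl, not_exists, not_not] at h
    have b1 := h (aeval (tau g.1) (X ^ l : F[X]) v)
    have b2 := h (g.1 (aeval (tau g.1) (X ^ l : F[X]) v))
    rw [h1.s_eq hQ (vM _), ta, h3, OG.polar_apply_right] at b1
    rw [h1.s_eq hQ (m3.inv _ (vM _)), h1.t_g hQ (vM _), ta, h3, LinearEquiv.apply_symm_apply] at b2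
    apply hl
    rw [show (X ^ (2 * l + 1) : F[X]) = X ^ l * (X * X ^ l) by ring, aeval_mul_apply, padj,
      aeval_mul_apply, aeval_X, tau_apply, polar_add_left, b2, zero_add]
    exact b1
  · rintro ⟨_, ⟨l, rfl⟩, hl⟩
    exact ⟨aeval (tau g.1) (X ^ l : F[X]) v, by rwa [ta, h3, ← padj, ← aeval_mul_apply, ← pow_add]⟩

theorem even_piece {j : ℕ} (h0 : ∀ x ∈ M₁, aeval (tau g.1) (X ^ (j + 1) : F[X]) x = 0)
    (h2 : ∀ x ∈ M₁, cv g x (X ^ j) = 0) (hv : v ∈ M₁)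
    (h1 : aeval (tau g.1) (X ^ j : F[X]) (nn g v) ≠ 0) :
    ∃ M ≤ M₁, M ≠ ⊥ ∧ Inv (polarBilin Q) g.1 M ∧ Zp g M := by
  have sy : ∀ x ∈ M₁, ∀ y, polar Q (aeval (tau g.1) (X ^ j : F[X]) x) (nn g y) =
      polar Q (aeval (tau g.1) (X ^ j : F[X]) y) (nn g x) := fun x hx y => by
    have := h0 x hx
    rw [pow_succ', aeval_mul_apply, aeval_X, tau_apply, ← sub_eq_add' F, sub_eq_zero] at this
    rw [padj _ y, ← nn_aeval, nn_apply, nn_apply, this, polar_add_right, polar_add_right,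
      OG.polar_apply_right g, polar_comm Q y, polar_comm Q y]
    rfl
  obtain ⟨u, hu, hu'⟩ : ∃ u ∈ M₁, polar Q (aeval (tau g.1) (X ^ j : F[X]) u) (nn g v) ≠ 0 := by
    by_contra h
    push Not at h
    exact h1 (hM.nd.eq_zero (amem hM _ (add_mem (hM.inv v hv) hv)) fun y hy =>
      (padj _ _ _).symm.trans (h y hy))
  obtain ⟨x, x1, x2, x3, x4⟩ := kill hQ hM h0 h2 hu hv hu'
  obtain ⟨y, y1, y2, y3, y4⟩ := kill hQ hM h0 h2 hv x1 (by rwa [sy v hv, x2 v hv])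
  have b0 : polar Q (aeval (tau g.1) (X ^ j : F[X]) x) (nn g y) ≠ 0 := by
    rwa [sy x x1, y2 x x1, sy v hv, x2 v hv]
  have b1 : ∀ z, polar Q (aeval (tau g.1) (X ^ j : F[X]) x) (tau g.1 z) = 0 := fun z => by
    have := h0 x x1
    rw [pow_succ', aeval_mul_apply, aeval_X] at this
    exact (tau_adj (isom_of g) _ _).symm.trans (by rw [this]; simp)
  obtain ⟨z, z1, z2, z3, z4, z5⟩ : ∃ z ∈ M₁, Q z = 0 ∧ (∀ p, cv g z p = 0) ∧
      polar Q (aeval (tau g.1) (X ^ j : F[X]) x) (nn g z) ≠ 0 ∧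
      polar Q (aeval (tau g.1) (X ^ j : F[X]) x) z ≠ 0 := by
    by_cases h : polar Q (aeval (tau g.1) (X ^ j : F[X]) x) y = 0
    · refine ⟨g.1 y, hM.inv y y1, by rwa [OG.map_Q], fun p => by rw [cv_g, y4], ?_, by
        rwa [nn_apply, polar_add_right, h, add_zero] at b0⟩
      rwa [show g.1 y = nn g y - y by simp [nn_apply], map_sub, nn_nn, g_tau, polar_sub_right, b1,
        zero_sub, neg_ne_zero]
    · exact ⟨y, y1, y3, y4, b0, h⟩
  have par : ∀ {p : ℕ → Prop} {i : ℕ}, p i → (∃ i, Odd i ∧ p i) ∨ ∃ i, Even i ∧ p i :=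
    fun {p i} h => (Nat.even_or_odd i).symm.imp (fun h' => ⟨i, h', h⟩) fun h' => ⟨i, h', h⟩
  have par2 : ∀ {p : ℕ → Prop} {i : ℕ}, p i → p (i + 1) → (∃ i, Odd i ∧ p i) ∧ ∃ i, Even i ∧ p i :=
    fun {p i} h h' => (Nat.even_or_odd i).elim (fun e => ⟨⟨_, e.add_one, h'⟩, _, e, h⟩)
      fun e => ⟨⟨_, e, h⟩, _, e.add_one, h'⟩
  rcases j with _ | j
  · obtain ⟨M, m1, m2, m3, m4, m5⟩ := swap_piece hQ hM h0 h2 x1 z1 z4 x3 z2 x4 z3
    exact ⟨M, m1, m2, m3, zp_of m5 (par z5) fun h => by omega⟩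
  by_cases h : polar Q (aeval (tau g.1) (X ^ j : F[X]) x) z = 0
  · have e : tau g.1 z = aeval (tau g.1) (X : F[X]) z := by rw [aeval_X]
    obtain ⟨M, m1, m2, m3, m4, m5⟩ := swap_piece hQ hM h0 h2 x1 (add_mem z1 (tau_mem hM.inv z1))
      (by rwa [map_add, polar_add_right, e, nn_aeval, aeval_X, b1, add_zero]) x3 (by
        rw [Q_add, z2, Q_tau hQ, z3, e, polar_comm, palt hQ]; simp) x4 fun p => by
        rw [cv_add, e, cv_aeval, z3, z3, ← padj, ← aeval_mul_apply, palt hQ]; simp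
    have := par2 (p := fun i => polar Q (aeval (tau g.1) (X ^ i : F[X]) x) (z + tau g.1 z) ≠ 0)
      (i := j) (by rwa [polar_add_right, h, zero_add, e, ← padj, ← aeval_mul_apply, ← pow_succ'])
      (by rwa [polar_add_right, b1, add_zero])
    exact ⟨M, m1, m2, m3, zp_of m5 (Or.inl this.1) fun _ => this⟩
  · obtain ⟨M, m1, m2, m3, m4, m5⟩ := swap_piece hQ hM h0 h2 x1 z1 z4 x3 z2 x4 z3
    have := par2 (p := fun i => polar Q (aeval (tau g.1) (X ^ i : F[X]) x) z ≠ 0) h z5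
    exact ⟨M, m1, m2, m3, zp_of m5 (Or.inl this.1) fun _ => this⟩

theorem mixed_piece {j : ℕ} (h0 : ∀ x ∈ M₁, aeval (tau g.1) (X ^ (j + 1) : F[X]) (nn g x) = 0)
    (hv : v ∈ M₁) (h1 : aeval (tau g.1) (X ^ (j + 1) : F[X]) v ≠ 0) :
    ∃ M ≤ M₁, M ≠ ⊥ ∧ Inv (polarBilin Q) g.1 M ∧ finrank F M ≤ 4 * j + 6 ∧
      FF g M 0 (P1 g v) (P2 g v) := by
  have e0 : ∀ x ∈ M₁, nn g (aeval (tau g.1) (X ^ (j + 1) : F[X]) x) = 0 := fun x hx => by
    rw [nn_aeval, h0 x hx]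
  have e1 := fun x hx => nn_pow' (j + 1) (e0 x hx)
  have nv : nn g v ∈ M₁ := add_mem (hM.inv v hv) hv
  obtain ⟨w, hw, w1, w2⟩ := exists_dual_vec (sy hQ) hM.nd (cyc_le (fun _ => tau_mem hM.inv) nv)
    (amem hM (X ^ (j + 1)) hv) fun h => h1 (parity (n := nn g) (γ := g.1.symm.toLinearMap)
      g.1.symm.injective (fun x => by simp [nn_nn]) (fun x => by simp [nn_apply]) (j + 1) (nn g v)
      (by rw [e1 _ nv, h0 v hv])
      (fun m hm => by rwa [← End.mul_apply, ← pow_succ, hm, e1 v hv]) _ h (e0 v hv))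
  obtain ⟨M, m1, m2, m3, m4, m5⟩ := pair_inv hQ hM (k := 2 * (j + 1))
    (fun x hx => by rw [pow_succ', End.mul_apply, e1 x hx, e0 x hx])
    (fun x hx => by rw [e1 x hx, polar_comm, palt hQ]) hv hw (by rwa [e1 w hw, ← padj])
  obtain ⟨s, t, h2, h3, h4⟩ := exists_mixed hQ m3 m5 w1
  have g1 : ∀ x ∈ M₁, g.1 (aeval (tau g.1) (X ^ (j + 1) : F[X]) x) =
      aeval (tau g.1) (X ^ (j + 1) : F[X]) x := fun x hx => by
    have := e0 x hx
    rwa [nn_apply, ← sub_eq_add' F, sub_eq_zero] at this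
  have h5 : t.1 w = g.1.symm w := by rw [LinearEquiv.eq_symm_apply, ← h2.s_eq hQ m5.2.1, h4]
  have e2 : ∀ x, aeval (tau g.1) (X ^ j : F[X]) (g.1.symm x) - aeval (tau g.1) (X ^ j : F[X]) (g.1 x) =
      aeval (tau g.1) (X ^ (j + 1) : F[X]) x := fun x => by
    rw [pow_succ, aeval_mul_apply, aeval_X, tau_apply, map_add, sub_eq_add' F, add_comm]
  refine ⟨M, m1, m2, m3, by omega, s, t, h2, h2.rk_eq hQ m3.nd m5.symm h4 m5 h3
    (a := aeval (tau g.1) (X ^ (j + 1) : F[X]) w) 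
    ⟨mem_movSpace.2 ⟨aeval (tau g.1) (X ^ j : F[X]) (g.1 w), ?_⟩, mem_fixSpace.2 ?_⟩
    (fun h => w2 ((padj _ _ _).trans (by rw [h, polar_zero_right])))
    ⟨mem_fixSpace.2 ?_, mem_movSpace.2 ⟨aeval (tau g.1) (X ^ j : F[X]) (g.1 v), ?_⟩⟩ h1,
    h2.flags hQ m3.inv m5.1 h3⟩
  · rw [h2.s_eq hQ (amem m3 _ (m3.inv w m5.2.1)), h2.t_aeval hQ m3.inv _ (m3.inv w m5.2.1),
      h2.t_g hQ m5.2.1, h5, g_aeval, LinearEquiv.apply_symm_apply, e2]
  · rw [h2.t_aeval hQ m3.inv _ m5.2.1, h5, ← symm_aeval, LinearEquiv.symm_apply_eq, g1 w hw]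
  · rw [h2.s_eq hQ (amem m3 _ m5.1), h2.t_aeval hQ m3.inv _ m5.1, h3, g1 v hv]
  · rw [h2.t_aeval hQ m3.inv _ (m3.inv v m5.1), h2.t_g hQ m5.1, h3, e2]

theorem odd_piece {j : ℕ} (h0 : ∀ x ∈ M₁, aeval (tau g.1) (X ^ j : F[X]) (nn g x) = 0)
    (hv : v ∈ M₁) (h1 : aeval (tau g.1) (X ^ j : F[X]) v ≠ 0) :
    ∃ M ≤ M₁, M ≠ ⊥ ∧ Inv (polarBilin Q) g.1 M ∧ Zp g M := by
  have dual : ∀ v ∈ M₁, aeval (tau g.1) (X ^ j : F[X]) v ≠ 0 →
      ∃ w ∈ M₁, polar Q (aeval (tau g.1) (X ^ j : F[X]) v) w ≠ 0 := fun v hv h1 => by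
    by_contra h
    push Not at h
    exact h1 (hM.nd.eq_zero (amem hM _ hv) fun y hy => (polar_comm Q _ _).trans (h y hy))
  obtain ⟨w, hw, hw'⟩ := dual v hv h1
  rcases j with _ | j
  · simp only [pow_zero, map_one, End.one_apply] at h0 hw' h1
    obtain ⟨y, y1, y2⟩ : ∃ y ∈ M₁, Q y ≠ 0 := by
      by_contra h
      push Not at h
      exact hw' (by rw [polar, h v hv, h w hw, h _ (add_mem hv hw)]; simp)
    have f : Fl (refl Q y) := by
      obtain ⟨z, hz⟩ := exists_polar_ne_zero hQ (x := y) (by rintro rfl; simp at y2)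
      exact ⟨z, by
        rw [refl_apply, polar_sub_right, polar_self_charTwo, polar_smul_right, polar_comm Q z]
        simp [hz, y2]⟩
    have su : Su M₁ (refl Q y) := fun x hx => refl_apply_of_polar_eq_zero (hx y y1)
    exact ⟨M₁, le_rfl, (Submodule.ne_bot_iff _).2 ⟨v, hv, h1⟩, hM, Or.inl ⟨_, _, ⟨refl_mul_self y,
      refl_mul_self y, su, su, fun x hx => by
        have := h0 x hx
        rw [nn_apply, ← sub_eq_add' F, sub_eq_zero] at this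
        rw [refl_refl, this]⟩,
      by simp, fun _ => f, fun _ => f⟩⟩
  obtain ⟨u, u1, u2, u3⟩ : ∃ u ∈ M₁, aeval (tau g.1) (X ^ (j + 1) : F[X]) u ≠ 0 ∧
      cv g u (X ^ j) ≠ 0 := by
    by_cases a : cv g v (X ^ j) = 0
    · by_cases b : cv g w (X ^ j) = 0
      · refine ⟨v + w, add_mem hv hw, fun h => hw' ?_, by
          rwa [cv_add, a, b, zero_add, zero_add, ← pow_succ]⟩
        have := congrArg (polar Q · w) h
        simpa only [map_add, polar_add_left, palt hQ, add_zero, polar_zero_left] using this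
      · exact ⟨w, hw, fun h => hw' (by rw [padj, h, polar_zero_right]), b⟩
    · exact ⟨v, hv, h1, a⟩
  have fl : ∀ {u : V} {i : ℕ}, cv g u (X ^ i) ≠ 0 → cv g u (X ^ (i + 1)) ≠ 0 → P1 g u ∧ P2 g u :=
    fun {u i} h h' => (Nat.even_or_odd i).elim
      (fun e => ⟨(flag_par h).1 e, (flag_par h').2 e.add_one⟩)
      fun e => ⟨(flag_par h').1 e.add_one, (flag_par h).2 e⟩
  rcases j with _ | j
  · obtain ⟨M, m1, m2, m3, m4, m5⟩ := mixed_piece hQ hM h0 u1 u2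
    exact ⟨M, m1, m2, m3, zp_of m5 (Or.inl ((flag_par u3).1 (by simp))) fun h => by omega⟩
  by_cases h : cv g u (X ^ j) = 0
  · obtain ⟨z, hz, hz'⟩ := dual u u1 u2
    have k : ∀ x ∈ M₁, aeval (tau g.1) (X ^ (j + 1 + 1) * X : F[X]) x = 0 := fun x hx => by
      have := h0 _ (add_mem (hM.inv x hx) hx)
      rw [← nn_apply, nn_nn, ← g_aeval, LinearEquiv.map_eq_zero_iff] at this
      rwa [aeval_mul_apply, aeval_X]
    have c0 : cv g z (X ^ (j + 1 + 1)) = 0 := by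
      have := congrArg (polar Q · z) (h0 z hz)
      simpa only [nn_apply, map_add, polar_add_left, palt hQ, add_zero, polar_zero_left, cv] using this
    obtain ⟨M, m1, m2, m3, m4, m5⟩ := mixed_piece hQ hM h0 (add_mem u1 (amem hM X hz))
      (by rwa [map_add, ← aeval_mul_apply, k z hz, add_zero])
    have := fl (u := u + aeval (tau g.1) (X : F[X]) z) (i := j)
      (by rwa [cv_add, h, cv_aeval, ← pow_add, c0, ← padj, ← aeval_mul_apply, ← pow_succ,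
        ← pow_succ', zero_add, zero_add])
      (by rwa [cv_add, cv_aeval, pow_two, ← mul_assoc, ← pow_succ, ← one_mul (_ * X),
        cv_zero (k z hz), ← padj, ← aeval_mul_apply, mul_comm, k u u1, polar_zero_left,
        add_zero, add_zero])
    exact ⟨M, m1, m2, m3, zp_of m5 (Or.inl this.1) fun _ => this⟩
  · obtain ⟨M, m1, m2, m3, m4, m5⟩ := mixed_piece hQ hM h0 u1 u2
    exact ⟨M, m1, m2, m3, zp_of m5 (Or.inl (fl h u3).1) fun _ => fl h u3⟩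

end CfsgLib.OmOre
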