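import Mathlib
import Cfsg.Agent.Lib.OmOre.Even

/-!
Every element of `Ω(V)` is a commutator when `dim V ≥ 8` is even and the field has odd order.
-/

set_option autoImplicit false

namespace CfsgLib.OmOre

open Module Submodule QuadraticMap CfsgLib.SpOre CfsgLib.Orth CfsgLib.Forms

variable {F : Type*} [Field F] {V : Type*} [AddCommGroup V] [Module F V] {Q : QuadraticForm F V}

theorem plane_inf {W : Submodule F V} {x y z : V} (hx : x ∉ W) (hy : y ∉ W ⊔ span F {x})
    (hz : z ∈ span F {x, y}) : z ∈ W ↔ z = 0 := by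
  refine ⟨fun h => ?_, fun h => h ▸ zero_mem _⟩
  obtain ⟨a, b, rfl⟩ := mem_span_pair.1 hz
  have hb : b = 0 := by
    by_contra hb
    refine hy ((smul_mem_iff _ hb).1 ?_)
    rw [← add_sub_cancel_left (a • x) (b • y)]
    exact sub_mem (mem_sup_left h) (mem_sup_right (smul_mem _ _ (mem_span_singleton_self x)))
  rw [hb, zero_smul, add_zero] at h ⊢
  by_contra ha
  exact hx ((smul_mem_iff _ (left_ne_zero_of_smul ha)).1 h)

theorem fix_of_det {r : OG Q} {x y z : V}
    (h : 4 * Q (x - r.1 x) * Q (y - r.1 y) ≠ polar Q (x - r.1 x) (y - r.1 y) ^ 2)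
    (hz : z ∈ span F {x, y}) : r.1 z = z ↔ z = 0 := by
  refine ⟨fun h0 => ?_, fun h => by rw [h, map_zero]⟩
  obtain ⟨a, b, rfl⟩ := mem_span_pair.1 hz
  have e : a • (x - r.1 x) + b • (y - r.1 y) = 0 := by
    rw [map_add, map_smul, map_smul] at h0
    linear_combination (norm := module) -h0
  generalize x - r.1 x = u at *
  generalize y - r.1 y = v at *
  have h1 := congrArg (polar Q u) e
  have h3 := congrArg (polar Q v) e
  rw [polar_add_right, polar_smul_right, polar_smul_right, polar_self', smul_eq_mul,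
    smul_eq_mul, polar_zero_right] at h1 h3
  rw [polar_comm Q v u] at h3
  have ha : a = 0 := mul_right_cancel₀ (sub_ne_zero.2 h)
    (by linear_combination (2 * Q v) * h1 - polar Q u v * h3)
  have hb : b = 0 := mul_right_cancel₀ (sub_ne_zero.2 h)
    (by linear_combination (2 * Q u) * h3 - polar Q u v * h1)
  simp [ha, hb]

theorem polar_mov_mov {r : OG Q} (hr : r * r = 1) (x y : V) :
    polar Q (x - r.1 x) (y - r.1 y) = 2 * polar Q x y - 2 * polar Q x (r.1 y) := by
  rw [polar_sub_left, polar_sub_right, polar_sub_right, OG.map_polar, inv_adj hr]; ring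

theorem Q_mov (r : OG Q) (x : V) : Q (x - r.1 x) = 2 * Q x - polar Q x (r.1 x) := by
  rw [Q_sub, OG.map_Q]; ring

variable [FiniteDimensional F V] (hQ : (polarBilin Q).Nondegenerate)

theorem Z_le {W : Submodule F V} {f : V →ₗ[F] F} (x : V) (h : ∃ w ∈ W, f w ≠ 0) :
    finrank F ↥((W ⊔ span F {x}) ⊓ LinearMap.ker f) ≤ finrank F W := by
  obtain ⟨w, hw, hw'⟩ := h
  have h1 := finrank_lt_finrank_of_lt (s := (W ⊔ span F {x}) ⊓ LinearMap.ker f)
    (lt_of_le_of_ne inf_le_left fun h => hw' (h.ge (mem_sup_left hw)).2)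
  have h2 := finrank_sup_add_finrank_inf_eq W (span F {x})
  have h3 : finrank F (span F {x}) ≤ 1 := by simpa using finrank_span_le_card ({x} : Set V)
  omega

include hQ

omit [FiniteDimensional F V] in
theorem not_le {s t : OG Q} (hs : s * s = 1) (ht : t * t = 1) (hK : ∀ x, s.1 x = t.1 x → x = 0)
    {ε : F} (hε : ε * ε = 1) {x : V} (hx : t.1 x ≠ ε • x) :
    ∃ w, s.1 w = ε • w ∧ polar Q (s.1 x - t.1 x) w ≠ 0 := by
  by_contra hcon
  push Not at hcon
  have h1 : s.1 (x - ε • t.1 x) = t.1 (x - ε • t.1 x) := by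
    rw [← sub_eq_zero]
    refine eq_zero_of_polar hQ fun y => ?_
    have := hcon (s.1 y + ε • y) (by
      rw [map_add, map_smul, inv_inv_apply hs, smul_add, smul_smul, hε, one_smul, add_comm])
    simp only [map_sub, map_smul, inv_inv_apply ht, polar_sub_left, polar_add_right,
      polar_smul_left, polar_smul_right, smul_eq_mul, inv_adj hs, inv_inv_apply hs] at this ⊢
    linear_combination ε * this + (polar Q (t.1 x) y - polar Q x (s.1 y)) * hε
  apply hx
  conv_rhs => rw [sub_eq_zero.1 (hK _ h1), smul_smul, hε, one_smul]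

variable (h2 : (2 : F) ≠ 0) [Fintype F]

include h2

theorem sing_count {r : OG Q} (hr : r * r = 1) {k : ℕ} (hk : finrank F (movSpace r) = 2 * k + 2)
    {u : V} (hu : u ∈ movSpace r) (ha : Q u ≠ 0) :
    ct (fun z => z ∈ LinearMap.BilinForm.orthogonal (polarBilin Q) (span F {u}) ⊓ movSpace r ∧
      Q z = 0) = (Fintype.card F : ℤ) ^ (2 * k) := by
  have : Finite V := Module.finite_of_finite F
  have h0 : Nd (polarBilin Q) (span F {u}) := by
    rw [Nd, Submodule.disjoint_def]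
    intro x hx h0
    obtain ⟨a, rfl⟩ := mem_span_singleton.1 hx
    have h1 : polar Q u (a • u) = 0 := h0 u (mem_span_singleton_self u)
    rw [polar_smul_right, polar_self', smul_eq_mul] at h1
    rw [(mul_eq_zero.1 h1).resolve_right (mul_ne_zero h2 ha), zero_smul]
  have hle := (span_singleton_le_iff_mem _ _).2 hu
  obtain ⟨M, h1, h3, h5, h6⟩ := (sm hQ).split (g := 1) (one_mem _)
    (M₀ := movSpace r) ⟨nd_mov hQ h2 hr, fun _ h => h⟩ ⟨h0, fun _ h => h⟩ hle
  have h7 := (sm hQ).finrank_orth_inf (nd_mov hQ h2 hr) hle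
  rw [← Submodule.eq_of_le_of_finrank_le (le_inf h3 (h5 ▸ le_sup_right)) (by omega), ← cnt_comp]
  rw [finrank_span_singleton (by rintro rfl; simp at ha)] at h6
  have h8 := cnt_odd h2 k M (Q.comp M.subtype) (by
    rw [LinearMap.BilinForm.Nondegenerate.ker_eq_bot (nd_comp h1.nd), finrank_bot]) (by omega)
  rw [show (Nat.card M : ℤ) = ct (· ∈ M) from rfl, ct_mem, show finrank F M = 2 * k + 1 by omega,
    pow_succ'] at h8
  exact mul_left_cancel₀ (by have := three_le h2; omega) h8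

variable {s t : OG Q} (hs : s * s = 1) (ht : t * t = 1)

include hs ht

theorem good_count {e : ℕ} (hn : finrank F V = 2 * e + 8) (hK : ∀ x, s.1 x = t.1 x → x = 0) {x : V}
    (hx0 : x ≠ 0) (hx : ∀ μ : F, s.1 x - t.1 x ≠ μ • x) :
    (Fintype.card F - 1) * ((Fintype.card F : ℤ) ^ 2 - 2) * (Fintype.card F : ℤ) ^ 3 *
      ((Fintype.card F : ℤ) ^ e) ^ 2 ≤ ct fun y =>
        y ∈ LinearMap.ker (polarBilin Q (s.1 x - t.1 x)) ∧ polar Q x y ≠ 0 ∧ dq s t y = 0 := by
  have : Finite V := Module.finite_of_finite F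
  have a1 : finrank F (LinearMap.ker (polarBilin (dq s t))) = 0 := Submodule.finrank_eq_zero.2
    (eq_bot_iff.2 fun y hy => hK y (sub_eq_zero.1 (rad_dq hQ h2 hs ht hy)))
  have a2 := finrank_perp hQ (x := s.1 x - t.1 x) (by simpa using hx 0)
  have a3 := finrank_perp hQ hx0
  have a4 := inf_ge (LinearMap.ker (polarBilin Q (s.1 x - t.1 x))) (LinearMap.ker (polarBilin Q x))
  obtain ⟨w, hw, hw'⟩ := exists_perp_polar_eq hQ (W := span F {s.1 x - t.1 x}) (x := x) (fun h => by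
    obtain ⟨c, hc⟩ := mem_span_singleton.1 h
    have hc0 : c ≠ 0 := by rintro rfl; exact hx0 (by simpa using hc.symm)
    exact hx c⁻¹ (by rw [eq_inv_smul_iff₀ hc0, hc])) 1
  have a5 := finrank_lt_finrank_of_lt (s := LinearMap.ker (polarBilin Q (s.1 x - t.1 x)) ⊓
    LinearMap.ker (polarBilin Q x)) (lt_of_le_of_ne inf_le_left fun h => by
      have : polar Q x w = 0 := (h.ge (hw _ (mem_span_singleton_self _))).2
      simp [hw'] at this)
  have a6 := rad_le' (dq s t) (LinearMap.ker (polarBilin Q (s.1 x - t.1 x)))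
  have a7 := rad_le' (dq s t)
    (LinearMap.ker (polarBilin Q (s.1 x - t.1 x)) ⊓ LinearMap.ker (polarBilin Q x))
  have hq := three_le h2
  have b1 := (dev_lo 3 (by omega) (ct_sub h2 (dq s t)
    (U := LinearMap.ker (polarBilin Q (s.1 x - t.1 x))) 3 (m := 2 * e + 7) (by omega) (by omega))).1
  have b2 := (dev_lo 2 (by omega) (ct_sub h2 (dq s t)
    (U := LinearMap.ker (polarBilin Q (s.1 x - t.1 x)) ⊓ LinearMap.ker (polarBilin Q x)) 2
    (m := 2 * e + 6) (by omega) (by omega))).2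
  have b3 := ct_le_add
    (p := fun y => y ∈ LinearMap.ker (polarBilin Q (s.1 x - t.1 x)) ∧ dq s t y = 0)
    (p' := fun y => y ∈ LinearMap.ker (polarBilin Q (s.1 x - t.1 x)) ⊓
      LinearMap.ker (polarBilin Q x) ∧ dq s t y = 0)
    (p'' := fun y => y ∈ LinearMap.ker (polarBilin Q (s.1 x - t.1 x)) ∧ polar Q x y ≠ 0 ∧
      dq s t y = 0) fun y hy => by
      by_cases h : polar Q x y = 0
      · exact Or.inl ⟨⟨hy.1, h⟩, hy.2⟩
      · exact Or.inr ⟨hy.1, h, hy.2⟩
  simp only [pow_add, pow_mul'] at b1 b2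
  set q : ℤ := (Fintype.card F : ℤ)
  refine le_of_mul_le_mul_left (a := q ^ 4) ?_ (by positivity)
  have := mul_le_mul_of_nonneg_left b2 (by omega : 0 ≤ q)
  have := mul_le_mul_of_nonneg_left b3 (by positivity : 0 ≤ q ^ 4)
  linarith

theorem deg_count {k : ℕ} (h1 : finrank F (movSpace s) = 2 * k + 2)
    (h3 : finrank F (movSpace t) = 2 * k + 2) (hK : ∀ x, s.1 x = t.1 x → x = 0) {x : V}
    (hx : dq s t x = 0) (ha : Q (x - t.1 x) ≠ 0) :
    ct (fun y => y ∈ LinearMap.ker (polarBilin Q (s.1 x - t.1 x)) ∧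
      4 * Q (x - s.1 x) * Q (y - s.1 y) = polar Q (x - s.1 x) (y - s.1 y) ^ 2 ∧
      4 * Q (x - t.1 x) * Q (y - t.1 y) = polar Q (x - t.1 x) (y - t.1 y) ^ 2) ≤
      Fintype.card F * ((Fintype.card F : ℤ) ^ (2 * k)) ^ 2 := by
  have : Finite V := Module.finite_of_finite F
  have e : Q (x - s.1 x) = Q (x - t.1 x) := by rw [Q_mov, Q_mov, dq_eq_zero.1 hx]
  have m : ∀ r : OG Q, r * r = 1 → ∀ x, x - r.1 x ∈ movSpace r := fun r hr x => by
    rw [mem_mov h2 hr, map_sub, inv_inv_apply hr, neg_sub]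
  have p : ∀ r : OG Q, r * r = 1 → ∀ y, 4 * Q (x - r.1 x) * Q (y - r.1 y) =
      polar Q (x - r.1 x) (y - r.1 y) ^ 2 →
      (2 * Q (x - r.1 x)) • (y - r.1 y) - polar Q (x - r.1 x) (y - r.1 y) • (x - r.1 x) ∈
        LinearMap.BilinForm.orthogonal (polarBilin Q) (span F {x - r.1 x}) ⊓ movSpace r ∧
      Q ((2 * Q (x - r.1 x)) • (y - r.1 y) - polar Q (x - r.1 x) (y - r.1 y) • (x - r.1 x)) = 0 := by
    intro r hr y hy
    refine ⟨⟨fun z hz => ?_, sub_mem (smul_mem _ _ (m r hr y)) (smul_mem _ _ (m r hr x))⟩, ?_⟩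
    · obtain ⟨c, rfl⟩ := mem_span_singleton.1 hz
      change polar Q _ _ = 0
      rw [polar_smul_left, polar_sub_right, polar_smul_right, polar_smul_right, polar_self']
      simp [mul_comm]
    · rw [Q_sub, Q_smul, Q_smul, polar_smul_left, polar_smul_right, polar_comm Q (y - r.1 y),
        smul_eq_mul, smul_eq_mul]
      linear_combination Q (x - r.1 x) * hy
  obtain ⟨x', hx'⟩ := exists_polar_ne_zero hQ (x := x) (by rintro rfl; simp at ha)
  rw [pow_two, ← mul_assoc]
  nth_rw 1 [← sing_count hQ h2 hs h1 (m s hs x) (by rwa [e])]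
  rw [← sing_count hQ h2 ht h3 (m t ht x) ha, ct, ct, ct, ← Nat.card_eq_fintype_card]
  norm_cast
  rw [← Nat.card_prod, ← Nat.card_prod]
  refine Nat.card_le_card_of_injective
    (fun y => ((polar Q y.1 x', ⟨_, p s hs y.1 y.2.2.1⟩), ⟨_, p t ht y.1 y.2.2.2⟩)) ?_
  rintro ⟨y, y1, y2⟩ ⟨z, z1, z2⟩ h
  simp only [Prod.mk.injEq, Subtype.mk.injEq] at h ⊢
  obtain ⟨⟨k1, k2⟩, k3⟩ := h
  have k4 : polar Q (s.1 x - t.1 x) (y - z) = 0 := sub_mem y1 z1
  rw [← sub_eq_zero, ← polar_sub_left] at k1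
  rw [← sub_eq_zero]
  rw [e] at k2
  obtain ⟨α, k5⟩ : ∃ α : F, s.1 ((2 * Q (x - t.1 x)) • (y - z) - α • x) =
      (2 * Q (x - t.1 x)) • (y - z) - α • x :=
    ⟨polar Q (x - s.1 x) (y - s.1 y) - polar Q (x - s.1 x) (z - s.1 z), by
      rw [map_sub, map_smul, map_smul, map_sub s.1]
      linear_combination (norm := module) -k2⟩
  obtain ⟨β, k6⟩ : ∃ β : F, t.1 ((2 * Q (x - t.1 x)) • (y - z) - β • x) =
      (2 * Q (x - t.1 x)) • (y - z) - β • x :=
    ⟨polar Q (x - t.1 x) (y - t.1 y) - polar Q (x - t.1 x) (z - t.1 z), by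
      rw [map_sub, map_smul, map_smul, map_sub t.1]
      linear_combination (norm := module) -k3⟩
  generalize y - z = w at *
  have k7 := congrArg (polar Q x) k5
  have k8 := congrArg (polar Q x) k6
  simp only [← inv_adj hs x, ← inv_adj ht x, polar_sub_right, polar_sub_left, polar_smul_right,
    smul_eq_mul, polar_self'] at k4 k7 k8
  have k9 : α = β := mul_right_cancel₀ ha (by
    have := dq_eq_zero.1 hx
    rw [polar_comm Q (s.1 x) x] at k7
    rw [polar_comm Q (t.1 x) x] at k8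
    conv_lhs => rw [Q_mov]
    conv_rhs => rw [Q_mov]
    linear_combination k7 - k8 - (2 * Q (x - t.1 x)) * k4 + α * this)
  subst k9
  have k10 := hK _ (k5.trans k6.symm)
  have k11 : α * polar Q x x' = 0 := by
    simpa [polar_sub_left, polar_smul_left, k1] using congrArg (polar Q · x') k10
  rw [(mul_eq_zero.1 k11).resolve_right hx', zero_smul, sub_zero] at k10
  exact (smul_eq_zero.1 k10).resolve_left (mul_ne_zero h2 ha)

theorem comm_K0 {k : ℕ} (h1 : finrank F (movSpace s) = 2 * k + 4)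
    (h3 : finrank F (fixSpace s) = 2 * k + 4) (h4 : finrank F (movSpace t) = 2 * k + 4)
    (h5 : finrank F (fixSpace t) = 2 * k + 4) (hK : ∀ x, s.1 x = t.1 x → x = 0)
    (hst : s * t ∈ commutator (OG Q)) :
    ∃ a ∈ commutator (OG Q), ∃ b ∈ commutator (OG Q), s * t = a * b * a⁻¹ * b⁻¹ := by
  have : Finite V := Module.finite_of_finite F
  obtain ⟨x, x1, x2, x3, x4, x5, x6, x7⟩ := exists_x hQ h2 hs ht h1 h3 h4 h5 hK
  have hn : finrank F V = 2 * (2 * k) + 8 := by have := finrank_fix_add_mov s; omega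
  have g := good_count hQ h2 hs ht hn hK (by rintro rfl; exact x3 (zero_mem _)) x7
  have hK' : ∀ x, t.1 x = s.1 x → x = 0 := fun x h => hK x h.symm
  have z1 := Z_le (W := fixSpace s) (f := polarBilin Q (s.1 x - t.1 x)) x (by
    obtain ⟨w, w1, w2⟩ := not_le hQ hs ht hK (mul_one 1) (x := x) (by simpa [mem_fixSpace] using x5)
    exact ⟨w, mem_fixSpace.2 (by simpa using w1), w2⟩)
  have z2 := Z_le (W := movSpace s) (f := polarBilin Q (s.1 x - t.1 x)) x (by
    obtain ⟨w, w1, w2⟩ := not_le hQ hs ht hK (ε := -1) (by simp) (x := x)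
      (by simpa [mem_mov h2 ht] using x6)
    exact ⟨w, (mem_mov h2 hs).2 (by simpa using w1), w2⟩)
  have z3 := Z_le (W := fixSpace t) (f := polarBilin Q (s.1 x - t.1 x)) x (by
    obtain ⟨w, w1, w2⟩ := not_le hQ ht hs hK' (mul_one 1) (x := x) (by simpa [mem_fixSpace] using x3)
    exact ⟨w, mem_fixSpace.2 (by simpa using w1), by
      rwa [← neg_sub, polar_neg_left, neg_ne_zero] at w2⟩)
  have z4 := Z_le (W := movSpace t) (f := polarBilin Q (s.1 x - t.1 x)) x (by
    obtain ⟨w, w1, w2⟩ := not_le hQ ht hs hK' (ε := -1) (by simp) (x := x)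
      (by simpa [mem_mov h2 hs] using x4)
    exact ⟨w, (mem_mov h2 ht).2 (by simpa using w1), by
      rwa [← neg_sub, polar_neg_left, neg_ne_zero] at w2⟩)
  have hH : ∀ y ∈ LinearMap.ker (polarBilin Q (s.1 x - t.1 x)),
      polar Q x (s.1 y) = polar Q x (t.1 y) := fun y hy => by
    have : polar Q (s.1 x - t.1 x) y = 0 := hy
    rwa [polar_sub_left, sub_eq_zero, inv_adj hs, inv_adj ht] at this
  have hq := three_le h2
  have fin : ∀ y, polar Q x y ≠ 0 → dq s t y = 0 →
      y ∈ LinearMap.ker (polarBilin Q (s.1 x - t.1 x)) →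
      (∀ z ∈ span F {x, y}, s.1 z = z ↔ t.1 z = z) → y ∉ movSpace s ⊔ span F {x} →
      y ∉ movSpace t ⊔ span F {x} → (∀ e : F, e ≠ 0 → ∃ z, Q z = e ∧ (t.1 z = z ∨ t.1 z = -z) ∧
        polar Q z x = 0 ∧ polar Q z y = 0) →
      ∃ a ∈ commutator (OG Q), ∃ b ∈ commutator (OG Q), s * t = a * b * a⁻¹ * b⁻¹ :=
    fun y y1 y2 y3 y4 y5 y6 y7 => comm_of_plane hQ h2 hs ht (by omega) (by rw [h1]; grind) hst x1 y1
      (dq_eq_zero.1 x2) (dq_eq_zero.1 y2) (hH y y3) y4 (fun z hz => by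
        rw [← mem_mov h2 hs, ← mem_mov h2 ht, plane_inf x4 y5 hz, plane_inf x6 y6 hz]) y7
  have hB : 1 ≤ (Fintype.card F : ℤ) ^ (2 * k) := one_le_pow₀ (by omega)
  by_contra hcon
  by_cases ha : Q (x - t.1 x) = 0
  · have b := (ct_le_add (p := fun y => y ∈ LinearMap.ker (polarBilin Q (s.1 x - t.1 x)) ∧
        polar Q x y ≠ 0 ∧ dq s t y = 0)
      (p' := fun y => y ∈ (fixSpace s ⊔ span F {x}) ⊓ LinearMap.ker (polarBilin Q (s.1 x - t.1 x)) ∨
        y ∈ (movSpace s ⊔ span F {x}) ⊓ LinearMap.ker (polarBilin Q (s.1 x - t.1 x)))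
      (p'' := fun y => y ∈ (fixSpace t ⊔ span F {x}) ⊓ LinearMap.ker (polarBilin Q (s.1 x - t.1 x)) ∨
        y ∈ (movSpace t ⊔ span F {x}) ⊓ LinearMap.ker (polarBilin Q (s.1 x - t.1 x)))
      fun y hy => by
        by_contra h
        simp only [mem_inf, hy.1, and_true, not_or] at h
        refine hcon (fin y hy.2.1 hy.2.2 hy.1 (fun z hz => by
          rw [← mem_fixSpace, ← mem_fixSpace, plane_inf x3 h.1.1 hz, plane_inf x5 h.2.1 hz])
          h.1.2 h.2.2 fun e he => ?_)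
        by_cases hp : polar Q x y = polar Q x (t.1 y)
        · have htt : negOG Q * t * (negOG Q * t) = 1 := by rw [neg_mul_neg', ht]
          obtain ⟨z, k1, k2, k3⟩ := refl_of_det hQ h2 htt (by rw [mov_neg h2 ht]; omega)
            (x := x) (y := y) (by
              rw [Q_mov, x1, mul_zero, zero_sub] at ha
              rw [polar_mov_mov htt, Q_mov, OG.mul_apply, OG.mul_apply, negOG_apply, negOG_apply,
                polar_neg_right, polar_neg_right, ha, ← hp, x1]
              have := mul_ne_zero (mul_ne_zero h2 h2) hy.2.1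
              intro h
              exact this (pow_eq_zero_iff two_ne_zero |>.1 (by linear_combination -h))) he
          rw [OG.mul_apply, negOG_apply, neg_inj] at k2
          exact ⟨z, k1, Or.inl k2, k3⟩
        · obtain ⟨z, k1, k2, k3⟩ := refl_of_det hQ h2 ht (by omega) (x := x) (y := y) (by
            rw [polar_mov_mov ht, ha, ← mul_sub, mul_zero, zero_mul]
            exact (pow_ne_zero _ (mul_ne_zero h2 (sub_ne_zero.2 hp))).symm) he
          exact ⟨z, k1, Or.inr k2, k3⟩).trans (add_le_add ((ct_or _ _).trans (add_le_add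
            (ct_mem_le (z1.trans h3.le)) (ct_mem_le (z2.trans h1.le)))) ((ct_or _ _).trans
            (add_le_add (ct_mem_le (z3.trans h5.le)) (ct_mem_le (z4.trans h4.le)))))
    have c := g.trans b
    rw [pow_add] at c
    generalize (Fintype.card F : ℤ) ^ (2 * k) = B at *
    obtain ⟨u, hu⟩ : ∃ u : ℤ, Fintype.card F = 3 + u := ⟨_, (add_sub_cancel _ _).symm⟩
    obtain ⟨w, hw⟩ : ∃ w, B = 1 + w := ⟨B - 1, by ring⟩
    have hu0 : 0 ≤ u := by omega
    have hw0 : 0 ≤ w := by omega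
    rw [hu, hw, ← sub_nonpos, ← not_lt] at c
    apply c
    ring_nf
    positivity
  · have b := (ct_le_add (p := fun y => y ∈ LinearMap.ker (polarBilin Q (s.1 x - t.1 x)) ∧
        polar Q x y ≠ 0 ∧ dq s t y = 0)
      (p' := fun y => y ∈ LinearMap.ker (polarBilin Q (s.1 x - t.1 x)) ∧
        4 * Q (x - s.1 x) * Q (y - s.1 y) = polar Q (x - s.1 x) (y - s.1 y) ^ 2 ∧
        4 * Q (x - t.1 x) * Q (y - t.1 y) = polar Q (x - t.1 x) (y - t.1 y) ^ 2)
      (p'' := fun y => (y ∈ (movSpace s ⊔ span F {x}) ⊓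
        LinearMap.ker (polarBilin Q (s.1 x - t.1 x)) ∧ polarBilin Q x y ≠ 0) ∨
        (y ∈ (movSpace t ⊔ span F {x}) ⊓ LinearMap.ker (polarBilin Q (s.1 x - t.1 x)) ∧
          polarBilin Q x y ≠ 0))
      fun y hy => by
        by_contra h
        have e : 4 * Q (x - s.1 x) * Q (y - s.1 y) = polar Q (x - s.1 x) (y - s.1 y) ^ 2 ↔
            4 * Q (x - t.1 x) * Q (y - t.1 y) = polar Q (x - t.1 x) (y - t.1 y) ^ 2 := by
          rw [polar_mov_mov hs, polar_mov_mov ht, Q_mov s, Q_mov s, Q_mov t, Q_mov t,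
            dq_eq_zero.1 x2, dq_eq_zero.1 hy.2.2, hH y hy.1]
        simp only [mem_inf, hy.1, and_true, not_or, polarBilin_apply_apply, hy.2.1, ne_eq,
          not_false_eq_true, e, and_self, true_and] at h
        refine hcon (fin y hy.2.1 hy.2.2 hy.1 (fun z hz => by
          rw [fix_of_det (e.not.2 h.1) hz, fix_of_det h.1 hz]) h.2.1 h.2.2 fun e he => ?_)
        obtain ⟨z, k1, k2, k3⟩ := refl_of_det hQ h2 ht (by omega) h.1 he
        exact ⟨z, k1, Or.inr k2, k3⟩).trans (add_le_add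
          (deg_count hQ h2 hs ht (k := k + 1) (by omega) (by omega) hK x2 ha) ((ct_or _ _).trans
          (add_le_add (ct_diff (k := 2 * k + 3) (by omega) _)
            (ct_diff (k := 2 * k + 3) (by omega) _))))
    have c := g.trans b
    rw [mul_add, pow_add, pow_add] at c
    generalize (Fintype.card F : ℤ) ^ (2 * k) = B at *
    obtain ⟨u, hu⟩ : ∃ u : ℤ, Fintype.card F = 3 + u := ⟨_, (add_sub_cancel _ _).symm⟩
    obtain ⟨w, hw⟩ : ∃ w, B = 1 + w := ⟨B - 1, by ring⟩
    have hu0 : 0 ≤ u := by omega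
    have hw0 : 0 ≤ w := by omega
    rw [hu, hw, ← sub_nonpos, ← not_lt] at c
    apply c
    ring_nf
    positivity

theorem comm_K {m : ℕ} (hn : finrank F V = m + 4) (hm : 4 ≤ m)
    (hd : finrank F (movSpace s) = finrank F (movSpace t)) (ho : Even (finrank F (movSpace s)))
    (h1 : 4 ≤ finrank F (movSpace s)) (h3 : 4 ≤ finrank F (fixSpace s))
    (hK : ∀ x, s.1 x = t.1 x → Q x = 0) (hst : s * t ∈ commutator (OG Q)) {x : V} (hx : x ≠ 0)
    (x1 : s.1 x = x) (x2 : t.1 x = x) :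
    ∃ a ∈ commutator (OG Q), ∃ b ∈ commutator (OG Q), s * t = a * b * a⁻¹ * b⁻¹ := by
  have a1 := finrank_fix_add_mov s
  have a2 := finrank_fix_add_mov t
  obtain ⟨y, y1, y2, y3, y4⟩ := exists_y1 hQ h2 hs ht hn hm hK (by omega) (by omega) hx
  have x0 := hK x (x1.trans x2.symm)
  have k1 : ∀ r : OG Q, r.1 x = x → y ∉ fixSpace r → ∀ α β : F,
      r.1 (α • x + β • y) = α • x + β • y ↔ β = 0 := fun r h h' α β => by
    rw [map_add, map_smul, map_smul, h, add_right_inj]
    exact ⟨fun e => by_contra fun hβ => h' (mem_fixSpace.2 (smul_right_injective V hβ e)),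
      fun e => by simp [e]⟩
  have k2 : ∀ r : OG Q, r * r = 1 → r.1 x = x → ∀ z ∈ span F {x, y}, r.1 z = -z ↔ z = 0 := by
    intro r hr h z hz
    refine ⟨fun e => ?_, fun e => by simp [e]⟩
    obtain ⟨α, β, rfl⟩ := mem_span_pair.1 hz
    have := congrArg (polar Q x) e
    rw [← inv_adj hr, h, polar_neg_right, polar_add_right, polar_smul_right, polar_smul_right,
      polar_self', x0, smul_eq_mul, smul_eq_mul] at this
    have hβ : β = 0 := mul_right_cancel₀ (mul_ne_zero h2 y1) (by linear_combination this)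
    rw [hβ, zero_smul, add_zero] at e ⊢
    rw [map_smul, h] at e
    exact eq_zero_of_eq_neg h2 e
  refine comm_of_plane hQ h2 hs ht hd ho hst x0 y1 (by rw [x1, x2]) (dq_eq_zero.1 y2)
    (by rw [← inv_adj hs, ← inv_adj ht, x1, x2]) (fun z hz => ?_)
    (fun z hz => by rw [k2 s hs x1 z hz, k2 t ht x2 z hz]) fun e he => ?_
  · obtain ⟨α, β, rfl⟩ := mem_span_pair.1 hz
    rw [k1 s x1 y3, k1 t x2 y4]
  · have htt : negOG Q * t * (negOG Q * t) = 1 := by rw [neg_mul_neg', ht]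
    obtain ⟨z, k1, k2, k3⟩ := refl_of_det hQ h2 htt (by rw [mov_neg h2 ht]; omega)
      (x := x) (y := y) (by
        rw [polar_mov_mov htt, Q_mov, OG.mul_apply, OG.mul_apply, negOG_apply, negOG_apply,
          polar_neg_right, polar_neg_right, ← inv_adj ht x y, x2, polar_self', x0]
        have := mul_ne_zero (mul_ne_zero h2 h2) y1
        intro h
        exact this (pow_eq_zero_iff two_ne_zero |>.1 (by linear_combination -h))) he
    rw [OG.mul_apply, negOG_apply, neg_inj] at k2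
    exact ⟨z, k1, Or.inl k2, k3⟩

theorem comm_odd (hn : 8 ≤ finrank F V) (hn' : Even (finrank F V))
    (hd : finrank F (movSpace s) = finrank F (movSpace t)) (ho : Odd (finrank F (movSpace s)))
    (hst : s * t ∈ commutator (OG Q)) :
    ∃ a ∈ commutator (OG Q), ∃ b ∈ commutator (OG Q), s * t = a * b * a⁻¹ * b⁻¹ := by
  have h24 : Nat.card F ≠ 2 ∨ finrank F V ≠ 4 := Or.inl (card_ne_two_of_two_ne_zero h2)
  have he := (dickson_eq_one_iff hQ h24 _).1 ((mem_commutator_iff hQ h24 _).1 hst).1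
  obtain ⟨c, hc, hc'⟩ : ∃ c : F, c ≠ 0 ∧ ∀ x, Q x = c →
      spinor hQ h24 (refl Q x) = spinor hQ h24 s := by
    rcases Int.units_eq_one_or (spinor hQ h24 s) with h | h
    · exact ⟨1, one_ne_zero, fun x hx => by
        rw [h, spinor_refl_eq_one_iff hQ h24 (by rw [hx]; exact one_ne_zero), hx]
        exact IsSquare.one⟩
    · obtain ⟨ν, hν⟩ := exists_not_isSquare h2
      exact ⟨ν, by rintro rfl; exact hν IsSquare.zero, fun x hx => by
        rw [h, spinor_refl_eq_neg_one hQ h24 (by rwa [hx])]⟩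
  have hK : ∀ x, x ∈ fixSpace (s * t) ↔ s.1 x = t.1 x := fun x => by
    rw [mem_fixSpace, OG.mul_apply]
    exact ⟨fun h => by conv_lhs => rw [← h, inv_inv_apply hs], fun h => by
      rw [← h, inv_inv_apply hs]⟩
  have a0 := finrank_fix_add_mov (s * t)
  have a1 := finrank_fix_add_mov s
  have a2 := finrank_fix_add_mov t
  have ho' := Nat.odd_iff.1 ho
  rw [Nat.even_iff] at he hn'
  by_cases hA : finrank F (movSpace (s * t)) ≤ 2
  · obtain ⟨x, hx, hx'⟩ := univ hQ h2 (U := fixSpace (s * t)) (nd_top hQ) le_top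
      (by rw [finrank_top]; omega) hc
    rw [hK] at hx
    exact comm_of_vec hQ h2 h24 (by omega) hs ht hd ho hst (by rwa [hx']) (hc' x hx') (by rw [hx])
      (by rw [hx]) (by rw [hx])
  have a3 := Submodule.finrank_mono (show fixSpace s ⊓ fixSpace t ≤ fixSpace (s * t) from
    fun x hx => by rw [hK, mem_fixSpace.1 hx.1, mem_fixSpace.1 hx.2])
  have a4 := Submodule.finrank_mono (show movSpace s ⊓ movSpace t ≤ fixSpace (s * t) from
    fun x hx => by rw [hK, (mem_mov h2 hs).1 hx.1, (mem_mov h2 ht).1 hx.2])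
  have a5 := inf_ge (fixSpace s) (fixSpace t)
  have a6 := inf_ge (movSpace s) (movSpace t)
  obtain ⟨x, b1, b2, b3, b4, b5, b6⟩ : ∃ x, Q x = c ∧ polar Q x (s.1 x) = polar Q x (t.1 x) ∧
      x ∉ fixSpace s ∧ x ∉ movSpace s ∧ x ∉ fixSpace t ∧ x ∉ movSpace t := by
    by_cases hB : 4 ≤ finrank F (fixSpace s)
    · exact exists_generic hQ h2 hs ht hd (by omega) hB (by omega) hc
    · obtain ⟨x, b1, b2, b3, b4, b5, b6⟩ := exists_generic hQ h2 (s := negOG Q * s)
        (t := negOG Q * t) (by rw [neg_mul_neg', hs]) (by rw [neg_mul_neg', ht])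
        (by rw [mov_neg h2 hs, mov_neg h2 ht]; omega) (by rw [mov_neg h2 hs]; omega)
        (by rw [fix_neg h2 hs]; omega) (by rw [neg_mul_neg']; omega) hc
      rw [fix_neg h2 hs] at b3
      rw [mov_neg h2 hs] at b4
      rw [fix_neg h2 ht] at b5
      rw [mov_neg h2 ht] at b6
      rw [OG.mul_apply, OG.mul_apply, negOG_apply, negOG_apply, polar_neg_right, polar_neg_right,
        neg_inj] at b2
      exact ⟨x, b1, b2, b4, b3, b6, b5⟩
  rw [mem_fixSpace] at b3 b5
  rw [mem_mov h2 hs] at b4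
  rw [mem_mov h2 ht] at b6
  exact comm_of_vec hQ h2 h24 (by omega) hs ht hd ho hst (by rwa [b1]) (hc' x b1) b2
    (iff_of_false b3 b5) (iff_of_false b4 b6)

theorem comm_aniso (hn : 8 ≤ finrank F V) (hn' : Even (finrank F V))
    (hd : finrank F (movSpace s) = finrank F (movSpace t)) (ho : Even (finrank F (movSpace s)))
    (hst : s * t ∈ commutator (OG Q)) {x : V} (hx : Q x ≠ 0) (x1 : x ∈ movSpace s)
    (x2 : x ∈ movSpace t) :
    ∃ a ∈ commutator (OG Q), ∃ b ∈ commutator (OG Q), s * t = a * b * a⁻¹ * b⁻¹ := by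
  have e : ∀ r : OG Q, r * r = 1 → x ∈ movSpace r → r * refl Q x = refl Q x * r ∧
      refl Q x * r * (refl Q x * r) = 1 := fun r hr h => by
    have e1 : r * refl Q x = refl Q x * r := by
      rw [mul_inv_eq_iff_eq_mul.1 (conj_refl r x), (mem_mov h2 hr).1 h, refl_neg]
    exact ⟨e1, by rw [mul_assoc, ← mul_assoc r, e1, mul_assoc, hr, mul_one, refl_mul_self]⟩
  have e1 := finrank_movSpace_refl_mul_of_mem hx x1
  have e2 := finrank_movSpace_refl_mul_of_mem hx x2
  have e3 : refl Q x * s * (refl Q x * t) = s * t := by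
    rw [← (e s hs x1).1, mul_assoc, ← mul_assoc (refl Q x), refl_mul_self, one_mul]
  rw [← e3] at hst ⊢
  exact comm_odd hQ h2 (e s hs x1).2 (e t ht x2).2 hn hn' (by omega) (by
    rw [Nat.even_iff] at ho; rw [Nat.odd_iff]; omega) hst

omit hs ht in
/-- Ore's property for `Ω(V)` in even dimension, odd characteristic -/
theorem comm_omega_even (hn : 8 ≤ finrank F V) (hn' : Even (finrank F V)) {g : OG Q}
    (hg : g ∈ commutator (OG Q)) :
    ∃ a ∈ commutator (OG Q), ∃ b ∈ commutator (OG Q), g = a * b * a⁻¹ * b⁻¹ := by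
  have h24 : Nat.card F ≠ 2 ∨ finrank F V ≠ 4 := Or.inl (card_ne_two_of_two_ne_zero h2)
  have he := (dickson_eq_one_iff hQ h24 g).1 ((mem_commutator_iff hQ h24 g).1 hg).1
  obtain ⟨s, t, hs, ht, rfl, hd⟩ := exists_invol hQ h2 g he
  rcases Nat.even_or_odd (finrank F (movSpace s)) with ho | ho
  swap
  · exact comm_odd hQ h2 hs ht hn hn' hd ho hg
  have a1 := finrank_fix_add_mov s
  have a2 := finrank_fix_add_mov t
  have hs' : negOG Q * s * (negOG Q * s) = 1 := by rw [neg_mul_neg', hs]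
  have ht' : negOG Q * t * (negOG Q * t) = 1 := by rw [neg_mul_neg', ht]
  have hd' : finrank F (movSpace (negOG Q * s)) = finrank F (movSpace (negOG Q * t)) := by
    rw [mov_neg h2 hs, mov_neg h2 ht]; omega
  have ho' : Even (finrank F (movSpace (negOG Q * s))) := by
    rw [mov_neg h2 hs]; rw [Nat.even_iff] at *; omega
  have dec : ∀ x, s.1 x = t.1 x → ∃ a b, a ∈ movSpace s ⊓ movSpace t ∧
      b ∈ fixSpace s ⊓ fixSpace t ∧ x = a + b := fun x hx =>
    ⟨(2 : F)⁻¹ • (x - s.1 x), (2 : F)⁻¹ • (x + s.1 x), smul_mem _ _ (mem_inf.2 ⟨by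
      rw [mem_mov h2 hs, map_sub, inv_inv_apply hs, neg_sub], by
      rw [mem_mov h2 ht, hx, map_sub, inv_inv_apply ht, neg_sub]⟩), smul_mem _ _ (mem_inf.2 ⟨by
      rw [mem_fixSpace, map_add, inv_inv_apply hs, add_comm], by
      rw [mem_fixSpace, hx, map_add, inv_inv_apply ht, add_comm]⟩), by
      rw [← smul_add, sub_add_add_cancel, ← two_smul F, smul_smul, inv_mul_cancel₀ h2, one_smul]⟩
  by_cases h1 : ∃ x ∈ movSpace s ⊓ movSpace t, Q x ≠ 0
  · obtain ⟨x, hx, hx'⟩ := h1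
    exact comm_aniso hQ h2 hs ht hn hn' hd ho hg hx' hx.1 hx.2
  by_cases h3 : ∃ x ∈ fixSpace s ⊓ fixSpace t, Q x ≠ 0
  · obtain ⟨x, hx, hx'⟩ := h3
    rw [← neg_mul_neg'] at hg ⊢
    exact comm_aniso hQ h2 hs' ht' hn hn' hd' ho' hg hx' (by rw [mov_neg h2 hs]; exact hx.1)
      (by rw [mov_neg h2 ht]; exact hx.2)
  push Not at h1 h3
  have a3 := ts_le hQ (nd_mov hQ h2 hs) inf_le_left h1
  have a4 := ts_le hQ (nd_fix hQ h2 hs) inf_le_left h3
  have a5 := inf_ge (fixSpace s) (fixSpace t)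
  have a6 := inf_ge (movSpace s) (movSpace t)
  have hK : ∀ x, s.1 x = t.1 x → Q x = 0 := fun x hx => by
    obtain ⟨a, b, ha, hb, rfl⟩ := dec x hx
    rw [Q_add, h1 a ha, h3 b hb, polar_mov_fix' hQ ha.1 (mem_fixSpace.1 hb.1)]; simp
  obtain ⟨m, hm⟩ : ∃ m, finrank F V = m + 4 := ⟨_, (Nat.sub_add_cancel (by omega)).symm⟩
  have ho1 := Nat.even_iff.1 ho
  have hn1 := Nat.even_iff.1 hn'
  by_cases h4 : fixSpace s ⊓ fixSpace t = ⊥
  swap
  · obtain ⟨x, hx, hx0⟩ := Submodule.exists_mem_ne_zero_of_ne_bot h4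
    exact comm_K hQ h2 hs ht hm (by omega) hd ho (by omega) (by omega) hK hg hx0
      (mem_fixSpace.1 hx.1) (mem_fixSpace.1 hx.2)
  by_cases h5 : movSpace s ⊓ movSpace t = ⊥
  swap
  · obtain ⟨x, hx, hx0⟩ := Submodule.exists_mem_ne_zero_of_ne_bot h5
    rw [← neg_mul_neg'] at hg ⊢
    exact comm_K hQ h2 hs' ht' hm (by omega) hd' ho' (by rw [mov_neg h2 hs]; omega)
      (by rw [fix_neg h2 hs]; omega) (fun x hx => hK x (by
        rwa [OG.mul_apply, OG.mul_apply, negOG_apply, negOG_apply, neg_inj] at hx)) hg hx0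
      (by rw [← mem_fixSpace, fix_neg h2 hs]; exact hx.1)
      (by rw [← mem_fixSpace, fix_neg h2 ht]; exact hx.2)
  rw [h4, finrank_bot] at a5
  rw [h5, finrank_bot] at a6
  obtain ⟨k, hk⟩ : ∃ k, finrank F (movSpace s) = 2 * k + 4 :=
    ⟨finrank F (movSpace s) / 2 - 2, by omega⟩
  refine comm_K0 hQ h2 hs ht hk (by omega) (by omega) (by omega) (fun x hx => ?_) hg
  obtain ⟨a, b, ha, hb, rfl⟩ := dec x hx
  rw [h5, mem_bot] at ha
  rw [h4, mem_bot] at hb
  rw [ha, hb, add_zero]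

end CfsgLib.OmOre
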