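import Mathlib
import Cfsg.Agent.Lib.OmOre.C2d
import Cfsg.Agent.Lib.OmOre.Even2

/-!
Every element of `Ω(V)` is a commutator when `dim V ≥ 8` is even.
-/

set_option autoImplicit false

namespace CfsgLib.OmOre

open Module Submodule QuadraticMap Polynomial CfsgLib.SpOre CfsgLib.Orth CfsgLib.Inv2

variable {F : Type*} [Field F] {V : Type*} [AddCommGroup V] [Module F V] {Q : QuadraticForm F V}
  {g : OG Q} {M M₁ : Submodule F V} {v w : V}

theorem cv_unit {ν u : F[X]} (hν : Irreducible ν) {j : ℕ} (h0 : aeval (tau g.1) (ν ^ (j + 1)) v = 0)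
    (hu : ¬ ν ∣ u) : (∀ p, cv g v p ≠ 0 → ∃ r, cv g v (p * r * u) ≠ 0) ∧
      (P2 g v → ∃ p, cv g v (X * (p * u) ^ 2) ≠ 0) := by
  obtain ⟨a, b, hab⟩ := (hν.coprime_iff_not_dvd.2 hu).pow_left (m := j + 1)
  refine ⟨fun p hp => ⟨b, ?_⟩, fun ⟨p, hp⟩ => ⟨p * b, ?_⟩⟩
  · rwa [show p * b * u = p + (-p * a) * ν ^ (j + 1) by linear_combination p * hab, cv_addp,
      cv_zero h0, add_zero]
  · rwa [show X * (p * b * u) ^ 2 = X * p ^ 2 + (-X * p ^ 2 * a * (b * u + 1)) * ν ^ (j + 1) by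
      linear_combination X * p ^ 2 * (b * u + 1) * hab, cv_addp, cv_zero h0, add_zero]

section two

variable [CharP F 2] [FiniteDimensional F V] (hQ : (polarBilin Q).Nondegenerate)

include hQ

theorem v_piece (hM : Inv (polarBilin Q) g.1 M₁) {j : ℕ} (hv : v ∈ M₁)
    (h0 : aeval (tau g.1) (X ^ (j + 1) : F[X]) v = 0) (h : cv g v (X ^ j) ≠ 0) :
    ∃ M ≤ M₁, M ≠ ⊥ ∧ Inv (polarBilin Q) g.1 M ∧ v ∈ M ∧
      (∀ x ∈ M, aeval (tau g.1) (X ^ (j + 1) : F[X]) x = 0) ∧ FF g M 1 (P1 g v) (P2 g v) := by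
  obtain ⟨M, m1, m2, m3, -, m5, m6, s, t, h1, h2, h3, h4⟩ :=
    cyc_piece hQ hM irreducible_X hv h0 (r := 1) (by rwa [mul_one])
  refine ⟨M, m1, m2, m3, m6, m5, s, t, h1, ?_, h1.flags hQ m3.inv m6 h2⟩
  have nv : nn g v ∈ M := add_mem (m3.inv v m6) m6
  have := Submodule.one_le_finrank_iff.2 ((Submodule.ne_bot_iff (movSpace s ⊓ fixSpace t)).2
    ⟨aeval (tau g.1) (X ^ j : F[X]) (nn g v), ⟨mem_movSpace.2 ⟨aeval (tau g.1) (X ^ j : F[X]) v, by
      rw [h1.s_eq hQ (amem m3 _ m6), h1.t_aeval hQ m3.inv _ m6, h2, sub_eq_add' F, ← nn_apply,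
        nn_aeval]⟩, mem_fixSpace.2 (by
      rw [pow_succ, aeval_mul_apply, aeval_X, tau_apply, map_add, ← sub_eq_add' F,
        sub_eq_zero] at h0
      rw [h1.t_aeval hQ m3.inv _ nv, nn_apply, map_add t.1, h1.t_g hQ m6, h2, map_add, map_add,
        h0])⟩, fun h' => h (by
      have := congrArg (polar Q · v) h'
      simpa only [nn_apply, map_add, polar_add_left, palt hQ, add_zero, polar_zero_left, cv]
        using this)⟩)
  omega

variable [Finite F]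

theorem n_piece (hM : Inv (polarBilin Q) g.1 M₁) {ν : F[X]} (hν : Irreducible ν) (hX : ¬ ν ∣ X)
    {j : ℕ} (h0 : ∀ x ∈ M₁, aeval (tau g.1) (ν ^ (j + 1)) x = 0) (hv : v ∈ M₁) {r : F[X]}
    (hr : cv g v (ν ^ j * r) ≠ 0) : ∃ M ≤ M₁, M ≠ ⊥ ∧ Inv (polarBilin Q) g.1 M ∧ Zp g M := by
  have pc : ∀ v ∈ M₁, (∃ r, cv g v (ν ^ j * r) ≠ 0) → ∃ M ≤ M₁, M ≠ ⊥ ∧ Inv (polarBilin Q) g.1 M ∧
      finrank F M ≤ 2 * ((j + 1) * ν.natDegree) ∧ FF g M 0 (P1 g v) (P2 g v) := by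
    rintro v hv ⟨r, hr⟩
    obtain ⟨M, m1, m2, m3, m4, m5, m6, s, t, h1, h2, h3, h4⟩ := cyc_piece hQ hM hν hv (h0 v hv) hr
    refine ⟨M, m1, m2, m3, m4, s, t, h1, ?_, h1.flags hQ m3.inv m6 h2⟩
    rw [h3, show movSpace s ⊓ fixSpace t = ⊥ from eq_bot_iff.2 fun x hx => ?_]
    · simp
    obtain ⟨x1, x2, -⟩ := h1.mem_a hQ hx
    obtain ⟨a, b, hab⟩ := (hν.coprime_iff_not_dvd.2 hX).pow_left (m := j + 1)
    have := congrArg (aeval (tau g.1) · x) hab
    simp only [map_add, LinearMap.add_apply, aeval_mul_apply, m5 x x1, aeval_X, map_one,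
      End.one_apply, tau_apply, x2, (LinearEquiv.symm_apply_eq _).2 x2.symm, add_self' F,
      map_zero] at this
    exact this.symm
  have key : ∀ v ∈ M₁, (∃ r, cv g v (ν ^ j * r) ≠ 0) → ¬ P1 g v →
      ∃ M ≤ M₁, M ≠ ⊥ ∧ Inv (polarBilin Q) g.1 M ∧ Zp g M := by
    rintro v hv ⟨r, hr⟩ h1
    have h2 := (flag_one hr).resolve_left h1
    simp only [P1, not_exists, not_not] at h1
    have good : ∀ u : F[X], (∃ p, cv g v (X * (p * u) ^ 2) ≠ 0) → ¬ ν ∣ 1 + u →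
        ¬ ν ∣ (1 + u) ^ 4 + X * u ^ 2 → ∃ M ≤ M₁, M ≠ ⊥ ∧ Inv (polarBilin Q) g.1 M ∧ Zp g M := by
      rintro u ⟨p, u1⟩ u2 u3
      have t : (2 : F[X]) = 0 := CharTwo.two_eq_zero
      have e : ∀ p, cv g (v + aeval (tau g.1) (u ^ 2) (g.1 v)) p =
          cv g v (p * ((1 + u) ^ 4 + X * u ^ 2)) := fun p => by
        rw [cv_add, cv_aeval, cv_g, ← padj, ← aeval_mul_apply, padj, polar_comm, ← cv, ← cv_addp,
          ← cv_addp]
        congr 1
        linear_combination (-p * (2 * u + 3 * u ^ 2 + 2 * u ^ 3)) * t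
      obtain ⟨r', hr'⟩ := (cv_unit hν (h0 v hv) u3).1 _ hr
      obtain ⟨M, m1, m2, m3, -, m5⟩ := pc _ (add_mem hv (amem hM (u ^ 2) (hM.inv v hv)))
        ⟨r * r', by rwa [e, ← mul_assoc]⟩
      obtain ⟨p', hp'⟩ := (cv_unit hν (h0 v hv) fun h => u2 (hν.prime.dvd_of_dvd_pow (n := 2) h)).2 h2
      exact ⟨M, m1, m2, m3, Or.inl (m5.mono rfl (fun _ => ⟨p, by
        rwa [e, show p ^ 2 * ((1 + u) ^ 4 + X * u ^ 2) = (p * (1 + u) ^ 2) ^ 2 + X * (p * u) ^ 2 by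
          ring, cv_addp, h1, zero_add]⟩) fun _ => ⟨p', by
        rwa [e, show X * p' ^ 2 * ((1 + u) ^ 4 + X * u ^ 2) =
          (X * p' * u) ^ 2 + X * (p' * (1 + u) ^ 2) ^ 2 by ring, cv_addp, h1, zero_add]⟩)⟩
    by_cases hc : ∃ p, cv g v (X * (p * ν) ^ 2) ≠ 0
    · refine good ν hc (fun h => hν.not_dvd_one ((dvd_add_left dvd_rfl).1 h)) fun h => ?_
      exact hν.not_dvd_one ((dvd_add_left dvd_rfl).1 (hν.prime.dvd_of_dvd_pow
        ((dvd_add_left ((dvd_pow_self ν two_ne_zero).mul_left X)).1 h)))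
    by_cases hd : 2 ≤ ν.natDegree
    · have t : (2 : F[X]) = 0 := CharTwo.two_eq_zero
      have hX' : ¬ ν ∣ 1 + X := fun h => by
        have := natDegree_le_of_dvd h (by rw [add_comm, ← C_1]; exact X_add_C_ne_zero 1)
        rw [add_comm, ← C_1, natDegree_X_add_C] at this
        omega
      by_cases h : ν ∣ (1 + X) ^ 4 + X * X ^ 2
      · refine good (1 + X) ((cv_unit hν (h0 v hv) hX').2 h2)
          (by rwa [← add_assoc, CharTwo.add_self_eq_zero, zero_add]) fun h' => ?_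
        have : ν ∣ X ^ 3 * (1 + X) ^ 2 := by
          convert dvd_add (h.mul_left X) h' using 1
          linear_combination -(8 + 17 * X + 15 * X ^ 2 + 7 * X ^ 3 + 2 * X ^ 4) * t
        exact (hν.prime.dvd_or_dvd this).elim (fun h => hX (hν.prime.dvd_of_dvd_pow h))
          fun h => hX' (hν.prime.dvd_of_dvd_pow h)
      · exact good X ((cv_unit hν (h0 v hv) hX).2 h2) hX' h
    · obtain ⟨M, m1, m2, m3, m4, m5⟩ := pc v hv ⟨r, hr⟩
      refine ⟨M, m1, m2, m3, zp_of m5 (Or.inr h2) fun h => ?_⟩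
      obtain ⟨k, rfl⟩ : ∃ k, j = k + 2 := ⟨j - 2, by
        have := Nat.mul_le_mul_left (j + 1) (show ν.natDegree ≤ 1 by omega)
        omega⟩
      obtain ⟨a, b, hab⟩ := sq_decomp (ν ^ k * r)
      push Not at hc
      exact absurd (by rw [show ν ^ (k + 2) * r = (a * ν) ^ 2 + X * (b * ν) ^ 2 by
        linear_combination ν ^ 2 * hab, cv_addp, h1, hc, add_zero]) hr
  by_cases h1 : P1 g v
  · by_cases h2 : P2 g v
    · obtain ⟨M, m1, m2, m3, -, m5⟩ := pc v hv ⟨r, hr⟩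
      exact ⟨M, m1, m2, m3, Or.inl (m5.mono rfl (fun _ => h1) fun _ => h2)⟩
    · obtain ⟨r', hr'⟩ := (cv_unit hν (h0 v hv) hX).1 _ hr
      exact key (nn g v) (add_mem (hM.inv v hv) hv) ⟨r * r', by rwa [cv_nn hQ, ← mul_assoc]⟩
        fun ⟨p, hp⟩ => h2 ⟨p, by rwa [cv_nn hQ, mul_comm] at hp⟩
  · exact key v hv ⟨r, hr⟩ h1

theorem exists_piece2 {M₀ : Submodule F V} (hM : Inv (polarBilin Q) g.1 M₀) (hne : M₀ ≠ ⊥) :
    ∃ M ≤ M₀, M ≠ ⊥ ∧ Inv (polarBilin Q) g.1 M ∧ (Zp g M ∨ Vp g M) := by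
  obtain ⟨M₁, hle, hM₁, ν, j, hν, h0, x, hx, hx'⟩ := exists_primary (isom_of g) hM hne
  suffices ∃ M ≤ M₁, M ≠ ⊥ ∧ Inv (polarBilin Q) g.1 M ∧ (Zp g M ∨ Vp g M) from
    this.imp fun M h => ⟨h.1.trans hle, h.2⟩
  by_cases hX : ν ∣ X
  · have ha := hν.associated_of_dvd irreducible_X hX
    have h0' : ∀ x ∈ M₁, aeval (tau g.1) (X ^ (j + 1) : F[X]) x = 0 := fun x hx =>
      aeval_of_dvd (h0 x hx) (pow_dvd_pow_of_dvd hX _)
    have h1 : aeval (tau g.1) (X ^ j : F[X]) x ≠ 0 := fun h =>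
      hx' (aeval_of_dvd h (pow_dvd_pow_of_dvd ha.symm.dvd _))
    by_cases hc : ∃ v ∈ M₁, cv g v (X ^ j) ≠ 0
    · obtain ⟨v, hv, hv'⟩ := hc
      obtain ⟨M, m1, m2, m3, m4, m5, m6⟩ := v_piece hQ hM₁ hv (h0' v hv) hv'
      exact ⟨M, m1, m2, m3, Or.inr ⟨v, m4, j, m5, hv', m6⟩⟩
    push Not at hc
    by_cases he : ∃ v ∈ M₁, aeval (tau g.1) (X ^ j : F[X]) (nn g v) ≠ 0
    · obtain ⟨v, hv, hv'⟩ := he
      exact (even_piece hQ hM₁ h0' hc hv hv').imp fun M h => ⟨h.1, h.2.1, h.2.2.1, Or.inl h.2.2.2⟩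
    · push Not at he
      exact (odd_piece hQ hM₁ he hx h1).imp fun M h => ⟨h.1, h.2.1, h.2.2.1, Or.inl h.2.2.2⟩
  · obtain ⟨v, hv, hv'⟩ : ∃ v ∈ M₁, cv g v (ν ^ j * 1) ≠ 0 := by
      by_contra h
      push Not at h
      have h1 : aeval (tau g.1) (ν ^ j * X) x = 0 := hM₁.nd.eq_zero (amem hM₁ _ hx) fun y hy => by
        have := h _ (add_mem hx hy)
        rw [cv_add, h x hx, h y hy, mul_one, zero_add, zero_add, polar_comm] at this
        exact this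
      obtain ⟨a, b, hab⟩ := hν.coprime_iff_not_dvd.2 hX
      apply hx'
      rw [show ν ^ j = a * ν ^ (j + 1) + b * (ν ^ j * X) by linear_combination -ν ^ j * hab, map_add,
        LinearMap.add_apply, aeval_mul_apply, aeval_mul_apply _ b, h0 x hx, h1]
      simp
    exact (n_piece hQ hM₁ hν hX h0 hv hv').imp fun M h => ⟨h.1, h.2.1, h.2.2.1, Or.inl h.2.2.2⟩

theorem ff_any (n : ℕ) : ∀ M₀ : Submodule F V, finrank F M₀ = n → Inv (polarBilin Q) g.1 M₀ →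
    ∃ d : ℤ, |d| ≤ 1 ∧ FF g M₀ d (M₀ ≠ ⊥) False := by
  induction n using Nat.strong_induction_on with
  | _ n ih =>
    intro M₀ hn h₀
    by_cases hne : M₀ = ⊥
    · subst hne
      exact ⟨0, by simp, 1, 1, ⟨mul_one 1, mul_one 1, fun _ _ => rfl, fun _ _ => rfl, by simp⟩,
        by simp, by simp, False.elim⟩
    obtain ⟨M, m1, m2, m3, m4⟩ := exists_piece2 hQ h₀ hne
    obtain ⟨d, d1, d2⟩ : ∃ d : ℤ, |d| ≤ 1 ∧ FF g M d True False := by
      rcases m4 with (h | h) | ⟨v, -, j, -, h1, h2⟩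
      · exact ⟨0, by simp, h.mono rfl id False.elim⟩
      · exact ⟨0, by simp, h.2⟩
      · exact (h2.one (flag_one h1)).elim (fun h => ⟨_, by simp, h⟩) fun h => ⟨_, by simp, h⟩
    obtain ⟨M', b1, b2, rfl, b4⟩ := h₀.split (sy hQ) (isom_of g) m3 m1
    have := Submodule.one_le_finrank_iff.2 m2
    obtain ⟨e, e1, e2⟩ := ih (finrank F M') (by omega) M' rfl b1
    by_cases h : |d + e| ≤ 1
    · exact ⟨_, h, (d2.sup hQ m3.nd b1.nd b2 e2).mono rfl (by simp) False.elim⟩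
    · exact ⟨d + -e, by rw [abs_le] at *; omega,
        (d2.sup hQ m3.nd b1.nd b2 e2.swap).mono rfl (by simp) False.elim⟩

theorem ff_top (hn : 8 ≤ finrank F V) (hg : g ∈ commutator (OG Q)) : FF g ⊤ 0 True True := by
  have h24 : Nat.card F ≠ 2 ∨ finrank F V ≠ 4 := Or.inr (by omega)
  have hT : Inv (polarBilin Q) g.1 ⊤ := ⟨nd_top hQ, fun _ _ => trivial⟩
  have par : ∀ {d : ℤ} {p q : Prop}, |d| ≤ 1 → FF g ⊤ d p q → d = 0 := by
    rintro d p q hd ⟨s, t, h1, h2, -⟩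
    have := ((mem_commutator_iff hQ h24 g).1 hg).1
    rw [show g = s * t from OG.ext fun x => h1.eq x trivial, map_mul, dickson_apply, dickson_apply,
      ← pow_add, neg_one_pow_eq_one_iff_even (by decide), Nat.even_iff] at this
    rw [abs_le] at hd
    omega
  have good : ∀ (M : Submodule F V) (d : ℤ), Inv (polarBilin Q) g.1 M → |d| ≤ 1 →
      FF g M d True True → FF g ⊤ 0 True True := fun M d hM hd h => by
    obtain ⟨M', b1, b2, b3, -⟩ := hT.split (sy hQ) (isom_of g) hM le_top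
    obtain ⟨e, e1, e2⟩ := ff_any hQ _ M' rfl b1
    have a1 := b3 ▸ h.sup hQ hM.nd b1.nd b2 e2
    have a2 := b3 ▸ h.sup hQ hM.nd b1.nd b2 e2.swap
    by_cases h : |d + e| ≤ 1
    · exact a1.mono (par h a1) (by simp) (by simp)
    · exact a2.mono (par (by rw [abs_le] at *; omega) a2) (by simp) (by simp)
  have zp : ∀ M : Submodule F V, Inv (polarBilin Q) g.1 M → Zp g M → FF g ⊤ 0 True True := by
    rintro M hM (h | ⟨h1, h⟩)
    · exact good M 0 hM (by simp) h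
    obtain ⟨M', b1, b2, b3, b4⟩ := hT.split (sy hQ) (isom_of g) hM le_top
    obtain ⟨e, e1, e2⟩ := ff_any hQ _ M' rfl b1
    have a1 := b3 ▸ h.swap.sup hQ hM.nd b1.nd b2 e2
    refine a1.mono (par (by simpa using e1) a1) (fun _ => Or.inr ?_) (by simp)
    rintro rfl
    rw [finrank_bot, finrank_top] at b4
    omega
  obtain ⟨M, -, -, m3, m4⟩ := exists_piece2 hQ hT (by
    rw [← Submodule.one_le_finrank_iff, finrank_top]; omega)
  refine m4.elim (zp M m3) ?_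
  rintro ⟨v, hv, j, v1, v2, v3⟩
  obtain ⟨M', b1, b2, b3, -⟩ := hT.split (sy hQ) (isom_of g) m3 le_top
  obtain ⟨N, n1, -, n3, n4⟩ := exists_piece2 hQ b1 (by
    rintro rfl
    rw [sup_bot_eq] at b3
    exact one_ne_zero (par (by simp) (b3 ▸ v3)))
  refine n4.elim (zp N n3) ?_
  rintro ⟨w, hw, k, w1, w2, w3⟩
  have hMN := n1.trans b2
  have hI := m3.sup (sy hQ) n3 hMN
  have a1 := v3.sup hQ m3.nd n3.nd hMN w3.swap
  have a2 := v3.swap.sup hQ m3.nd n3.nd hMN w3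
  have mix : ∀ (v w : V) (j k : ℕ), k < j → (Even j ↔ Odd k) →
      aeval (tau g.1) (X ^ (j + 1) : F[X]) v = 0 → aeval (tau g.1) (X ^ (k + 1) : F[X]) w = 0 →
      cv g v (X ^ j) ≠ 0 → cv g w (X ^ k) ≠ 0 → (∀ p : F[X], polar Q (aeval (tau g.1) p v) w = 0) →
      FF g ⊤ 0 True True := by
    intro v w j k hjk hp v1 w1 v2 w2 ho
    have fl : ∀ u, aeval (tau g.1) (X ^ (j + 1) : F[X]) u = 0 → cv g u (X ^ j) ≠ 0 →
        cv g u (X ^ k) ≠ 0 → FF g ⊤ 0 True True := fun u u1 u2 u3 => by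
      obtain ⟨M, -, -, m3, -, -, m6⟩ := v_piece hQ hT trivial u1 u2
      rcases Nat.even_or_odd j with e | e
      · exact good M 1 m3 (by simp) (m6.mono rfl (fun _ => (flag_par u2).1 e)
          fun _ => (flag_par u3).2 (hp.1 e))
      · exact good M 1 m3 (by simp) (m6.mono rfl (fun _ => (flag_par u3).1 (by
          rw [← Nat.not_odd_iff_even, ← hp, Nat.not_even_iff_odd]; exact e))
          fun _ => (flag_par u2).2 e)
    by_cases h : cv g v (X ^ k) = 0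
    · refine fl (v + w) (by rw [map_add, v1, aeval_ge w1 (by omega), add_zero]) ?_
        (by rwa [cv_add, h, ho, zero_add, add_zero])
      rwa [cv_add, ho, cv, cv, ← g_aeval _ _ w, aeval_ge w1 hjk, map_zero, polar_zero_left, add_zero,
        add_zero]
    · exact fl v v1 v2 h
  have o1 : ∀ p : F[X], polar Q (aeval (tau g.1) p v) w = 0 := fun p => hMN hw _ (amem m3 p hv)
  have o2 : ∀ p : F[X], polar Q (aeval (tau g.1) p w) v = 0 := fun p => by rw [padj, polar_comm, o1]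
  by_cases hp : Even j ↔ Odd k
  · rcases lt_trichotomy k j with h | rfl | h
    · exact mix v w j k h hp (v1 v hv) (w1 w hw) v2 w2 o1
    · simp [← Nat.not_odd_iff_even] at hp
    · exact mix w v k j h (by rw [← Nat.not_odd_iff_even, ← hp, Nat.not_even_iff_odd]) (w1 w hw)
        (v1 v hv) w2 v2 o2
  · rcases Nat.even_or_odd j with e | e
    · exact good _ _ hI (by simp) (a1.mono rfl (fun _ => Or.inl ((flag_par v2).1 e))
        fun _ => Or.inr ((flag_par w2).1 (by rw [← Nat.not_odd_iff_even]; tauto)))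
    · exact good _ _ hI (by simp) (a2.mono rfl (fun _ => Or.inl ((flag_par v2).2 e))
        fun _ => Or.inr ((flag_par w2).2 (by rw [← Nat.not_even_iff_odd] at e; tauto)))

end two

/-- Ore's property for `Ω(V)` in even dimension -/
theorem comm_omega_all [FiniteDimensional F V] [Fintype F] (hQ : (polarBilin Q).Nondegenerate)
    (hn : 8 ≤ finrank F V) (hn' : Even (finrank F V)) (hg : g ∈ commutator (OG Q)) :
    ∃ a ∈ commutator (OG Q), ∃ b ∈ commutator (OG Q), g = a * b * a⁻¹ * b⁻¹ := by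
  by_cases h2 : (2 : F) = 0
  · have := CharTwo.of_one_ne_zero_of_two_eq_zero one_ne_zero h2
    obtain ⟨s, t, h1, h3, h4, h5⟩ := ff_top hQ hn hg
    rw [show g = s * t from OG.ext fun x => h1.eq x trivial]
    exact comm_two hQ (by omega) h1.ss h1.tt (by omega) (h4 trivial) (h5 trivial)
  · exact comm_omega_even hQ h2 hn hn' hg

end CfsgLib.OmOre
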